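import Groth.Agent.GRModel.Const
import Mathlib.Algebra.Algebra.Operations

/-!
# A homogeneous combination attaining the maximal pole at finitely many places
-/

noncomputable section

set_option autoImplicit false

namespace Groth.Agent.GRModel

open FunFld WithZero Groth.Agent.FFLib

variable {k K : Type*} [Field k] [Field K] [Algebra k K]

theorem val_le_pow {V : Submodule k K} {E : Divisor k K} (hV : V ≤ L E) (P : Place k K) {m : ℕ} {g : K}
    (hg : g ∈ V ^ m) : P.1 g ≤ exp ((m : ℤ) * E P) := by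
  induction m generalizing g with
  | zero =>
    rw [pow_zero, Submodule.mem_one] at hg
    obtain ⟨c, rfl⟩ := hg
    simpa using P.2.1 c
  | succ m ih =>
    rw [pow_succ] at hg
    refine Submodule.mul_induction_on hg (fun a ha b hb => ?_) (fun a b ha hb => ?_)
    · rw [map_mul, show ((m + 1 : ℕ) : ℤ) * E P = m * E P + E P by push_cast; ring, exp_add]
      exact mul_le_mul' (ih ha) (hV hb P)
    · exact (P.1.map_add a b).trans (max_le ha hb)

theorem prod_mem_prod {ι : Type*} (s : Finset ι) (V : ι → Submodule k K) (g : ι → K)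
    (h : ∀ i ∈ s, g i ∈ V i) : ∏ i ∈ s, g i ∈ ∏ i ∈ s, V i := by
  classical
  induction s using Finset.induction_on with
  | empty => simp
  | insert a s ha ih =>
    rw [Finset.prod_insert ha, Finset.prod_insert ha]
    exact Submodule.mul_mem_mul (h a (Finset.mem_insert_self a s)) (ih fun i hi => h i (Finset.mem_insert_of_mem hi))

/-- `g` attains the maximal pole of `V ^ m` at `P`. -/
def Att (E : Divisor k K) (P : Place k K) (m : ℕ) (g : K) : Prop := P.1 g = exp ((m : ℤ) * E P)

theorem Att.mul {E : Divisor k K} {P : Place k K} {m n : ℕ} {g h : K} (hg : Att E P m g) (hh : Att E P n h) :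
    Att E P (m + n) (g * h) := by
  unfold Att at *
  rw [map_mul, hg, hh, ← exp_add]; congr 1; push_cast; ring

theorem Att.pow {E : Divisor k K} {P : Place k K} {m : ℕ} {g : K} (hg : Att E P m g) (n : ℕ) :
    Att E P (m * n) (g ^ n) := by
  induction n with
  | zero => simp [Att]
  | succ n ih => rw [pow_succ, Nat.mul_succ]; exact ih.mul hg

theorem Att.prod {E : Divisor k K} {P : Place k K} {ι : Type*} (s : Finset ι) (m : ι → ℕ) (g : ι → K)
    (h : ∀ i ∈ s, Att E P (m i) (g i)) : Att E P (∑ i ∈ s, m i) (∏ i ∈ s, g i) := by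
  classical
  induction s using Finset.induction_on with
  | empty => simp [Att]
  | insert a s ha ih =>
    rw [Finset.sum_insert ha, Finset.prod_insert ha]
    exact (h a (Finset.mem_insert_self a s)).mul (ih fun i hi => h i (Finset.mem_insert_of_mem hi))

theorem exists_attain {V : Submodule k K} {E : Divisor k K} (hV : V ≤ L E) (S : Finset (Place k K))
    (hS : ∀ P ∈ S, ∃ s ∈ V, Att E P 1 s) :
    ∃ m : ℕ, 0 < m ∧ ∃ g ∈ V ^ m, ∀ P ∈ S, Att E P m g := by
  classical
  induction S using Finset.strongInduction with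
  | _ S ih =>
    by_cases hdep : ∃ P ∈ S, ∃ Q ∈ S, P ≠ Q ∧ ∀ m : ℕ, 0 < m → ∀ g ∈ V ^ m, Att E Q m g → Att E P m g
    · obtain ⟨P, hP, Q, hQ, hne, himp⟩ := hdep
      obtain ⟨m, hm, g, hg, hall⟩ := ih (S.erase P) (Finset.erase_ssubset hP)
        fun R hR => hS R (Finset.mem_of_mem_erase hR)
      refine ⟨m, hm, g, hg, fun R hR => ?_⟩
      rcases eq_or_ne R P with rfl | hRP
      · exact himp m hm g hg (hall Q (Finset.mem_erase.2 ⟨hne.symm, hQ⟩))
      · exact hall R (Finset.mem_erase.2 ⟨hRP, hR⟩)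
    push Not at hdep
    have hsep : ∀ Q : S, ∀ P : S, ∃ m : ℕ, ∃ t ∈ V ^ m, Att E Q.1 m t ∧ (P ≠ Q → ¬ Att E P.1 m t) := by
      intro Q P
      by_cases h : P = Q
      · exact ⟨0, 1, by simp, by simp [Att], fun h' => absurd h h'⟩
      · obtain ⟨m, -, t, ht, h1, h2⟩ := hdep P.1 P.2 Q.1 Q.2 fun e => h (Subtype.ext e)
        exact ⟨m, t, ht, h1, fun _ => h2⟩
    choose mm tt htV htQ htP using hsep
    choose s hsV hsA using fun Q : S => hS Q.1 Q.2
    let d : S → ℕ := fun Q => 1 + ∑ P, mm Q P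
    let T : S → K := fun Q => s Q * ∏ P, tt Q P
    have hTV : ∀ Q, T Q ∈ V ^ d Q := fun Q => by
      rw [show d Q = 1 + ∑ P, mm Q P from rfl, pow_add, pow_one, ← Finset.prod_pow_eq_pow_sum]
      refine Submodule.mul_mem_mul (hsV Q) ?_
      exact prod_mem_prod _ _ _ fun P _ => htV Q P
    have hTQ : ∀ Q, Att E Q.1 (d Q) (T Q) := fun Q =>
      (hsA Q).mul (Att.prod _ _ _ fun P _ => htQ Q P)
    have hlt : ∀ Q P : S, P ≠ Q → P.1.1 (T Q) < exp ((d Q : ℤ) * E P.1) := by
      intro Q P hPQ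
      refine lt_of_le_of_ne (val_le_pow hV P.1 (hTV Q)) fun heq => htP Q P hPQ ?_
      set A := ∏ R ∈ Finset.univ.erase P, tt Q R with hA
      have hAmem : s Q * A ∈ V ^ (1 + ∑ R ∈ Finset.univ.erase P, mm Q R) := by
        rw [pow_add, pow_one, ← Finset.prod_pow_eq_pow_sum]
        exact Submodule.mul_mem_mul (hsV Q) (prod_mem_prod _ _ _ fun R _ => htV Q R)
      have e1 : T Q = (s Q * A) * tt Q P := by
        simp only [T, hA, ← Finset.prod_erase_mul _ _ (Finset.mem_univ P)]; ring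
      have e2 : d Q = (1 + ∑ R ∈ Finset.univ.erase P, mm Q R) + mm Q P := by
        simp only [d, ← Finset.sum_erase_add _ _ (Finset.mem_univ P)]; ring
      rw [e1, map_mul, e2, Nat.cast_add, add_mul, exp_add] at heq
      have h1 := val_le_pow hV P.1 hAmem
      have h2 := val_le_pow hV P.1 (htV Q P)
      by_contra hne
      have h2' : P.1.1 (tt Q P) < exp ((mm Q P : ℤ) * E P.1) := lt_of_le_of_ne h2 hne
      have : P.1.1 (s Q * A) * P.1.1 (tt Q P) <
          exp (((1 + ∑ R ∈ Finset.univ.erase P, mm Q R : ℕ) : ℤ) * E P.1) * exp ((mm Q P : ℤ) * E P.1) :=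
        lt_of_le_of_lt (mul_le_mul' h1 le_rfl) (mul_lt_mul_of_pos_left h2' exp_pos)
      exact this.ne heq
    let M := ∏ Q : S, d Q
    have hd : ∀ Q, 0 < d Q := fun Q => by simp [d]
    have hM : 0 < M := Finset.prod_pos fun Q _ => hd Q
    have hdvd : ∀ Q, d Q * (M / d Q) = M := fun Q =>
      Nat.mul_div_cancel' (Finset.dvd_prod_of_mem d (Finset.mem_univ Q))
    refine ⟨M, hM, ∑ Q, T Q ^ (M / d Q), ?_, fun P hP => ?_⟩
    · refine sum_mem fun Q _ => ?_
      have := Submodule.pow_mem_pow _ (hTV Q) (M / d Q)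
      rwa [← pow_mul, hdvd] at this
    · have hmain : Att E P M (T ⟨P, hP⟩ ^ (M / d ⟨P, hP⟩)) := by
        have := (hTQ ⟨P, hP⟩).pow (M / d ⟨P, hP⟩)
        rwa [hdvd] at this
      refine (P.1.map_sum_eq_of_lt (Finset.mem_univ (⟨P, hP⟩ : S)) fun Q hQ => ?_).trans hmain
      simp only [Finset.mem_sdiff, Finset.mem_univ, Finset.mem_singleton, true_and] at hQ
      rw [hmain, map_pow]
      have hpos : M / d Q ≠ 0 := fun e => hM.ne' (by rw [← hdvd Q, e, mul_zero])
      refine (pow_lt_pow_left₀ (hlt Q ⟨P, hP⟩ (Ne.symm hQ)) zero_le hpos).trans_le (le_of_eq ?_)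
      rw [← exp_nsmul, nsmul_eq_mul, ← mul_assoc, ← Nat.cast_mul, mul_comm (M / d Q), hdvd]

end Groth.Agent.GRModel
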