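import Groth.Agent.HTopAwn.PtFun
import Mathlib.RingTheory.AdicCompletion.RingHom
import Mathlib.RingTheory.AdicCompletion.Algebra
import Mathlib.RingTheory.Algebraic.Integral
import Mathlib.RingTheory.Artinian.Module
import Mathlib.RingTheory.Flat.Basic

/-!
# Lattices cut out by one divisorial valuation are finitely generated
-/

noncomputable section

set_option autoImplicit false
set_option backward.isDefEq.respectTransparency false

universe u

namespace Groth.Agent.GRModel

open IsLocalRing TensorProduct Polynomial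

variable {R : Type u} [CommRing R] [IsDomain R] [IsDiscreteValuationRing R]
variable {F : Type u} [Field F] [Algebra R F]
variable (V : ValuationSubring F) (hR : ∀ r, algebraMap R F r ∈ V)

/-- The base ring inside the valuation ring. -/
def inV : R →+* V := (algebraMap R F).codRestrict V hR

variable [IsDiscreteValuationRing V]

/-- Combinations with coefficients in `R` which are deep in the valuation ring. -/
def deep {d : ℕ} (b : Fin d → V) (N : ℕ) : Submodule R (Fin d → R) where
  carrier := {a | ∑ i, inV V hR (a i) * b i ∈ maximalIdeal V ^ N}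
  add_mem' {x y} hx hy := by
    show ∑ i, inV V hR ((x + y) i) * b i ∈ maximalIdeal V ^ N
    simp only [Pi.add_apply, map_add, add_mul, Finset.sum_add_distrib]
    exact add_mem hx hy
  zero_mem' := by simp
  smul_mem' c x hx := by
    show ∑ i, inV V hR ((c • x) i) * b i ∈ maximalIdeal V ^ N
    simp only [Pi.smul_apply, smul_eq_mul, map_mul, mul_assoc, ← Finset.mul_sum]
    exact Ideal.mul_mem_left _ _ hx

theorem map_pow_le (hloc : ∀ r ∈ maximalIdeal R, inV V hR r ∈ maximalIdeal V) (n : ℕ) :
    maximalIdeal R ^ n ≤ (maximalIdeal V ^ n).comap (inV V hR) := by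
  rw [← Ideal.map_le_iff_le_comap, Ideal.map_pow]
  exact Ideal.pow_right_mono (Ideal.map_le_iff_le_comap.2 hloc) n

/-- A compatible system of coefficients deep at every level, unless the levels are bounded. -/
theorem exists_limit {d : ℕ} (b : Fin d → V) (hloc : ∀ r ∈ maximalIdeal R, inV V hR r ∈ maximalIdeal V)
    (h : ∀ N : ℕ, ∃ a ∈ deep V hR b N, ∃ i, a i ∉ maximalIdeal R) :
    ∃ a : ℕ → Fin d → R, (∀ n i, a n i - a (n + 1) i ∈ maximalIdeal R ^ n) ∧
      (∀ n, a n ∈ deep V hR b n) ∧ ∃ i, a 1 i ∉ maximalIdeal R := by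
  classical
  let I := maximalIdeal R
  let π : ∀ j : ℕ, (Fin d → R) →ₗ[R] (Fin d → R ⧸ I ^ j) := fun j =>
    LinearMap.pi fun i => (Submodule.mkQ (I ^ j)).comp (LinearMap.proj i)
  have hπ : ∀ j x y, π j x = π j y ↔ ∀ i, x i - y i ∈ I ^ j := fun j x y => by
    rw [funext_iff]
    exact forall_congr' fun i => (Submodule.Quotient.eq _)
  have hanti : ∀ {N N'}, N ≤ N' → deep V hR b N' ≤ deep V hR b N := fun h x hx => Ideal.pow_le_pow_right h hx
  have hstab : ∀ j, ∃ N₀, ∀ N, N₀ ≤ N → (deep V hR b N₀).map (π j) = (deep V hR b N).map (π j) := by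
    intro j
    haveI : IsArtinianRing (R ⧸ I ^ j) := by
      rcases eq_or_ne j 0 with rfl | hj
      · haveI : Subsingleton (R ⧸ I ^ 0) := Ideal.Quotient.subsingleton_iff.2 (by simp)
        infer_instance
      haveI : IsLocalRing (R ⧸ I ^ j) := by
        haveI : Nontrivial (R ⧸ I ^ j) := Ideal.Quotient.nontrivial_iff.2
          (fun e => (maximalIdeal.isMaximal R).ne_top (top_le_iff.1 (e ▸ Ideal.pow_le_self hj)))
        exact IsLocalRing.of_surjective' (Ideal.Quotient.mk _) Ideal.Quotient.mk_surjective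
      rw [isArtinianRing_iff_isNilpotent_maximalIdeal]
      refine ⟨j, ?_⟩
      rw [← IsLocalRing.map_maximalIdeal_of_surjective (Ideal.Quotient.mk (I ^ j))
        Ideal.Quotient.mk_surjective, ← Ideal.map_pow]
      exact Ideal.map_quotient_self _
    haveI : IsArtinian R (R ⧸ I ^ j) :=
      isArtinian_of_surjective_algebraMap (R := R ⧸ I ^ j) Ideal.Quotient.mk_surjective
    haveI : IsArtinian R (Fin d → R ⧸ I ^ j) := inferInstance
    exact IsArtinian.monotone_stabilizes
      ⟨fun N => OrderDual.toDual ((deep V hR b N).map (π j)), fun _ _ h => Submodule.map_mono (hanti h)⟩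
  choose N₀ hN₀ using hstab
  let G : ℕ → (Fin d → R) → Prop := fun j y => ∀ N, ∃ z ∈ deep V hR b N, π j z = π j y
  have hG : ∀ j z, z ∈ deep V hR b (N₀ j) → G j z := fun j z hz N => by
    have : π j z ∈ (deep V hR b (max (N₀ j) N)).map (π j) := hN₀ j _ (le_max_left _ _) ▸ ⟨z, hz, rfl⟩
    obtain ⟨w, hw, he⟩ := this
    exact ⟨w, hanti (le_max_right _ _) hw, he⟩
  have hstep : ∀ j y, G j y → ∃ z, G (j + 1) z ∧ ∀ i, y i - z i ∈ I ^ j := fun j y hy => by
    obtain ⟨z, hz, he⟩ := hy (N₀ (j + 1))
    exact ⟨z, hG _ z hz, (hπ j y z).1 he.symm⟩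
  choose! next hnext hnext' using hstep
  obtain ⟨a₀, ha₀, i₀, hi₀⟩ := h (N₀ 1)
  let a : ℕ → Fin d → R := fun n => Nat.rec a₀ (fun m y => next (m + 1) y) n
  have haG : ∀ n, G (n + 1) (a n) := fun n => by
    induction n with
    | zero => exact hG 1 a₀ ha₀
    | succ n ih => exact hnext (n + 1) _ ih
  refine ⟨a, fun n i => Ideal.pow_le_pow_right n.le_succ (hnext' (n + 1) _ (haG n) i), fun n => ?_, i₀, ?_⟩
  · obtain ⟨z, hz, he⟩ := haG n n
    have : a n - z ∈ deep V hR b n := by
      refine Ideal.sum_mem _ fun i _ => Ideal.mul_mem_right _ _ (map_pow_le V hR hloc n ?_)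
      exact Ideal.pow_le_pow_right n.le_succ ((hπ (n + 1) (a n) z).1 he.symm i)
    simpa using add_mem this hz
  · intro h1
    have h2 : a₀ i₀ - a 1 i₀ ∈ I ^ (0 + 1) := hnext' (0 + 1) _ (haG 0) i₀
    rw [pow_one] at h2
    have h3 : a₀ i₀ - a 1 i₀ + a 1 i₀ ∈ I := I.add_mem h2 h1
    rw [sub_add_cancel] at h3
    exact hi₀ h3

variable [Algebra (FractionRing R) F] [IsScalarTower R (FractionRing R) F]

/-- The field `F` embeds compatibly in the fraction field of the completion of `V`: no nonzero
combination of a linearly independent family has a limit zero. -/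
theorem exists_bound {d : ℕ} (b : Fin d → V) (hb : LinearIndependent (FractionRing R) fun i => (b i : F))
    (hloc : ∀ r ∈ maximalIdeal R, inV V hR r ∈ maximalIdeal V)
    (f : V) (hf : ∀ p : R[X], p.eval₂ (inV V hR) f ∈ maximalIdeal V → ∀ n, p.coeff n ∈ maximalIdeal R)
    (halg : ∀ y : F, IsAlgebraic (Algebra.adjoin (FractionRing R) {(f : F)}) y)
    (hdom : ∀ (L : Type u) [Field L] [Algebra (FractionRing R) L], IsDomain (L ⊗[FractionRing R] F)) :
    ∃ N : ℕ, ∀ a ∈ deep V hR b N, ∀ i, a i ∈ maximalIdeal R := by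
  classical
  by_contra hno
  push Not at hno
  obtain ⟨a, ha, had, i₀, hi₀⟩ := exists_limit V hR b hloc hno
  let K := FractionRing R
  let I := maximalIdeal R
  let J := maximalIdeal V
  let Rh := AdicCompletion I R
  let Vh := AdicCompletion J V
  obtain ⟨_, _, hRinj⟩ := HTopAwn.isDVR_completion (V := R)
  obtain ⟨_, _, hVinj⟩ := HTopAwn.isDVR_completion (V := V)
  let g : ∀ n, Rh →+* V ⧸ J ^ n := fun n =>
    (Ideal.quotientMap (J ^ n) (inV V hR) (map_pow_le V hR hloc n)).comp (AdicCompletion.evalₐ I n).toRingHom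
  have hmk : ∀ (s : AdicCompletion.AdicCauchySequence I R) n,
      g n (AdicCompletion.mk I R s) = Ideal.Quotient.mk (J ^ n) (inV V hR (s n)) := fun s n => by
    simp only [g, RingHom.comp_apply, AlgHom.toRingHom_eq_coe, RingHom.coe_coe]
    erw [AdicCompletion.evalₐ_mk, Ideal.quotientMap_mk]
  have hg : ∀ {m n : ℕ} (hle : m ≤ n), (Ideal.Quotient.factorPow J hle).comp (g n) = g m := by
    intro m n hle
    refine RingHom.ext fun x => ?_
    obtain ⟨s, rfl⟩ := AdicCompletion.mk_surjective I R x
    rw [RingHom.comp_apply, hmk, hmk, Ideal.Quotient.factor_mk, eq_comm, Ideal.Quotient.eq, ← map_sub]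
    have h := AdicCompletion.AdicCauchySequence.mk_eq_mk (I := I) (M := R) hle s
    rw [Submodule.Quotient.eq] at h
    refine map_pow_le V hR hloc m ?_
    have h' : s n - s m ∈ I ^ m := by simpa using h
    simpa using (I ^ m).neg_mem h'
  let ρ : Rh →+* Vh := AdicCompletion.liftRingHom J g hg
  have hρ : ∀ (x : Rh) n, AdicCompletion.evalₐ J n (ρ x) = g n x := fun x n => AdicCompletion.evalₐ_liftRingHom J g hg n x
  have hof : ∀ r : R, ρ (algebraMap R Rh r) = algebraMap V Vh (inV V hR r) := fun r => by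
    refine AdicCompletion.ext_evalₐ fun n => ?_
    rw [hρ, AlgHom.commutes, Ideal.Quotient.algebraMap_eq]
    simp only [g, RingHom.comp_apply, AlgHom.toRingHom_eq_coe, RingHom.coe_coe]
    show Ideal.quotientMap _ _ _ (AdicCompletion.evalₐ I n (algebraMap R (AdicCompletion I R) r)) = _
    rw [(AdicCompletion.evalₐ I n).commutes r]
    rfl
  have hsep : Function.Injective ρ := by
    obtain ⟨ϖ, hϖ⟩ := IsDiscreteValuationRing.exists_irreducible R
    have hne : ρ (algebraMap R Rh ϖ) ≠ 0 := by
      rw [hof, ne_eq, map_eq_zero_iff _ hVinj]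
      intro e
      have h1 := congrArg Subtype.val e
      exact hϖ.ne_zero (IsFractionRing.injective R K ((algebraMap K F).injective (by
        rw [← IsScalarTower.algebraMap_apply, map_zero, map_zero]; exact h1)))
    rw [RingHom.injective_iff_ker_eq_bot]
    by_contra hk
    have hmem : algebraMap R Rh ϖ ∈ maximalIdeal Rh := by
      rw [AdicCompletion.maximalIdeal_eq_map]
      exact Ideal.mem_map_of_mem _ hϖ.not_isUnit
    haveI : (RingHom.ker ρ).IsPrime := RingHom.ker_isPrime ρ
    exact hne (RingHom.mem_ker.1 (by rwa [eq_maximalIdeal (Ideal.IsPrime.isMaximal ‹_› hk)]))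
  let M := FractionRing Vh
  let Kh := FractionRing Rh
  let ψ : F →+* M := IsFractionRing.lift (A := V) (g := (algebraMap Vh M).comp (algebraMap V Vh))
    ((IsFractionRing.injective Vh M).comp hVinj)
  have hψ : ∀ v : V, ψ (v : F) = algebraMap Vh M (algebraMap V Vh v) := fun v =>
    IsFractionRing.lift_algebraMap _ v
  let ρ' : Kh →+* M := IsFractionRing.lift (A := Rh) (g := (algebraMap Vh M).comp ρ)
    ((IsFractionRing.injective Vh M).comp hsep)
  have hρ' : ∀ x : Rh, ρ' (algebraMap Rh Kh x) = algebraMap Vh M (ρ x) := fun x =>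
    IsFractionRing.lift_algebraMap _ x
  letI : Algebra K Kh := (IsFractionRing.lift (A := R) (g := (algebraMap Rh Kh).comp (algebraMap R Rh))
    ((IsFractionRing.injective Rh Kh).comp hRinj)).toAlgebra
  have hKh : ∀ r : R, algebraMap K Kh (algebraMap R K r) = algebraMap Rh Kh (algebraMap R Rh r) := fun r =>
    IsFractionRing.lift_algebraMap _ r
  letI : Algebra K M := (ψ.comp (algebraMap K F)).toAlgebra
  let ψ' : F →ₐ[K] M := { ψ with commutes' := fun _ => rfl }
  let ρ'' : Kh →ₐ[K] M :=
    { ρ' with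
      commutes' := fun c => by
        refine RingHom.congr_fun (IsLocalization.ringHom_ext (nonZeroDivisors R)
          (j := ρ'.comp (algebraMap K Kh)) (k := algebraMap K M) (RingHom.ext fun r => ?_)) c
        show ρ' (algebraMap K Kh (algebraMap R K r)) = ψ (algebraMap K F (algebraMap R K r))
        rw [hKh, hρ', hof, ← hψ, ← IsScalarTower.algebraMap_apply R K F]
        rfl }
  haveI : IsDomain (Kh ⊗[K] F) := hdom Kh
  let Φ : Kh ⊗[K] F →ₐ[K] M := Algebra.TensorProduct.lift ρ'' ψ' fun _ _ => Commute.all _ _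
  have hΦ : ∀ x y, Φ (x ⊗ₜ y) = ρ' x * ψ y := fun x y => Algebra.TensorProduct.lift_tmul _ _ _ x y
  -- `f` is transcendental over the completed field
  have htrans : ∀ q : Kh[X], q.eval₂ ρ' (ψ (f : F)) = 0 → q = 0 := by
    intro q hq
    by_contra hq0
    obtain ⟨c, hc, hc'⟩ := IsLocalization.integerNormalization_spec (nonZeroDivisors Rh) q
    set q' := IsLocalization.integerNormalization (nonZeroDivisors Rh) q
    have hc0 : algebraMap Rh Kh c ≠ 0 := (map_ne_zero_iff _ (IsFractionRing.injective Rh Kh)).2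
      (nonZeroDivisors.ne_zero hc)
    have hq'C : q'.map (algebraMap Rh Kh) = Polynomial.C (algebraMap Rh Kh c) * q := by
      rw [hc', ← Polynomial.smul_eq_C_mul, algebraMap_smul]
    have hq'0 : q' ≠ 0 := fun e => by
      rw [e, Polynomial.map_zero, eq_comm, mul_eq_zero, Polynomial.C_eq_zero] at hq'C
      tauto
    obtain ⟨t, ht⟩ := IsDiscreteValuationRing.exists_irreducible Rh
    have hne : q'.support.Nonempty := Polynomial.support_nonempty.2 hq'0
    choose! e he using fun n (hn : q'.coeff n ≠ 0) => IsDiscreteValuationRing.associated_pow_irreducible hn ht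
    obtain ⟨n₀, hn₀, hmin⟩ := q'.support.exists_min_image e hne
    rw [Polynomial.mem_support_iff] at hn₀
    have hdvd : Polynomial.C (t ^ e n₀) ∣ q' := by
      rw [Polynomial.C_dvd_iff_dvd_coeff]
      intro n
      by_cases hn : q'.coeff n = 0
      · rw [hn]; exact dvd_zero _
      · exact (pow_dvd_pow t (hmin n (Polynomial.mem_support_iff.2 hn))).trans (he n hn).symm.dvd
    obtain ⟨p, hp⟩ := hdvd
    have hunit : IsUnit (p.coeff n₀) := by
      obtain ⟨u, hu⟩ := (he n₀ hn₀).symm
      rw [hp, Polynomial.coeff_C_mul] at hu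
      exact ⟨u, mul_left_cancel₀ (pow_ne_zero _ ht.ne_zero) hu⟩
    have hp0 : p.eval₂ ρ (algebraMap V Vh f) = 0 := by
      have h1 : (q'.map (algebraMap Rh Kh)).eval₂ ρ' (ψ (f : F)) = 0 := by
        rw [hq'C, Polynomial.eval₂_mul, hq, mul_zero]
      rw [Polynomial.eval₂_map, hψ, show ρ'.comp (algebraMap Rh Kh) = (algebraMap Vh M).comp ρ from
        RingHom.ext hρ', ← Polynomial.hom_eval₂, map_eq_zero_iff _ (IsFractionRing.injective Vh M),
        hp, Polynomial.eval₂_mul, Polynomial.eval₂_C, mul_eq_zero, map_eq_zero_iff _ hsep] at h1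
      exact h1.resolve_left (pow_ne_zero _ ht.ne_zero)
    choose lift hlift using fun n => Ideal.Quotient.mk_surjective (AdicCompletion.evalₐ I 1 (p.coeff n))
    let p₀ : R[X] := ∑ n ∈ Finset.range (p.natDegree + 1), Polynomial.monomial n (lift n)
    have h2 : p₀.eval₂ (inV V hR) f ∈ J ^ 1 := by
      rw [← Ideal.Quotient.eq_zero_iff_mem]
      have h3 := congrArg (AdicCompletion.evalₐ J 1) hp0
      rw [map_zero, Polynomial.eval₂_eq_sum_range, map_sum] at h3
      rw [← h3, Polynomial.eval₂_finsetSum, map_sum]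
      refine Finset.sum_congr rfl fun n _ => ?_
      rw [Polynomial.eval₂_monomial, map_mul, map_mul, map_pow, map_pow, hρ]
      congr 1
      simp only [g, RingHom.comp_apply, AlgHom.toRingHom_eq_coe, RingHom.coe_coe]
      show _ = Ideal.quotientMap _ _ _ (AdicCompletion.evalₐ I 1 (p.coeff n))
      rw [← hlift n, Ideal.quotientMap_mk]
    rw [pow_one] at h2
    have h4 := hf p₀ h2 n₀
    have hle : n₀ < p.natDegree + 1 := Nat.lt_succ_of_le (Polynomial.le_natDegree_of_ne_zero hunit.ne_zero)
    rw [Polynomial.finset_sum_coeff, Finset.sum_eq_single n₀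
      (fun m _ hm => by rw [Polynomial.coeff_monomial, if_neg hm])
      (fun h => absurd (Finset.mem_range.2 hle) h), Polynomial.coeff_monomial, if_pos rfl] at h4
    have h5 : AdicCompletion.evalₐ I 1 (p.coeff n₀) = 0 := by
      rw [← hlift n₀, Ideal.Quotient.eq_zero_iff_mem, pow_one]; exact h4
    haveI : Nontrivial (R ⧸ I ^ 1) := Ideal.Quotient.nontrivial_iff.2
      (by rw [pow_one]; exact (maximalIdeal.isMaximal R).ne_top)
    exact not_isUnit_zero (h5 ▸ hunit.map (AdicCompletion.evalₐ I 1))
  have hker : Function.Injective Φ := by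
    rw [injective_iff_map_eq_zero]
    intro z hz
    by_contra hz0
    let X₁ : Kh ⊗[K] F := 1 ⊗ₜ (f : F)
    let A := Algebra.adjoin Kh {X₁}
    have hzalg : IsAlgebraic A z := by
      clear hz hz0
      induction z using TensorProduct.induction_on with
      | zero => exact isAlgebraic_zero
      | add x y hx hy => exact hx.add hy
      | tmul x y =>
        have h1 : IsAlgebraic A (x ⊗ₜ[K] (1 : F)) :=
          isAlgebraic_algebraMap (A := Kh ⊗[K] F) (⟨_, A.algebraMap_mem x⟩ : A)
        have h2 : IsAlgebraic A ((1 : Kh) ⊗ₜ[K] y) := by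
          let inc : F →ₐ[K] Kh ⊗[K] F := Algebra.TensorProduct.includeRight
          have hincA : ∀ w ∈ Algebra.adjoin K {(f : F)}, inc w ∈ A := by
            intro w hw
            induction hw using Algebra.adjoin_induction with
            | mem s hs =>
              rw [Set.mem_singleton_iff.1 hs]
              exact Algebra.subset_adjoin rfl
            | algebraMap c =>
              rw [AlgHom.commutes, IsScalarTower.algebraMap_apply K Kh]
              exact A.algebraMap_mem _
            | add a b _ _ ha hb => rw [map_add]; exact add_mem ha hb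
            | mul a b _ _ ha hb => rw [map_mul]; exact mul_mem ha hb
          exact IsAlgebraic.ringHom_of_comp_eq
            (R := Algebra.adjoin K {(f : F)}) (A := F) (S := A) (B := Kh ⊗[K] F)
            ((inc.toRingHom.comp (Algebra.adjoin K {(f : F)}).val.toRingHom).codRestrict A fun w => hincA w.1 w.2)
            inc.toRingHom (halg y) (fun a b h => Subtype.ext (inc.toRingHom.injective (congrArg Subtype.val h)))
            (RingHom.ext fun _ => rfl)
        simpa using h1.mul h2
    obtain ⟨r, hr0, w, hw⟩ := hzalg.exists_nonzero_dvd (mem_nonZeroDivisors_of_ne_zero hz0)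
    obtain ⟨q, hq⟩ : r.1 ∈ (Polynomial.aeval (R := Kh) X₁).range := by
      rw [← Algebra.adjoin_singleton_eq_range_aeval]; exact r.2
    have hΦr : Φ r.1 = 0 := by
      rw [show r.1 = algebraMap A (Kh ⊗[K] F) r from rfl, hw, map_mul, hz, zero_mul]
    have hq0 : q.eval₂ ρ' (ψ (f : F)) = 0 := by
      rw [← hΦr, ← hq]
      show _ = Φ.toRingHom (Polynomial.aeval X₁ q)
      rw [Polynomial.aeval_def, Polynomial.hom_eval₂ q _ Φ.toRingHom]
      congr 1
      · ext x; show _ = Φ (x ⊗ₜ 1); rw [hΦ, map_one, mul_one]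
      · show _ = Φ X₁; rw [hΦ, map_one, one_mul]
    exact hr0 (Subtype.ext (by rw [← hq, htrans q hq0, map_zero]; rfl))
  -- the limit
  let s : Fin d → AdicCompletion.AdicCauchySequence I R := fun i =>
    AdicCompletion.AdicCauchySequence.mk I R (fun n => a n i) fun n => by
      rw [SModEq.sub_mem]; simpa using ha n i
  let x : Fin d → Rh := fun i => AdicCompletion.mk I R (s i)
  have hx0 : ∑ i, ρ (x i) * algebraMap V Vh (b i) = 0 := by
    refine AdicCompletion.ext_evalₐ fun n => ?_
    rw [map_sum, map_zero]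
    simp only [map_mul, hρ, x, hmk]
    have h1 := Ideal.Quotient.eq_zero_iff_mem.2 (had n)
    rw [map_sum] at h1
    simp only [map_mul] at h1
    refine Eq.trans (Finset.sum_congr rfl fun i _ => ?_) h1
    congr 1
  have hz : ∑ i, (algebraMap Rh Kh (x i)) ⊗ₜ[K] (b i : F) = 0 := by
    apply hker
    rw [map_sum, map_zero]
    simp only [hΦ, hρ', hψ, ← map_mul]
    rw [← map_sum, hx0, map_zero]
  have hlin : LinearMap.lTensor Kh (Fintype.linearCombination K fun i => (b i : F))
      (∑ i, (algebraMap Rh Kh (x i)) ⊗ₜ[K] (Pi.single i (1 : K) : Fin d → K)) = 0 := by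
    rw [map_sum, ← hz]
    refine Finset.sum_congr rfl fun i _ => ?_
    simp
  rw [map_eq_zero_iff _ (Module.Flat.lTensor_preserves_injective_linearMap _
    (hb.fintypeLinearCombination_injective))] at hlin
  have h6 := congrArg (fun v => TensorProduct.piScalarRight K K Kh (Fin d) v i₀) hlin
  simp [Pi.single_apply] at h6
  have h7 : AdicCompletion.evalₐ I 1 (x i₀) = 0 := by
    rw [h6, map_zero]
  simp only [x, AdicCompletion.evalₐ_mk, Ideal.Quotient.eq_zero_iff_mem, pow_one] at h7
  exact hi₀ h7

end Groth.Agent.GRModel
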