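import Groth.Agent.GRModel.Model
import Groth.Agent.CurveBC.Geometry
import Mathlib.RingTheory.Localization.BaseChange

/-!
# The function field of a geometrically integral curve
-/

noncomputable section

set_option autoImplicit false
set_option linter.style.haveILetI false
set_option linter.unusedSectionVars false
set_option backward.isDefEq.respectTransparency false
set_option backward.isDefEq.respectTransparency.types false

universe u

open CategoryTheory CategoryTheory.Limits AlgebraicGeometry TopologicalSpace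
open Groth.Agent.CurveCohLib.Polar TensorProduct

namespace Groth.Agent.GRModel

attribute [local instance] ZetaCurve.ffAlg

variable (k : Type u) [Field k] (X : Scheme.{u}) [X.Over (Spec (CommRingCat.of k))] [IsIntegral X]
  [IsProper (X ↘ Spec (CommRingCat.of k))] [Smooth (X ↘ Spec (CommRingCat.of k))]

/-- Base change of the function field stays a domain. -/
theorem isDomain_tensor (h0 : Module.finrank k (Coh.HH X (Coh.structureModule X) 0) = 1)
    (L : Type u) [Field L] [Algebra k L] : IsDomain (L ⊗[k] X.functionField) := by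
  obtain ⟨U, hU, hηU, -⟩ := exists_isAffineOpen_mem_and_subset (show genericPoint X ∈ (⊤ : X.Opens) from trivial)
  haveI : Nonempty U := ⟨⟨_, hηU⟩⟩
  letI : Algebra k Γ(X, U) := (secMap k U).toAlgebra
  haveI : IsScalarTower k Γ(X, U) X.functionField :=
    IsScalarTower.of_algebraMap_eq fun c => (gη_secMap k hηU c).symm
  haveI := functionField_isFractionRing_of_isAffineOpen X U hU
  let pX := X ↘ Spec (CommRingCat.of k)
  let σ := Spec.map (CommRingCat.ofHom (algebraMap k L))
  letI : (pullback pX σ).Over (Spec (CommRingCat.of L)) := ⟨pullback.snd pX σ⟩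
  haveI : IsIntegral (pullback pX σ) :=
    CurveBC.isIntegral k L (pullback.fst pX σ) (IsPullback.of_hasPullback pX σ) h0
  haveI : Surjective (pullback.fst pX σ) :=
    MorphismProperty.pullback_fst _ _ (GrpSchLib.surjective_spec_map_field (algebraMap k L))
  let W := (pullback.fst pX σ) ⁻¹ᵁ U
  have hsq : IsPullback ((pullback.fst pX σ) ∣_ U ≫ U.toSpecΓ) (W.ι ≫ pullback.snd pX σ)
      (Spec.map (CommRingCat.ofHom (algebraMap k Γ(X, U)))) σ := by
    have hb : U.toSpecΓ ≫ Spec.map (CommRingCat.ofHom (algebraMap k Γ(X, U))) = U.ι ≫ pX := by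
      have e2 : CommRingCat.ofHom (algebraMap k Γ(X, U)) =
          (Scheme.ΓSpecIso (CommRingCat.of k)).inv ≫ Scheme.Hom.appLE pX ⊤ U le_top := rfl
      rw [e2, Spec.map_comp, Scheme.Opens.toSpecΓ_SpecMap_appLE_assoc, Scheme.Opens.toSpecΓ_top,
        Category.assoc, Scheme.Hom.resLE_comp_ι_assoc, toSpecΓ_SpecMap_ΓSpecIso_inv, Category.comp_id]
    refine ((isPullback_morphismRestrict (pullback.fst pX σ) U).paste_vert (IsPullback.of_hasPullback pX σ)).of_iso
      (Iso.refl _) hU.isoSpec (Iso.refl _) (Iso.refl _) ?_ (by simp [W]) ?_ (by simp)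
    · simp [IsAffineOpen.isoSpec_hom]
    · simp [IsAffineOpen.isoSpec_hom, hb]
  haveI : Nonempty W := by
    obtain ⟨y, hy⟩ := (pullback.fst pX σ).surjective (genericPoint X)
    exact ⟨⟨y, show pullback.fst pX σ y ∈ U from hy ▸ hηU⟩⟩
  haveI : IsIntegral W.toScheme := isIntegral_of_isOpenImmersion W.ι
  haveI hdomA : IsDomain (Γ(X, U) ⊗[k] L) := by
    let e := hsq.isoPullback ≪≫ pullbackSpecIso k Γ(X, U) L
    haveI : IsIntegral (Spec (CommRingCat.of (Γ(X, U) ⊗[k] L))) :=
      haveI : Nonempty (Spec (CommRingCat.of (Γ(X, U) ⊗[k] L))) := ⟨e.hom (Classical.arbitrary _)⟩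
      isIntegral_of_isOpenImmersion e.inv
    exact (affine_isIntegral_iff (CommRingCat.of (Γ(X, U) ⊗[k] L))).1 inferInstance
  haveI : IsDomain (L ⊗[k] Γ(X, U)) :=
    (Algebra.TensorProduct.comm k L Γ(X, U)).toMulEquiv.isDomain (Γ(X, U) ⊗[k] L)
  let j : L ⊗[k] Γ(X, U) →ₐ[L] L ⊗[k] X.functionField :=
    Algebra.TensorProduct.map (AlgHom.id L L) (IsScalarTower.toAlgHom k Γ(X, U) X.functionField)
  letI := j.toRingHom.toAlgebra
  haveI : IsScalarTower L (L ⊗[k] Γ(X, U)) (L ⊗[k] X.functionField) :=
    IsScalarTower.of_algebraMap_eq fun c => (j.commutes c).symm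
  have hloc := IsLocalization.tensorProduct_tensorProduct_right k L (nonZeroDivisors Γ(X, U)) X.functionField
    (RingHom.ext fun a => by simp [RingHom.algebraMap_toAlgebra, j])
  refine IsLocalization.isDomain_of_le_nonZeroDivisors (L ⊗[k] X.functionField)
    (M := (nonZeroDivisors Γ(X, U)).map (Algebra.TensorProduct.includeRight (R := k) (A := L))) ?_
  rintro _ ⟨a, ha, rfl⟩
  refine mem_nonZeroDivisors_of_ne_zero fun e => nonZeroDivisors.ne_zero ha ?_
  exact Algebra.TensorProduct.includeRight_injective (algebraMap k L).injective (e.trans (map_zero _).symm)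

end Groth.Agent.GRModel
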