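import Groth.Agent.FFLib.RR

/-!
# Riemann's theorem with arbitrary constants, and functions regular outside a pole divisor
-/

noncomputable section

set_option autoImplicit false

namespace Groth.Agent.GRModel

open FunFld WithZero Groth.Agent.FFLib

variable {k K : Type*} [Field k] [Field K] [Algebra k K]

/-- `ell D = deg D + c` in large degree, with `≥` in general. -/
theorem exists_const (hF : IsFF k K) :
    ∃ c N : ℤ, (∀ D : Divisor k K, D.deg + c ≤ ell D) ∧
      ∀ D : Divisor k K, N ≤ D.deg → (ell D : ℤ) = D.deg + c := by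
  classical
  obtain ⟨γ, hγ⟩ := exists_bound hF
  let S := Set.range fun D : Divisor k K => (γ - (D.deg - ell D)).toNat
  have hS : S.Nonempty := ⟨_, 0, rfl⟩
  obtain ⟨D₀, hD₀⟩ := Nat.sInf_mem hS
  have hmax : ∀ D : Divisor k K, D.deg - ell D ≤ D₀.deg - ell D₀ := fun D => by
    have h1 : sInf S ≤ (γ - (D.deg - ell D)).toNat := Nat.sInf_le ⟨D, rfl⟩
    have h2 := hγ D
    have h3 := hγ D₀
    change (γ - (D₀.deg - ell D₀)).toNat = sInf S at hD₀
    omega
  refine ⟨(ell D₀ : ℤ) - D₀.deg, D₀.deg + γ + 1, fun D => by have := hmax D; omega, fun D hD => ?_⟩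
  have hpos : 0 < ell (D - D₀) := by
    have := hγ (D - D₀)
    rw [Divisor.deg_sub] at this
    omega
  obtain ⟨z, hz0, -, hz⟩ := exists_le_add_div hF hpos
  have hle : D₀ ≤ D + FunFld.div k z := fun P => by have := hz P; simp at this ⊢; omega
  have h2 := (ell_le_of_le hF hle).2
  rw [ell_add_div hF _ hz0, Divisor.deg_add, deg_div hF, add_zero] at h2
  have := hmax D
  omega

/-- The constant `c` in `ell D = deg D + c`. -/
def chi (hF : IsFF k K) : ℤ := (exists_const hF).choose

/-- The bound from which `ell D = deg D + c`. -/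
def bound (hF : IsFF k K) : ℤ := (exists_const hF).choose_spec.choose

theorem le_ell (hF : IsFF k K) (D : Divisor k K) : D.deg + chi hF ≤ ell D :=
  (exists_const hF).choose_spec.choose_spec.1 D

theorem ell_eq (hF : IsFF k K) {D : Divisor k K} (h : bound hF ≤ D.deg) :
    (ell D : ℤ) = D.deg + chi hF :=
  (exists_const hF).choose_spec.choose_spec.2 D h

/-- An upper bound for every divisor. -/
theorem ell_le_max (hF : IsFF k K) (D : Divisor k K) :
    (ell D : ℤ) ≤ max (D.deg + chi hF) (max 0 (bound hF) + ell (0 : Divisor k K)) := by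
  by_cases hb : bound hF ≤ D.deg
  · exact le_trans (ell_eq hF hb).le (le_max_left _ _)
  · refine le_trans ?_ (le_max_right _ _)
    by_cases h0 : ell D = 0
    · rw [h0]; push_cast; omega
    obtain ⟨z, hz0, -, hz⟩ := exists_le_add_div hF (Nat.pos_of_ne_zero h0)
    have h2 := (ell_le_of_le hF hz).2
    rw [ell_add_div hF _ hz0, Divisor.deg_add, deg_div hF, add_zero, Divisor.deg_zero] at h2
    omega

theorem chi_of_isFunctionField (hK : IsFunctionField k K) :
    chi hK.1 = 1 - (genus k K : ℤ) := by
  obtain ⟨F, -, hF⟩ := exists_ge_deg hK.1 (0 : Divisor k K)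
    (max (bound hK.1) (2 * (genus k K : ℤ) - 1))
  have h1 := ell_eq hK.1 (le_trans (le_max_left _ _) hF)
  have h2 := ell_of_deg_gt hK (D := F) (by have := le_trans (le_max_right _ _) hF; omega)
  omega

theorem deg_nsmul (D : Divisor k K) (n : ℕ) : (n • D).deg = n * D.deg := by
  induction n with
  | zero => simp
  | succ n ih => rw [succ_nsmul, Divisor.deg_add, ih]; push_cast; ring

/-- Regular outside the poles of `f`. -/
def Reg (f a : K) : Prop := ∀ P : Place k K, poles (k := k) f P = 0 → P.1 a ≤ 1

theorem Reg.one (f : K) : Reg (k := k) f 1 := fun P _ => by simp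

theorem Reg.self (hF : IsFF k K) (f : K) : Reg (k := k) f f := fun P hP => by
  simpa [hP] using val_le_exp_poles hF (k := k) f P

theorem Reg.add {f a b : K} (ha : Reg (k := k) f a) (hb : Reg (k := k) f b) :
    Reg (k := k) f (a + b) := fun P hP => (P.1.map_add _ _).trans (max_le (ha P hP) (hb P hP))

theorem Reg.mul {f a b : K} (ha : Reg (k := k) f a) (hb : Reg (k := k) f b) :
    Reg (k := k) f (a * b) := fun P hP => by
  rw [map_mul]; exact mul_le_one' (ha P hP) (hb P hP)

theorem mem_L_nsmul_poles_mono (f : K) {l l' : ℕ} (h : l ≤ l') :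
    L (l • (poles f : Divisor k K)) ≤ L (l' • (poles f : Divisor k K)) :=
  L_mono fun P => by
    simp only [Finsupp.smul_apply, nsmul_eq_mul]
    exact mul_le_mul_of_nonneg_right (by exact_mod_cast h) (poles_nonneg f P)

theorem reg_of_mem_L {f a : K} {l : ℕ} (h : a ∈ L (l • (poles f : Divisor k K))) :
    Reg (k := k) f a := fun P hP => by simpa [hP] using h P

theorem exists_mem_L_of_reg (hF : IsFF k K) {f a : K} (h : Reg (k := k) f a) :
    ∃ l : ℕ, a ∈ L (l • (poles f : Divisor k K)) := by
  classical
  rcases eq_or_ne a 0 with rfl | ha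
  · exact ⟨0, zero_mem _⟩
  refine ⟨(poles a : Divisor k K).support.sup fun P => (poles (k := k) a P).toNat, fun P => ?_⟩
  refine (val_le_exp_poles hF a P).trans (exp_le_exp.2 ?_)
  simp only [Finsupp.smul_apply, nsmul_eq_mul]
  by_cases hP : P ∈ (poles a : Divisor k K).support
  · by_cases hf : poles (k := k) f P = 0
    · have h1 := h P hf
      rw [val_le_one_iff P ha] at h1
      simp only [poles, Finsupp.mapRange_apply, div_apply hF] at hf ⊢
      rw [hf]; omega
    · have h1 := poles_nonneg (k := k) f P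
      simp only [Finsupp.coe_zero, Pi.zero_apply] at h1
      have h2 := Finset.le_sup (f := fun P => (poles (k := k) a P).toNat) hP
      calc poles (k := k) a P ≤ ((poles (k := k) a P).toNat : ℤ) := Int.self_le_toNat _
        _ ≤ _ := by
            refine le_trans ?_ (le_mul_of_one_le_right (by positivity) (by omega))
            exact_mod_cast h2
  · rw [Finsupp.notMem_support_iff.1 hP]
    exact mul_nonneg (by positivity) (poles_nonneg f P)

/-- The pencil trick: `L((l+1)P) = f L(lP) + L(lP)` in large degree. -/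
theorem pencil (hF : IsFF k K) {f : K} (hf : Transcendental k f) {l : ℕ}
    (hl : bound hF ≤ (l : ℤ) * (poles f : Divisor k K).deg) :
    L ((l + 2) • (poles f : Divisor k K)) =
      (L ((l + 1) • (poles f : Divisor k K))).map (LinearMap.mulLeft k f) ⊔
        L ((l + 1) • (poles f : Divisor k K)) := by
  classical
  have hf0 : f ≠ 0 := fun e => hf (e ▸ isAlgebraic_zero)
  set P : Divisor k K := poles f with hP
  set A := L ((l + 1) • P)
  have := L_finite hF ((l + 1) • P)
  have := L_finite hF ((l + 2) • P)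
  have hmul : ∀ {n : ℕ} {y : K}, y ∈ L (n • P) → f * y ∈ L ((n + 1) • P) := fun {n} {y} hy Q => by
    rw [succ_nsmul, Finsupp.add_apply, map_mul, exp_add, mul_comm]
    exact mul_le_mul' (hy Q) (val_le_exp_poles hF f Q)
  have hle : A.map (LinearMap.mulLeft k f) ⊔ A ≤ L ((l + 2) • P) := by
    refine sup_le ?_ (mem_L_nsmul_poles_mono f (by omega))
    rintro _ ⟨y, hy, rfl⟩
    exact hmul hy
  have hinf : A.map (LinearMap.mulLeft k f) ⊓ A = (L (l • P)).map (LinearMap.mulLeft k f) := by
    refine le_antisymm ?_ (le_inf (Submodule.map_mono (mem_L_nsmul_poles_mono f (by omega))) ?_)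
    · rintro _ ⟨⟨y, hy, rfl⟩, hfy⟩
      refine ⟨y, fun Q => ?_, rfl⟩
      rcases eq_or_ne y 0 with rfl | hy0
      · simp
      by_cases hQ : P Q = 0
      · simpa [hQ] using hy Q
      · have h1 : Q.1 (f * y) ≤ exp (((l + 1) • P) Q) := hfy Q
        rw [map_mul, val_eq_exp Q hf0, val_eq_exp Q hy0, ← exp_add, exp_le_exp] at h1
        rw [val_le_exp_iff Q hy0]
        simp only [hP, poles, Finsupp.smul_apply, Finsupp.mapRange_apply, div_apply hF,
          nsmul_eq_mul] at h1 hQ ⊢
        have e : max (-Q.ord f) 0 = -Q.ord f := by omega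
        rw [e] at h1 ⊢
        push_cast at h1
        nlinarith
    · rintro _ ⟨y, hy, rfl⟩
      exact hmul hy
  have e : ∀ n : ℕ, Module.finrank k ((L (n • P)).map (LinearMap.mulLeft k f)) = ell (n • P) := fun n =>
    (Submodule.equivMapOfInjective _ (mul_right_injective₀ hf0) _).finrank_eq.symm
  have hsum := Submodule.finrank_sup_add_finrank_inf_eq (A.map (LinearMap.mulLeft k f)) A
  rw [hinf, e, e] at hsum
  have hd : 0 < P.deg := by
    rw [hP, deg_poles hF hf]
    have := hF.finite_adjoin hf
    exact_mod_cast Module.finrank_pos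
  have hn : ∀ n : ℕ, l ≤ n → (ell (n • P) : ℤ) = n * P.deg + chi hF := fun n hn => by
    rw [ell_eq hF, deg_nsmul]
    rw [deg_nsmul]
    refine hl.trans (mul_le_mul_of_nonneg_right (by exact_mod_cast hn) hd.le)
  refine (Submodule.eq_of_le_of_finrank_eq hle ?_).symm
  change _ = ell ((l + 2) • P)
  have h0 := hn l le_rfl
  have h1 := hn (l + 1) (by omega)
  have h2 := hn (l + 2) (by omega)
  change _ = ell ((l + 1) • P) + ell ((l + 1) • P) at hsum
  push_cast at h1 h2
  nlinarith

end Groth.Agent.GRModel
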