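import Groth.Agent.ZetaCurve.Bridge
import Groth.Agent.GRModel.Const
import Groth.Agent.Lib.CurveDualPrep

/-!
# The constant of the Riemann function of a smooth proper curve over an arbitrary field
-/

noncomputable section

set_option autoImplicit false
set_option linter.style.haveILetI false
set_option linter.unusedSectionVars false
set_option backward.isDefEq.respectTransparency false
set_option backward.isDefEq.respectTransparency.types false

universe u

open CategoryTheory CategoryTheory.Limits AlgebraicGeometry TopologicalSpace Opposite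

namespace Groth.Agent.GRModel

open Groth.Agent.ZetaCurve

attribute [local instance] ZetaCurve.ffAlg

variable (k : Type u) [Field k] (X : Scheme.{u}) [X.Over (Spec (CommRingCat.of k))] [IsIntegral X]
  [IsProper (X ↘ Spec (CommRingCat.of k))] [Smooth (X ↘ Spec (CommRingCat.of k))]
  (hdim : topologicalKrullDim X = 1)

include hdim in
theorem isFF_curve : FFLib.IsFF k X.functionField := by
  obtain ⟨t, ht⟩ : ∃ t : X.functionField, Transcendental k t := by
    by_contra hno
    push Not at hno
    haveI : Algebra.IsAlgebraic k X.functionField := ⟨fun y => not_not.1 (hno y)⟩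
    have h := trdeg_eq_one k X hdim
    rw [trdeg_eq_zero] at h
    exact zero_ne_one h
  refine ⟨t, ht, ?_⟩
  let E := IntermediateField.adjoin k ({t} : Set X.functionField)
  have hind : AlgebraicIndependent k (fun _ : PUnit.{u + 1} => t) :=
    algebraicIndependent_unique_type_iff.2 ht
  have hB := hind.isTranscendenceBasis_of_trdeg_le_of_finite (by
      rw [trdeg_eq_one k X hdim]; exact (Cardinal.one_le_iff_ne_zero.2 (Cardinal.mk_ne_zero PUnit.{u + 1})))
  haveI : Algebra.IsAlgebraic E X.functionField := by
    have := hB.isAlgebraic_field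
    rwa [Set.range_const] at this
  haveI := essFiniteType k X hdim
  haveI : Algebra.EssFiniteType E X.functionField := Algebra.EssFiniteType.of_comp k E X.functionField
  obtain ⟨S, hS⟩ := IntermediateField.fg_top E X.functionField
  have : FiniteDimensional E (IntermediateField.adjoin E (S : Set X.functionField)) :=
    IntermediateField.finiteDimensional_adjoin fun x _ => Algebra.IsIntegral.isIntegral x
  rw [hS] at this
  exact Module.Finite.equiv (IntermediateField.topEquiv (F := E) (E := X.functionField)).toLinearEquiv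

/-- The constant of the Riemann function is the Euler characteristic. -/
theorem chi_eq_euler (hF : FFLib.IsFF k X.functionField) (hdim : topologicalKrullDim X = 1) :
    chi hF = Curv2.euler k X (Coh.structureModule X) := by
  haveI := CurveCohLib.isNoetherian_of_proper (k := k) (X := X)
  set χ := Curv2.euler k X (Coh.structureModule X)
  obtain ⟨J, hJ, hdJ⟩ := CurveDuality.exists_deg_ge k hdim (|(Curv2.genus k X : ℤ) + 1 - χ| + 1)
  obtain ⟨U₀, h₀, e, he⟩ := InvX.exists_frame hJ (genericPoint X)
  obtain ⟨δ, hδ⟩ : ∃ δ, (divisor k hdim hJ he h₀).deg = δ := ⟨_, rfl⟩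
  obtain ⟨d, hd⟩ : ∃ d, Curv2.deg k X J 1 = d := ⟨_, rfl⟩
  rw [hd] at hdJ
  have habs := le_abs_self ((Curv2.genus k X : ℤ) + 1 - χ)
  have habs0 := abs_nonneg ((Curv2.genus k X : ℤ) + 1 - χ)
  have hpow : ∀ n : ℕ, ∃ (L : X.Modules) (hL : PicF.IsInvertible L) (c : Γ(L, U₀)) (hc : InvX.IsFrame c),
      Curv2.deg k X L 1 = (n + 1) * d ∧ (divisor k hdim hL hc h₀).deg = (n + 1) * δ := by
    intro n
    induction n with
    | zero => exact ⟨J, hJ, e, he, by simpa using hd, by simpa using hδ⟩
    | succ n ih =>
      obtain ⟨L, hL, c, hc, h1, h2⟩ := ih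
      refine ⟨CohB1.tensorMod L J, InvX.isInvertible_tensorMod hL hJ, InvX.tmul c e,
        InvX.isFrame_tmul hc he, ?_, ?_⟩
      · rw [show Curv2.deg k X (CohB1.tensorMod L J) 1 = _ from CurveRR.deg_tensor k hdim hL hJ, h1, hd]
        push_cast; ring
      · rw [divisor_tensor k hdim hL hc h₀ hJ he, FFLib.Divisor.deg_add, h2, hδ]
        push_cast; ring
  have hell : ∀ n : ℕ, ∃ D : FunFld.Divisor k X.functionField, D.deg = (n + 1) * δ ∧
      (FunFld.ell D : ℤ) = (n + 1) * d + χ := by
    intro n
    obtain ⟨L, hL, c, hc, h1, h2⟩ := hpow n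
    refine ⟨_, h2, ?_⟩
    rw [← finrank_h0_eq_ell k hdim hL hc h₀]
    have hdn : d ≤ ((n : ℤ) + 1) * d := le_mul_of_one_le_left (by linarith) (by omega)
    haveI := CurveDuality.subsingleton_HH_one_of_deg_ge k hdim hL (by rw [h1]; linarith)
    have h3 := CurveRR.euler_eq_h0_sub_h1 k hdim.le (CurveDeg.isCoh_of_isInvertible hL).1
    rw [Module.finrank_zero_of_subsingleton (R := k) (M := Coh.HH X L 1)] at h3
    have h5 : Curv2.deg k X L 1 = Curv2.euler k X L - 1 * χ := rfl
    rw [h1, h3] at h5
    push_cast at h5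
    linarith
  obtain ⟨M, hM⟩ : ∃ M : ℤ, max 0 (bound hF) + (FunFld.ell (0 : FunFld.Divisor k X.functionField) : ℤ) = M := ⟨_, rfl⟩
  have hev : ∀ n : ℕ, M - χ < n → ((n : ℤ) + 1) * d + χ = ((n : ℤ) + 1) * δ + chi hF := by
    intro n hn
    obtain ⟨D, hD, hl⟩ := hell n
    have h1 := le_ell hF D
    have h2 := ell_le_max hF D
    rw [hD, hl] at h1 h2
    rw [hM] at h2
    have hdn : (n : ℤ) + 1 ≤ ((n : ℤ) + 1) * d := le_mul_of_one_le_right (by omega) (by linarith)
    rcases max_choice (((n : ℤ) + 1) * δ + chi hF) M with h | h <;> rw [h] at h2 <;> linarith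
  obtain ⟨n, hn⟩ : ∃ n : ℕ, M - χ < n := ⟨(M - χ).toNat + 1, by omega⟩
  have e1 := hev n hn
  have e2 := hev (n + 1) (by push_cast; omega)
  push_cast at e2
  have : d = δ := by linarith
  rw [this] at e1
  linarith

end Groth.Agent.GRModel
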