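import Groth.Agent.GRModel.Model
import Groth.Agent.GRModel.Euler
import Groth.Agent.GRModel.Dom
import Groth.Agent.MdlMap.Surf
import Groth.Agent.MdlInter.Genus
import Groth.Agent.RefX2.Normality
import Groth.Agent.TateIsog.ZTrick
import Groth.Prelude.Def_ArSurf
import Groth.Prelude.Def_ModelsG

/-!
# The valuation of a vertical component of a regular model
-/

noncomputable section

set_option autoImplicit false
set_option linter.style.haveILetI false
set_option linter.unusedSectionVars false
set_option backward.isDefEq.respectTransparency false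
set_option backward.isDefEq.respectTransparency.types false

universe u

open CategoryTheory CategoryTheory.Limits AlgebraicGeometry TopologicalSpace
open IsLocalRing (ResidueField)

namespace Groth.Agent.GRModel

/-- Compatibility of stalk maps with constants. -/
theorem stalkMap_toGlobal {S T : Type u} [CommRing S] [CommRing T] {Z X : Scheme.{u}} (h : Z ⟶ X)
    (p : X ⟶ Spec (CommRingCat.of S)) (q : Z ⟶ Spec (CommRingCat.of T)) (φ : S →+* T)
    (e : h ≫ p = q ≫ Spec.map (CommRingCat.ofHom φ)) (z : Z) (r : S) :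
    h.stalkMap z (X.presheaf.germ ⊤ (h z) trivial (Coh.toGlobal p r)) =
      Z.presheaf.germ ⊤ z trivial (Coh.toGlobal q (φ r)) := by
  rw [Scheme.Hom.germ_stalkMap_apply]
  refine congrArg (Z.presheaf.germ ⊤ z trivial) ?_
  show (p.appTop ≫ h.appTop) ((Scheme.ΓSpecIso (CommRingCat.of S)).inv r) =
    q.appTop ((Scheme.ΓSpecIso (CommRingCat.of T)).inv (φ r))
  rw [← Scheme.Hom.comp_appTop, e, Scheme.Hom.comp_appTop, ConcreteCategory.comp_apply]
  refine congrArg q.appTop ?_
  exact (ConcreteCategory.congr_hom (Scheme.ΓSpecIso_inv_naturality (CommRingCat.ofHom φ)) r).symm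

variable {R : Type u} [CommRing R] [IsDomain R] [IsDiscreteValuationRing R]
  {C X : Scheme.{u}} {f : C ⟶ Spec (CommRingCat.of (FractionRing R))} {p : X ⟶ Spec (CommRingCat.of R)}

/-- A regular model of an integral curve is integral. -/
theorem isIntegral_model [IsIntegral C] [Flat p] (hreg : Models.IsRegularScheme X) {g : C ⟶ X}
    (hg : IsPullback g f p (Spec.map (CommRingCat.ofHom (algebraMap R (FractionRing R))))) : IsIntegral X := by
  haveI : IsReduced X := @isReduced_of_isReduced_stalk X fun x => by
    haveI := hreg x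
    haveI := RegLoc6.isDomain_of_isRegularLocalRing (X.presheaf.stalk x)
    infer_instance
  have hdense : Dense (Set.range g) := by
    rw [dense_iff_inter_open]
    intro O hO ⟨x, hx⟩
    obtain ⟨x', hx', hpx'⟩ := Flat.generalizingMap p
      ((PrimeSpectrum.le_iff_specializes (⟨⊥, Ideal.isPrime_bot⟩ : PrimeSpectrum R) (p x)).mp (bot_le (α := Ideal R)))
    exact ⟨x', hx'.mem_open hO hx, by rw [MdlMap.range_iota hg]; exact hpx'⟩
  haveI : IrreducibleSpace X := by
    have h1 := ((IrreducibleSpace.isIrreducible_univ C).image g g.continuous.continuousOn).closure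
    rw [Set.image_univ, hdense.closure_eq] at h1
    exact { isPreirreducible_univ := h1.2, toNonempty := h1.1.to_type }
  exact isIntegral_of_irreducibleSpace_of_isReduced X

attribute [local instance] ZetaCurve.ffAlg

theorem hasGoodReduction_of_component
    (hC : Curve.IsSmoothProperCurve (FractionRing R) C f) (hH0 : IsIso f.appTop)
    (hg : 2 ≤ Models.curveGenus (FractionRing R) C f)
    (hX : Models.IsRegularProperModel R X p C f)
    (Γ : ArSurf.VertComp R (Over.mk p))
    (E : Scheme.{u}) [E.Over (Spec (CommRingCat.of (ResidueField R)))]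
    [Smooth (E ↘ Spec (CommRingCat.of (ResidueField R)))]
    [IsProper (E ↘ Spec (CommRingCat.of (ResidueField R)))] [IsIntegral E]
    (ν : E ⟶ Γ.curve.left) [IsFinite ν]
    (hν : ν ≫ Γ.curve.hom = E ↘ Spec (CommRingCat.of (ResidueField R)))
    (hbir : ∃ U : Γ.curve.left.Opens, (U : Set Γ.curve.left).Nonempty ∧ IsIso (ν ∣_ U))
    (hgen : (Models.curveGenus (FractionRing R) C f : ℤ) ≤
      1 - Curv2.euler (ResidueField R) E (Coh.structureModule E)) :
    Models.HasGoodReduction R C f := by
  classical
  obtain ⟨⟨hflat, -, -, g, hg'⟩, hpr, hreg⟩ := hX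
  haveI := hflat; haveI := hpr
  obtain ⟨hprC, hsmC, hintC, hdimC⟩ := hC
  haveI := hintC
  letI : C.Over (Spec (CommRingCat.of (FractionRing R))) := ⟨f⟩
  haveI : IsProper (C ↘ Spec (CommRingCat.of (FractionRing R))) := hprC
  haveI : Smooth (C ↘ Spec (CommRingCat.of (FractionRing R))) := hsmC
  haveI := isIntegral_model hreg hg'
  haveI : IsLocallyNoetherian X := LocallyOfFiniteType.isLocallyNoetherian p
  have hn := RefX2.isNormalScheme_of_regular hreg
  haveI := MdlMap.isOpenImmersion_iota hg'
  have hcX : g (genericPoint C) = genericPoint X := genericPoint_eq_of_isOpenImmersion g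
  -- the curve `E` maps birationally onto the component
  obtain ⟨U, hUne, hUiso⟩ := hbir
  haveI := hUiso
  haveI : Nonempty U := hUne.to_subtype
  haveI hne : Nonempty ↥(ν ⁻¹ᵁ U) := ⟨(asIso (ν ∣_ U)).inv (Classical.arbitrary _)⟩
  have hηU : genericPoint E ∈ ν ⁻¹ᵁ U :=
    ((genericPoint_spec E).mem_open_set_iff (ν ⁻¹ᵁ U).2).2
      ⟨hne.some.1, trivial, hne.some.2⟩
  have hsurj : Surjective ν := by
    refine ⟨fun y => ?_⟩
    have hcl : IsClosed (Set.range ν) := ν.isClosedMap.isClosed_range
    have hU' : (U : Set Γ.curve.left) ⊆ Set.range ν := fun y hy => by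
      let w := (asIso (ν ∣_ U)).inv ⟨y, hy⟩
      have h1 : (ν ∣_ U) w = ⟨y, hy⟩ := congr($((asIso (ν ∣_ U)).inv_hom_id) (⟨y, hy⟩ : U.toScheme))
      exact ⟨(ν ⁻¹ᵁ U).ι w, (congr($(morphismRestrict_ι ν U) w)).symm.trans (congrArg U.ι h1)⟩
    exact hcl.closure_subset_iff.2 hU' ((U.2.dense hUne).closure_eq ▸ Set.mem_univ y)
  haveI := hsurj
  have hdimE : topologicalKrullDim E = 1 := by
    rw [TateIsog.topologicalKrullDim_eq_of_finite_surjective ν]
    exact Γ.dim_eq
  haveI hisoν : IsIso (ν.stalkMap (genericPoint E)) := by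
    haveI : IsOpenImmersion ((ν ⁻¹ᵁ U).ι ≫ ν) := by rw [← morphismRestrict_ι]; infer_instance
    have h := Scheme.Hom.stalkMap_comp (ν ⁻¹ᵁ U).ι ν ⟨genericPoint E, hηU⟩
    haveI : IsIso (ν.stalkMap ((ν ⁻¹ᵁ U).ι ⟨genericPoint E, hηU⟩) ≫
        (ν ⁻¹ᵁ U).ι.stalkMap ⟨genericPoint E, hηU⟩) := h ▸ inferInstance
    exact IsIso.of_isIso_comp_right (ν.stalkMap ((ν ⁻¹ᵁ U).ι ⟨genericPoint E, hηU⟩))
      ((ν ⁻¹ᵁ U).ι.stalkMap ⟨genericPoint E, hηU⟩)
  have hνη : ν (genericPoint E) = genericPoint Γ.curve.left := by
    refine IsGenericPoint.eq ?_ (genericPoint_spec Γ.curve.left)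
    have h1 := (genericPoint_spec E).image ν.continuous
    rwa [Set.image_univ, Set.range_eq_univ.2 hsurj.surj, closure_univ] at h1
  -- the point
  let s : E ⟶ X := ν ≫ Γ.ι
  let η := genericPoint E
  have hsw : s ≫ p = (E ↘ Spec (CommRingCat.of (ResidueField R))) ≫
      Spec.map (CommRingCat.ofHom (IsLocalRing.residue R)) := by
    rw [Category.assoc, show Γ.ι ≫ p = Γ.curve.hom ≫ _ from Γ.w, ← Category.assoc, hν]
  have hspecial : ∀ y : Γ.curve.left, Γ.ι y ∈ Models.specialFibreSet R (Over.mk p) := fun y => by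
    rw [MdlRegPt.mem_F_iff]
    show (Γ.ι ≫ p) y = _
    rw [show Γ.ι ≫ p = Γ.curve.hom ≫ _ from Γ.w,
      Scheme.Hom.comp_apply]
    refine PrimeSpectrum.ext ?_
    show Ideal.comap (IsLocalRing.residue R) (Γ.curve.hom y).asIdeal = IsLocalRing.maximalIdeal R
    rw [(Ideal.eq_bot_or_top (Γ.curve.hom y).asIdeal).resolve_right (Γ.curve.hom y).2.ne_top,
      ← RingHom.ker_eq_comap_bot, IsLocalRing.ker_residue]
  have hmax : MdlMap.IsMaxSpecial p (s η) := by
    obtain ⟨y, hy⟩ : ∃ y : Γ.curve.left, genericPoint Γ.curve.left ≠ y := by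
      by_contra hall
      push Not at hall
      haveI : Subsingleton Γ.curve.left := ⟨fun a b => (hall a).symm.trans (hall b)⟩
      haveI : Subsingleton (IrreducibleCloseds Γ.curve.left) := by
        refine ⟨fun a b => IrreducibleCloseds.ext ?_⟩
        obtain ⟨x, hx⟩ := a.isIrreducible.1
        obtain ⟨x', hx'⟩ := b.isIrreducible.1
        ext z
        exact ⟨fun _ => Subsingleton.elim x' z ▸ hx', fun _ => Subsingleton.elim x z ▸ hx⟩
      have h0 := Order.krullDim_nonpos_of_subsingleton (α := IrreducibleCloseds Γ.curve.left)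
      have h1 : Order.krullDim (IrreducibleCloseds Γ.curve.left) = 1 := Γ.dim_eq
      rw [h1] at h0
      exact absurd h0 (not_le.2 zero_lt_one)
    have e : s η = Γ.ι (genericPoint Γ.curve.left) := congrArg Γ.ι hνη
    rw [e]
    exact MdlMap.isMaxSpecial_of_ne hg' hdimC.le (hspecial _) (hspecial y)
      ((genericPoint_specializes y).map Γ.ι.continuous) fun h => hy (Γ.ι.isEmbedding.injective h)
  haveI := (hn (s η)).1
  haveI hvr := MdlMap.valuationRing_max hn hmax
  let hsp := MdlMap.spec_to g hcX (s η)
  let φ : X.presheaf.stalk (s η) →+* C.functionField := MdlMap.phi g hsp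
  have hφinj : Function.Injective φ := MdlMap.phi_injective g hcX hsp
  have hval : ∀ t : C.functionField, t ∈ φ.range ∨ t⁻¹ ∈ φ.range := @MdlMap.valSet_img _ _ _ _ g _ hcX (s η) _ hvr
  let V : ValuationSubring C.functionField := ValuationSubring.ofSubring φ.range hval
  let eV : X.presheaf.stalk (s η) ≃+* V :=
    RingEquiv.ofBijective (φ.codRestrict V.toSubring fun a => ⟨a, rfl⟩)
      ⟨fun a b h => hφinj (congrArg Subtype.val h), fun ⟨t, a, ha⟩ => ⟨a, Subtype.ext ha⟩⟩
  -- constants
  letI : Algebra R C.functionField :=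
    ((algebraMap (FractionRing R) C.functionField).comp (algebraMap R (FractionRing R))).toAlgebra
  haveI : IsScalarTower R (FractionRing R) C.functionField := IsScalarTower.of_algebraMap_eq fun r => rfl
  letI : Algebra R E.functionField :=
    ((algebraMap (ResidueField R) E.functionField).comp (IsLocalRing.residue R)).toAlgebra
  haveI : IsScalarTower R (ResidueField R) E.functionField := IsScalarTower.of_algebraMap_eq fun r => rfl
  let gr : R →+* X.presheaf.stalk (s η) := (X.presheaf.germ ⊤ (s η) trivial).hom.comp (Coh.toGlobal p)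
  have hφR : ∀ r, φ (gr r) = algebraMap R C.functionField r := fun r => by
    show g.stalkMap (genericPoint C) (X.presheaf.stalkSpecializes hsp (X.presheaf.germ ⊤ (s η) trivial (Coh.toGlobal p r))) = _
    rw [TopCat.Presheaf.germ_stalkSpecializes_apply X.presheaf (U := ⊤) trivial hsp]
    exact stalkMap_toGlobal g p f (algebraMap R (FractionRing R)) hg'.w (genericPoint C) r
  let ρ : X.presheaf.stalk (s η) →+* E.functionField := (s.stalkMap η).hom
  have hρsurj : Function.Surjective ρ := by
    show Function.Surjective (s.stalkMap η)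
    rw [Scheme.Hom.stalkMap_comp]
    exact ((ConcreteCategory.bijective_of_isIso (ν.stalkMap η)).2).comp (Γ.ι.stalkMap_surjective (ν η))
  have hρker : ∀ a, ρ a = 0 ↔ a ∈ IsLocalRing.maximalIdeal (X.presheaf.stalk (s η)) := fun a => by
    rw [IsLocalRing.mem_maximalIdeal, mem_nonunits_iff]
    refine ⟨fun h hu => ?_, fun h => ?_⟩
    · have := hu.map ρ
      rw [h] at this
      exact not_isUnit_zero this
    · by_contra hne
      exact h ((isUnit_map_iff (s.stalkMap η).hom a).1 (isUnit_iff_ne_zero.2 hne))
  have hh0 := MdlInter.finrank_h0_of_isIso f hH0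
  haveI : IsNoetherianRing (X.presheaf.stalk (s η)) := inferInstance
  let G : GData R C.functionField E.functionField :=
    { V := V
      isDVR := by
        haveI : IsNoetherianRing V := isNoetherianRing_of_ringEquiv _ eV
        haveI : IsPrincipalIdealRing (X.presheaf.stalk (s η)) :=
          ((IsBezout.TFAE (R := X.presheaf.stalk (s η))).out 0 1).1 ‹_›
        haveI : IsPrincipalIdealRing V := IsPrincipalIdealRing.of_surjective eV.toRingHom eV.surjective
        refine { not_a_field' := fun h => ?_ }
        obtain ⟨ϖ, hϖ⟩ := IsDiscreteValuationRing.exists_irreducible R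
        have h0 : gr ϖ ≠ 0 := fun e => hϖ.ne_zero (IsFractionRing.injective R (FractionRing R)
          ((algebraMap (FractionRing R) C.functionField).injective
            (((hφR ϖ).symm.trans (by rw [e, map_zero])).trans
              (by rw [map_zero, map_zero]))))
        have hm : gr ϖ ∈ IsLocalRing.maximalIdeal (X.presheaf.stalk (s η)) := by
          rw [← hρker]
          show s.stalkMap η _ = 0
          show s.stalkMap η (X.presheaf.germ ⊤ (s η) trivial (Coh.toGlobal p ϖ)) = 0
          rw [stalkMap_toGlobal s p _ (IsLocalRing.residue R) hsw η ϖ,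
            (IsLocalRing.residue_eq_zero_iff _).2 hϖ.not_isUnit, map_zero, map_zero]
        have : eV (gr ϖ) ∈ IsLocalRing.maximalIdeal V := by
          rw [IsLocalRing.mem_maximalIdeal, mem_nonunits_iff] at hm ⊢
          rwa [MulEquiv.isUnit_map eV]
        rw [h, Submodule.mem_bot, map_eq_zero_iff _ eV.injective] at this
        exact h0 this
      hR := fun r => ⟨gr r, hφR r⟩
      red := ρ.comp eV.symm.toRingHom
      red_surj := hρsurj.comp eV.symm.surjective
      red_eq_zero := fun v => by
        refine (hρker _).trans ?_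
        rw [IsLocalRing.mem_maximalIdeal, IsLocalRing.mem_maximalIdeal, mem_nonunits_iff, mem_nonunits_iff]
        exact not_congr (MulEquiv.isUnit_map eV.symm)
      red_R := fun r => by
        have e1 : eV.symm (inV V (fun r => ⟨gr r, hφR r⟩) r) = gr r :=
          eV.symm_apply_eq.2 (Subtype.ext (hφR r).symm)
        show ρ (eV.symm _) = _
        rw [e1]
        exact stalkMap_toGlobal s p _ (IsLocalRing.residue R) hsw η r
      hK := ZetaCurve.isFunctionField (FractionRing R) C hdimC hh0
      hκ := isFF_curve (ResidueField R) E hdimE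
      dom := fun L _ _ => isDomain_tensor (FractionRing R) C hh0 L }
  -- the constants
  have hχK : chi G.hK.1 = 1 - (Models.curveGenus (FractionRing R) C f : ℤ) := by
    rw [chi_eq_euler (FractionRing R) C G.hK.1 hdimC]
    haveI := CurveCohLib.isNoetherian_of_proper (k := FractionRing R) (X := C)
    rw [CurveRR.euler_eq_h0_sub_h1 (FractionRing R) hdimC.le (QCoh.isQCoh_structureModule (X := C)), hh0]
    rfl
  have hχκ : chi G.hκ = Curv2.euler (ResidueField R) E (Coh.structureModule E) :=
    chi_eq_euler (ResidueField R) E G.hκ hdimE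
  have hg2 : (2 : ℤ) ≤ (Models.curveGenus (FractionRing R) C f : ℤ) := by exact_mod_cast hg
  obtain ⟨he, hc⟩ := GData.e_eq_one G (by rw [hχK, hχκ]; omega) (by rw [hχK]; omega)
  exact exists_glue G hdimC hdimE he hc rfl

end Groth.Agent.GRModel
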