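import Groth.Agent.RatSingReg.Main
import Groth.Agent.MdlMap.Surf
import Groth.Agent.GRModel.FromModel

/-!
# Centres on a proper model
-/

noncomputable section

set_option autoImplicit false
set_option linter.style.haveILetI false
set_option linter.unusedSectionVars false
set_option backward.isDefEq.respectTransparency false
set_option backward.isDefEq.respectTransparency.types false

universe u

open CategoryTheory CategoryTheory.Limits AlgebraicGeometry TopologicalSpace

namespace Groth.Agent.GRModel

open Groth.Agent

variable {R : Type u} [CommRing R] [IsDomain R] [IsDiscreteValuationRing R]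
  {C X : Scheme.{u}} [IsIntegral C] {f : C ⟶ Spec (CommRingCat.of (FractionRing R))}
  {p : X ⟶ Spec (CommRingCat.of R)}

/-- The constants in the function field. -/
def cst (f : C ⟶ Spec (CommRingCat.of (FractionRing R))) : R →+* C.functionField :=
  (RatSingReg.toK f).comp (algebraMap R (FractionRing R))

theorem phi_stalkHom {g : C ⟶ X}
    (hg : IsPullback g f p (Spec.map (CommRingCat.ofHom (algebraMap R (FractionRing R)))))
    {x : X} (hx : g (genericPoint C) ⤳ x) (r : R) :
    MdlMap.phi g hx (MdlInter.pi p r x) = cst f r := by
  show g.stalkMap (genericPoint C) (X.presheaf.stalkSpecializes hx (X.presheaf.germ ⊤ x trivial (Coh.toGlobal p r))) = _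
  rw [TopCat.Presheaf.germ_stalkSpecializes_apply X.presheaf (U := ⊤) trivial hx]
  exact stalkMap_toGlobal g p f (algebraMap R (FractionRing R)) hg.w (genericPoint C) r

/-- A valuation ring containing the constants has a centre on a proper model. -/
theorem exists_centre [IsProper p] {g : C ⟶ X}
    (hg : IsPullback g f p (Spec.map (CommRingCat.ofHom (algebraMap R (FractionRing R)))))
    (V : ValuationSubring C.functionField) (hV : ∀ r, cst f r ∈ V) :
    ∃ (x : X) (hx : g (genericPoint C) ⤳ x) (h : ∀ t, MdlMap.phi g hx t ∈ V),
      IsLocalHom ((MdlMap.phi g hx).codRestrict V.toSubring h) := by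
  have hE : ValuativeCriterion.Existence p := by
    have h : UniversallyClosed p := inferInstance
    rw [UniversallyClosed.eq_valuativeCriterion] at h
    exact h.1
  let S : ValuativeCommSq p :=
    { R := V, K := C.functionField, i₁ := C.fromSpecStalk (genericPoint C) ≫ g
      i₂ := Spec.map (CommRingCat.ofHom ((cst f).codRestrict V.toSubring hV))
      commSq := ⟨by
        rw [Category.assoc, hg.w, ← Category.assoc, RatSingReg.fromSpecStalk_comp_eq, ← Spec.map_comp,
          ← Spec.map_comp]
        rfl⟩ }
  obtain ⟨⟨l, hl₁, -⟩⟩ := (hE S).exists_lift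
  let x := l (IsLocalRing.closedPoint V)
  let ψ : X.presheaf.stalk x ⟶ CommRingCat.of V := Scheme.stalkClosedPointTo l
  have hψ : Spec.map ψ ≫ X.fromSpecStalk x = l := Scheme.Spec_stalkClosedPointTo_fromSpecStalk l
  let sub : CommRingCat.of V ⟶ CommRingCat.of C.functionField := CommRingCat.ofHom V.subtype
  have hl : Spec.map sub ≫ l = C.fromSpecStalk (genericPoint C) ≫ g := hl₁
  have hx : g (genericPoint C) ⤳ x := by
    have h1 : (C.fromSpecStalk (genericPoint C) ≫ g) (IsLocalRing.closedPoint C.functionField) = g (genericPoint C) := by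
      rw [Scheme.Hom.comp_apply]
      exact congrArg g Scheme.fromSpecStalk_closedPoint
    rw [← h1, ← hl, Scheme.Hom.comp_apply]
    exact ((IsLocalRing.specializes_closedPoint _)).map l.continuous
  have heq : ψ ≫ sub = X.presheaf.stalkSpecializes hx ≫ g.stalkMap (genericPoint C) := by
    apply Spec.map_injective
    rw [← cancel_mono (X.fromSpecStalk x), Spec.map_comp, Category.assoc, hψ, hl, Spec.map_comp, Category.assoc,
      Scheme.SpecMap_stalkSpecializes_fromSpecStalk, Scheme.SpecMap_stalkMap_fromSpecStalk]
  have hval : ∀ t, ((ψ t : V) : C.functionField) = MdlMap.phi g hx t := fun t => ConcreteCategory.congr_hom heq t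
  refine ⟨x, hx, fun t => hval t ▸ (ψ t : V).2, ?_⟩
  have e : (MdlMap.phi g hx).codRestrict V.toSubring (fun t => hval t ▸ (ψ t : V).2) = ψ.hom :=
    RingHom.ext fun t => Subtype.ext (hval t).symm
  rw [e]
  exact inferInstanceAs (IsLocalHom (Scheme.stalkClosedPointTo l).hom)

end Groth.Agent.GRModel
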