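import Groth.Agent.MdlInter.Conn
import Groth.Agent.MdlInter.NumType
import Groth.Agent.MdlInter.Exc
import Groth.Agent.MdlSection.Field

/-!
# Numerical criteria for an irreducible closed fibre
-/

noncomputable section

set_option autoImplicit false
set_option linter.style.haveILetI false
set_option linter.unusedSectionVars false
set_option backward.isDefEq.respectTransparency false
set_option backward.isDefEq.respectTransparency.types false

universe u

open CategoryTheory CategoryTheory.Limits AlgebraicGeometry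

namespace Groth.Agent.GRModel

open Groth.Agent

variable {R : Type u} [CommRing R] [IsDomain R] [IsDiscreteValuationRing R]
  {C X : Scheme.{u}} {f : C ⟶ Spec (CommRingCat.of (FractionRing R))} {p : X ⟶ Spec (CommRingCat.of R)}

theorem chiK_structure (G : ArSurf.VertComp R (Over.mk p)) :
    MdlInter.chiK G (Coh.structureModule G.curve.left) =
      (Models.wdeg R (Over.mk p) G : ℤ) - (Models.h1 R (Over.mk p) G : ℤ) := by
  simp only [MdlInter.chiK, FGA.eulerCharLE, Finset.sum_range_succ, Finset.sum_range_zero,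
    Models.wdeg, Models.h1]
  ring

variable (hC : Curve.IsSmoothProperCurve (FractionRing R) C f) (hH0 : IsIso f.appTop)
  (hX : Models.IsMinimalModel R X p C f) {n : ℕ} {Γ : Fin n → ArSurf.VertComp R (Over.mk p)}
  (hΓ : Models.IsComponentList R (Over.mk p) Γ)
  (L : Fin n → X.Modules) (hL : ∀ i, ClSub.IsInverseOf (L i) (ClSub.idealMod (MdlInter.comp Γ i)))

include hC hH0 hX hΓ hL

theorem inter_self_neg (hn : 1 < n) (i : Fin n) : ArSurf.inter R (Over.mk p) (L i) (Γ i) < 0 := by
  classical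
  haveI := hX.1.2.1
  have S := MdlInter.setting_of_model hX.1 hΓ
  obtain ⟨i', hi', j, hj, hne⟩ := MdlInter.exists_meeting hH0 hX.1 hΓ L hL {i} (Finset.singleton_nonempty i) (by
    intro h
    have := congrArg Finset.card h
    rw [Finset.card_singleton, Finset.card_univ, Fintype.card_fin] at this
    omega)
  rw [Finset.mem_singleton] at hi' hj
  subst hi'
  have h := S.sum_mult_inter L hL i'
  rw [← Finset.add_sum_erase _ _ (Finset.mem_univ i')] at h
  have hpos : (0 : ℤ) < ∑ l ∈ Finset.univ.erase i',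
      (Models.mult R (Over.mk p) (Γ l) : ℤ) * ArSurf.inter R (Over.mk p) (L l) (Γ i') := by
    refine Finset.sum_pos' (fun l hl => mul_nonneg (Int.natCast_nonneg _)
      (S.inter_nonneg L hL (Finset.ne_of_mem_erase hl).symm)) ⟨j, Finset.mem_erase.2 ⟨hj, Finset.mem_univ _⟩, ?_⟩
    exact mul_pos (by exact_mod_cast S.mult_pos j) (lt_of_le_of_ne (S.inter_nonneg L hL (Ne.symm hj)) hne.symm)
  have hm : (0 : ℤ) < Models.mult R (Over.mk p) (Γ i') := by exact_mod_cast S.mult_pos i'
  by_contra hge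
  push Not at hge
  nlinarith

theorem canonical_nonneg (hn : 1 < n) (i : Fin n) :
    ArSurf.inter R (Over.mk p) (L i) (Γ i) +
      2 * MdlInter.chiK (Γ i) (Coh.structureModule (Γ i).curve.left) ≤ 0 := by
  haveI := hX.1.2.1
  have S := MdlInter.setting_of_model hX.1 hΓ
  have hneg := inter_self_neg hC hH0 hX hΓ L hL hn i
  rw [chiK_structure]
  by_cases h1 : Models.h1 R (Over.mk p) (Γ i) = 0
  · rw [h1]
    have hnex : ArSurf.inter R (Over.mk p) (L i) (Γ i) ≠ -(Models.wdeg R (Over.mk p) (Γ i) : ℤ) := fun h =>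
      hX.2 (Γ i) ((MdlInter.exc_iff (Γ i) (L i) (S.isInvertible_L L hL i) (S.isEffCartier i) (S.cl_L L hL i)).2 ⟨h1, h⟩)
    obtain ⟨c, hc⟩ := MdlInter.wdeg_dvd_inter (L i) (Γ i)
    have hw : (0 : ℤ) < Models.wdeg R (Over.mk p) (Γ i) := by exact_mod_cast MdlInter.wdeg_pos (Γ i)
    rw [hc] at hneg hnex ⊢
    push_cast
    have hc1 : c ≤ -1 := by nlinarith
    rcases eq_or_lt_of_le hc1 with rfl | hc2
    · exact absurd (by ring) hnex
    · nlinarith
  · have h2 := Nat.le_of_dvd (Nat.pos_of_ne_zero h1) (MdlInter.wdeg_dvd_h1 (Γ i))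
    omega

theorem eq_one_of_genus_zero (hg : Models.curveGenus (FractionRing R) C f = 0) :
    n = 1 ∧ ∀ i, Models.mult R (Over.mk p) (Γ i) = 1 ∧ Models.wdeg R (Over.mk p) (Γ i) = 1 ∧
      Models.h1 R (Over.mk p) (Γ i) = 0 := by
  haveI := hX.1.2.1
  have S := MdlInter.setting_of_model hX.1 hΓ
  have hgf := MdlInter.genus_formula hC hH0 hX.1 hΓ L hL
  rw [hg] at hgf
  rcases Nat.lt_trichotomy n 1 with hn | rfl | hn
  · obtain rfl : n = 0 := by omega
    simp at hgf
  · refine ⟨rfl, fun i => ?_⟩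
    obtain rfl : i = 0 := Subsingleton.elim _ _
    have hs := S.sum_mult_inter L hL 0
    simp only [Fin.sum_univ_one] at hs hgf
    have hm : 0 < Models.mult R (Over.mk p) (Γ 0) := S.mult_pos 0
    rw [(mul_eq_zero.1 hs).resolve_left (by exact_mod_cast hm.ne'), zero_add, chiK_structure] at hgf
    have hwp := MdlInter.wdeg_pos (Γ 0)
    have hdvd := MdlInter.wdeg_dvd_h1 (Γ 0)
    by_cases h1 : Models.h1 R (Over.mk p) (Γ 0) = 0
    · rw [h1] at hgf
      push_cast at hgf
      have h3 : (Models.mult R (Over.mk p) (Γ 0) : ℤ) * Models.wdeg R (Over.mk p) (Γ 0) = 1 := by linarith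
      have h4 : Models.mult R (Over.mk p) (Γ 0) * Models.wdeg R (Over.mk p) (Γ 0) = 1 := by exact_mod_cast h3
      exact ⟨(mul_eq_one.1 h4).1, (mul_eq_one.1 h4).2, h1⟩
    · have h2 := Nat.le_of_dvd (Nat.pos_of_ne_zero h1) hdvd
      have h2' : (Models.wdeg R (Over.mk p) (Γ 0) : ℤ) ≤ Models.h1 R (Over.mk p) (Γ 0) := by exact_mod_cast h2
      have hm' : (0 : ℤ) ≤ Models.mult R (Over.mk p) (Γ 0) := Int.natCast_nonneg _
      push_cast at hgf
      linarith [mul_nonneg hm' (sub_nonneg.2 h2')]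
  · have hle : ∑ i, (Models.mult R (Over.mk p) (Γ i) : ℤ) * (ArSurf.inter R (Over.mk p) (L i) (Γ i) +
        2 * MdlInter.chiK (Γ i) (Coh.structureModule (Γ i).curve.left)) ≤ 0 :=
      Finset.sum_nonpos fun i _ => mul_nonpos_of_nonneg_of_nonpos (Int.natCast_nonneg _)
        (canonical_nonneg hC hH0 hX hΓ L hL hn i)
    rw [← hgf] at hle
    norm_num at hle

theorem eq_one_of_component (hg : 0 < Models.curveGenus (FractionRing R) C f) (i : Fin n)
    (hi : MdlInter.chiK (Γ i) (Coh.structureModule (Γ i).curve.left) ≤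
      1 - (Models.curveGenus (FractionRing R) C f : ℤ)) : n = 1 := by
  classical
  haveI := hX.1.2.1
  have S := MdlInter.setting_of_model hX.1 hΓ
  have hgf := MdlInter.genus_formula hC hH0 hX.1 hΓ L hL
  by_contra hne
  have hn : 1 < n := by
    have := i.2
    omega
  rw [← Finset.add_sum_erase _ _ (Finset.mem_univ i)] at hgf
  have hle : ∑ j ∈ Finset.univ.erase i, (Models.mult R (Over.mk p) (Γ j) : ℤ) *
      (ArSurf.inter R (Over.mk p) (L j) (Γ j) + 2 * MdlInter.chiK (Γ j) (Coh.structureModule (Γ j).curve.left)) ≤ 0 :=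
    Finset.sum_nonpos fun j _ => mul_nonpos_of_nonneg_of_nonpos (Int.natCast_nonneg _)
      (canonical_nonneg hC hH0 hX hΓ L hL hn j)
  have hneg := inter_self_neg hC hH0 hX hΓ L hL hn i
  have hm : (1 : ℤ) ≤ Models.mult R (Over.mk p) (Γ i) := by exact_mod_cast S.mult_pos i
  have hg' : (1 : ℤ) ≤ Models.curveGenus (FractionRing R) C f := by exact_mod_cast hg
  nlinarith

end Groth.Agent.GRModel
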