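import Groth.Agent.GRModel.SmoothModel
import Groth.Agent.GRModel.Numerics
import Groth.Agent.MdlMap.Main
import Groth.Agent.H23.RedSub

/-!
# A regular proper model mapping to a smooth proper model
-/

noncomputable section

set_option autoImplicit false
set_option linter.style.haveILetI false
set_option linter.unusedSectionVars false
set_option backward.isDefEq.respectTransparency false
set_option backward.isDefEq.respectTransparency.types false
set_option maxHeartbeats 1000000

universe u

open CategoryTheory CategoryTheory.Limits AlgebraicGeometry TopologicalSpace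
open IsLocalRing (ResidueField)

namespace Groth.Agent.GRModel

open Groth.Agent

/-- Cohomology of the structure sheaf of isomorphic curves over a field. -/
theorem finrank_hh_of_iso {k : Type u} [Field k] {G E : Scheme.{u}} [G.Over (Spec (CommRingCat.of k))]
    [E.Over (Spec (CommRingCat.of k))] [IsProper (E ↘ Spec (CommRingCat.of k))] (ν : G ⟶ E) [IsIso ν]
    (h : ν ≫ (E ↘ Spec (CommRingCat.of k)) = (G ↘ Spec (CommRingCat.of k))) (i : ℕ) :
    Module.finrank k (Coh.HH G (Coh.structureModule G) i) =
      Module.finrank k (Coh.HH E (Coh.structureModule E) i) := by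
  haveI := CurveCohLib.isNoetherian_of_proper (k := k) (X := E)
  haveI : IsIso (Spec.map (CommRingCat.ofHom (algebraMap k k))) := by
    rw [show CommRingCat.ofHom (algebraMap k k) = 𝟙 (CommRingCat.of k) from rfl]
    infer_instance
  have hpb : IsPullback ν (G ↘ Spec (CommRingCat.of k)) (E ↘ Spec (CommRingCat.of k))
      (Spec.map (CommRingCat.ofHom (algebraMap k k))) := by
    refine IsPullback.of_horiz_isIso ⟨?_⟩
    rw [show CommRingCat.ofHom (algebraMap k k) = 𝟙 (CommRingCat.of k) from rfl, Spec.map_id, Category.comp_id]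
    exact h
  exact CurveBC.finrank_hh_unit k k ν hpb i

variable {R : Type u} [CommRing R] [IsDomain R] [IsDiscreteValuationRing R]
  {C X X₀ : Scheme.{u}} {f : C ⟶ Spec (CommRingCat.of (FractionRing R))}
  {p : X ⟶ Spec (CommRingCat.of R)} {p₀ : X₀ ⟶ Spec (CommRingCat.of R)}

theorem closed_of_ne_generic {T : Scheme.{u}} [IsIntegral T] (hdim : topologicalKrullDim T = 1) {z z₁ : T}
    (hz : z ≠ genericPoint T) (h : z ⤳ z₁) : z = z₁ := by
  by_contra hne
  have h1 : z₁ < z := lt_of_le_not_ge h fun h' => hne (h.antisymm h').eq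
  have h2 : z < genericPoint T := lt_of_le_not_ge (genericPoint_specializes z) fun h' =>
    hz ((show z ⤳ genericPoint T from h').antisymm (genericPoint_specializes z)).eq
  have h3 : Order.krullDim T ≤ 1 := by
    rw [← Order.krullDim_eq_of_orderIso (irreducibleSetEquivPoints (α := T))]
    exact hdim.le
  rw [Order.krullDim_le_one_iff] at h3
  rcases h3 z with hm | hm
  · exact not_isMin_iff.2 ⟨z₁, h1⟩ hm
  · exact not_isMax_iff.2 ⟨genericPoint T, h2⟩ hm

/-- The special point of the smooth model and the component above it. -/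
theorem exists_over_component [IsIntegral C] (hC : Curve.IsSmoothProperCurve (FractionRing R) C f) (hH0 : IsIso f.appTop)
    (hX : Models.IsRegularProperModel R X p C f) (hX₀ : Models.IsModel R X₀ p₀ C f) [IsProper p₀] [Smooth p₀]
    {g : C ⟶ X} (hg : IsPullback g f p (Spec.map (CommRingCat.ofHom (algebraMap R (FractionRing R)))))
    {g₀ : C ⟶ X₀} (hg₀ : IsPullback g₀ f p₀ (Spec.map (CommRingCat.ofHom (algebraMap R (FractionRing R)))))
    {φ : X ⟶ X₀} (hφ : φ ≫ p₀ = p) (hφg : g ≫ φ = g₀)
    {n : ℕ} {Γ : Fin n → ArSurf.VertComp R (Over.mk p)} (hΓ : Models.IsComponentList R (Over.mk p) Γ) :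
    ∃ (i : Fin n) (ξ : X₀) (hy : g (genericPoint C) ⤳ MdlInter.gp Γ i) (hξ : g₀ (genericPoint C) ⤳ ξ),
      closure ({ξ} : Set X₀) ∈ Models.fibreComponents R (Over.mk p₀) ∧
      MdlMap.img g₀ hξ = MdlMap.img g hy ∧
      MdlInter.chiK (Γ i) (Coh.structureModule (Γ i).curve.left) =
        1 - (Models.curveGenus (FractionRing R) C f : ℤ) := by
  classical
  have hdimC := hC.2.2.2
  haveI := hX.2.1
  haveI := hX.1.1
  have hreg := hX.2.2
  haveI := isIntegral_model hreg hg
  have hreg₀ : Models.IsRegularScheme X₀ := fun x => FibIso.isRegularLocalRing_stalk_of_smooth p₀ x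
  haveI := hX₀.1
  haveI := isIntegral_model hreg₀ hg₀
  haveI : IsLocallyNoetherian X₀ := LocallyOfFiniteType.isLocallyNoetherian p₀
  haveI : IsLocallyNoetherian X := LocallyOfFiniteType.isLocallyNoetherian p
  have hn₀ := RefX2.isNormalScheme_of_regular hreg₀
  haveI := MdlMap.isOpenImmersion_iota hg
  haveI := MdlMap.isOpenImmersion_iota hg₀
  have hcX : g (genericPoint C) = genericPoint X := genericPoint_eq_of_isOpenImmersion g
  have hcX₀ : g₀ (genericPoint C) = genericPoint X₀ := genericPoint_eq_of_isOpenImmersion g₀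
  obtain ⟨G, hGsm, hker, hrange, hlist, hw⟩ := exists_smooth_component hC hH0 hX₀
  haveI : IsClosedImmersion (MdlInter.iotaX G) := G.isClosedImmersion
  haveI := G.isIntegral
  let ι : G.curve.left ⟶ X₀ := MdlInter.iotaX G
  let ξ := ι (genericPoint G.curve.left)
  have hξF : closure ({ξ} : Set X₀) = Models.specialFibreSet R (Over.mk p₀) :=
    (MdlInter.range_eq_closure_gen ι).symm.trans hrange
  have hξc : closure ({ξ} : Set X₀) ∈ Models.fibreComponents R (Over.mk p₀) := by
    have h := hlist.2.le ⟨0, rfl⟩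
    change Set.range ι ∈ _ at h
    rw [MdlInter.range_eq_closure_gen ι] at h
    exact h
  have hmax := MdlMap.isMaxSpecial_of_mem hξc
  -- a point of `X` above `ξ`
  haveI : IsProper (φ ≫ p₀) := hφ.symm ▸ inferInstance
  haveI : IsProper φ := IsProper.of_comp φ p₀
  have hpφ : ∀ z, p₀ (φ z) = p z := fun z => by rw [← Scheme.Hom.comp_apply, hφ]
  obtain ⟨x, hxξ⟩ : ξ ∈ Set.range φ := by
    have hsub : genericPoint X₀ ∈ Set.range φ := ⟨g (genericPoint C), by rw [← Scheme.Hom.comp_apply, hφg, hcX₀]⟩
    exact (genericPoint_specializes ξ).mem_closed φ.isClosedMap.isClosed_range hsub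
  have hxF : x ∈ Models.specialFibreSet R (Over.mk p) :=
    MdlRegPt.mem_F_iff.2 ((hpφ x).symm.trans ((congrArg p₀ hxξ).trans (MdlRegPt.mem_F_iff.1 hmax.1)))
  obtain ⟨Z, hZ, hxZ, hZc⟩ := MdlRegPt.exists_component hxF
  obtain ⟨i, hi⟩ := hΓ.2.ge hZ
  have hyx : MdlInter.gp Γ i ⤳ x :=
    (MdlInter.mem_range_iff (MdlInter.iotaX (Γ i))).1 (hi.ge hxZ)
  have hyF : MdlInter.gp Γ i ∈ Models.specialFibreSet R (Over.mk p) :=
    hZ.1.2 (hi.le ⟨genericPoint (Γ i).curve.left, rfl⟩)
  have hyξ : φ (MdlInter.gp Γ i) = ξ :=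
    hmax.2 _ (hxξ ▸ hyx.map φ.continuous) (MdlRegPt.mem_F_iff.2 ((hpφ _).trans (MdlRegPt.mem_F_iff.1 hyF)))
  let y := MdlInter.gp Γ i
  let hy := MdlMap.spec_to g hcX y
  let hsp := MdlMap.spec_to g₀ hcX₀ ξ
  haveI := (hn₀ ξ).1
  haveI := MdlMap.valuationRing_max hn₀ hmax
  have himg : MdlMap.img g₀ hsp = MdlMap.img g hy := by
    have hd := MdlMap.dom_map g hcX φ hy
    rw [MdlMap.img_congr hφg, MdlMap.img_congr_pt g₀ hyξ] at hd
    exact MdlMap.eq_of_valSet (MdlMap.valSet_img g₀ hcX₀) hd
  have hbij : Function.Surjective (φ.stalkMap y) := fun b => by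
    obtain ⟨a, ha⟩ : MdlMap.phi g hy b ∈ MdlMap.img g₀ (hyξ.symm ▸ hsp : g₀ (genericPoint C) ⤳ φ y) := by
      rw [MdlMap.img_congr_pt g₀ hyξ, himg]
      exact ⟨b, rfl⟩
    refine ⟨a, MdlMap.phi_injective g hcX hy ?_⟩
    rw [MdlMap.phi_map g φ hy, MdlMap.phi_congr hφg]
    exact ha
  -- the map of curves
  haveI : IsClosedImmersion (MdlInter.iotaX (Γ i)) := (Γ i).isClosedImmersion
  haveI := (Γ i).isIntegral
  let a : (Γ i).curve.left ⟶ X := MdlInter.iotaX (Γ i)
  obtain ⟨ν, hν⟩ := H23.RedSub.exists_lift (a ≫ φ) ι (by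
    rintro _ ⟨z, rfl⟩
    rw [hrange, MdlRegPt.mem_F_iff, Scheme.Hom.comp_apply, hpφ]
    exact MdlRegPt.mem_F_iff.1 (hZ.1.2 (hi.le ⟨z, rfl⟩)))
  letI : (Γ i).curve.left.Over (Spec (CommRingCat.of (ResidueField R))) := ⟨(Γ i).curve.hom⟩
  letI : G.curve.left.Over (Spec (CommRingCat.of (ResidueField R))) := ⟨G.curve.hom⟩
  haveI : IsProper (G.curve.left ↘ Spec (CommRingCat.of (ResidueField R))) := MdlInter.isProper_curve G
  haveI : Smooth (G.curve.left ↘ Spec (CommRingCat.of (ResidueField R))) := hGsm
  have hνk : ν ≫ G.curve.hom = (Γ i).curve.hom := by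
    haveI : IsClosedImmersion (Spec.map (CommRingCat.ofHom (IsLocalRing.residue R))) :=
      IsClosedImmersion.spec_of_surjective _ IsLocalRing.residue_surjective
    rw [← cancel_mono (Spec.map (CommRingCat.ofHom (IsLocalRing.residue R))), Category.assoc,
      show G.curve.hom ≫ Spec.map (CommRingCat.ofHom (IsLocalRing.residue R)) = ι ≫ p₀ from G.w.symm,
      ← Category.assoc, hν, Category.assoc, hφ]
    exact (Γ i).w
  haveI : IsProper (ν ≫ G.curve.hom) := hνk.symm ▸ MdlInter.isProper_curve (Γ i)
  haveI : IsProper G.curve.hom := MdlInter.isProper_curve G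
  haveI : IsProper ν := IsProper.of_comp ν G.curve.hom
  have hνη : ν (genericPoint (Γ i).curve.left) = genericPoint G.curve.left := by
    refine ι.isClosedEmbedding.injective ?_
    rw [← Scheme.Hom.comp_apply, hν, Scheme.Hom.comp_apply]
    exact hyξ
  have hνbij : Function.Bijective (ν.stalkMap (genericPoint (Γ i).curve.left)) := by
    have hF : IsField (G.curve.left.presheaf.stalk (ν (genericPoint (Γ i).curve.left))) :=
      hνη.symm ▸ Field.toIsField G.curve.left.functionField
    letI := hF.toField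
    refine ⟨RingHom.injective _, ?_⟩
    have hs : Function.Surjective ((ν ≫ ι).stalkMap (genericPoint (Γ i).curve.left)) := by
      rw [Scheme.Hom.stalkMap_congr_hom _ _ hν, Scheme.Hom.stalkMap_comp]
      exact (((a.stalkMap_surjective _).comp hbij)).comp
        (ConcreteCategory.bijective_of_isIso (X₀.presheaf.stalkCongr _).hom).2
    rw [Scheme.Hom.stalkMap_comp] at hs
    exact Function.Surjective.of_comp hs
  haveI : LocallyQuasiFinite ν := MdlMap.locallyQuasiFinite_of_no_specialization ν fun z z₁ hs he => by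
    by_cases hz : z = genericPoint (Γ i).curve.left
    · by_contra hne
      have hcl : IsClosed ({z₁} : Set (Γ i).curve.left) := by
        rw [← closure_eq_iff_isClosed]
        refine Set.Subset.antisymm (fun w hw => ?_) subset_closure
        exact (closed_of_ne_generic (Γ i).dim_eq (fun e => hne (hz.trans e.symm)) (specializes_iff_mem_closure.2 hw)).symm
      have h1 := ν.isClosedMap _ hcl
      rw [Set.image_singleton, ← he, hz, hνη] at h1
      haveI : Subsingleton G.curve.left := ⟨fun u v => by
        have hall : ∀ w : G.curve.left, w = genericPoint G.curve.left := fun w => by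
          have := (genericPoint_specializes w).mem_closed h1 rfl
          exact this
        rw [hall u, hall v]⟩
      have h0 : topologicalKrullDim G.curve.left ≤ 0 := by
        rw [topologicalKrullDim, Order.krullDim_eq_of_orderIso (irreducibleSetEquivPoints (α := G.curve.left))]
        exact Order.krullDim_nonpos_of_subsingleton
      rw [G.dim_eq] at h0
      exact absurd h0 (by decide)
    · exact closed_of_ne_generic (Γ i).dim_eq hz hs
  haveI : IsFinite ν := IsFinite.of_isProper_of_locallyQuasiFinite ν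
  have hnE : Pi1.IsNormalScheme G.curve.left := by
    haveI : IsLocallyNoetherian G.curve.left :=
      LocallyOfFiniteType.isLocallyNoetherian (G.curve.left ↘ Spec (CommRingCat.of (ResidueField R)))
    exact RefX2.isNormalScheme_of_regular fun e =>
      SmoothReg.isRegularLocalRing_stalk_of_mem_smoothLocus (G.curve.left ↘ Spec (CommRingCat.of (ResidueField R))) (by
        rw [Scheme.Hom.smoothLocus_eq_top]; trivial)
  haveI : IsIso ν := by
    refine BirNormal.isIso_of_isIntegralHom ν (fun U hne hU => by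
      haveI := hne; exact CardCrit.isIntegrallyClosed_sections hnE hU) hνη ?_
    haveI := BirNormal.isIso_stalkSpecializes_of_eq hνη (specializes_of_eq hνη)
    exact hνbij.comp (ConcreteCategory.bijective_of_isIso _)
  refine ⟨i, ξ, hy, hsp, hξc, himg, ?_⟩
  -- the Euler characteristic
  have hhh := finrank_hh_of_iso (k := ResidueField R) ν hνk
  have hchi : MdlInter.chiK (Γ i) (Coh.structureModule (Γ i).curve.left) =
      MdlInter.chiK G (Coh.structureModule G.curve.left) := by
    simp only [MdlInter.chiK, FGA.eulerCharLE]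
    refine Finset.sum_congr rfl fun j _ => ?_
    rw [show Module.finrank (ResidueField R) (Coh.HH (Γ i).curve.left (Coh.structureModule (Γ i).curve.left) j) =
      Module.finrank (ResidueField R) (Coh.HH G.curve.left (Coh.structureModule G.curve.left) j) from hhh j]
  rw [hchi]
  have hX₀' : Models.IsRegularProperModel R X₀ p₀ C f := ⟨hX₀, inferInstance, hreg₀⟩
  have S₀ := MdlInter.setting_of_model hX₀' hlist
  obtain ⟨L, hL⟩ := MdlSection.exists_L S₀
  have hgf := MdlInter.genus_formula hC hH0 hX₀' hlist L hL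
  have hsum := S₀.sum_mult_inter L hL 0
  simp only [Fin.sum_univ_one] at hgf hsum
  have hmult : Models.mult R (Over.mk p₀) G = 1 := by
    obtain ⟨ϖ, hϖ⟩ := IsDiscreteValuationRing.exists_irreducible R
    obtain ⟨U, hU⟩ := MdlInter.exists_affine ξ
    have h1 := MdlInter.stI_gen ι U hU
    rw [show ι.ker = MdlInter.sfI p₀ from hker] at h1
    have h2 := h1.symm.trans (MdlInter.stI_specialFibreIdeal p₀ hϖ.maximalIdeal_eq U hU)
    have h3 : Ideal.map (Models.stalkHom R (Over.mk p₀) ξ) (IsLocalRing.maximalIdeal R) =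
        IsLocalRing.maximalIdeal (X₀.presheaf.stalk ξ) := by
      rw [hϖ.maximalIdeal_eq, Ideal.map_span, Set.image_singleton]
      exact h2.symm
    show ENat.toNat (Module.length (X₀.presheaf.stalk ξ)
      (X₀.presheaf.stalk ξ ⧸ Ideal.map (Models.stalkHom R (Over.mk p₀) ξ) (IsLocalRing.maximalIdeal R))) = 1
    rw [h3]
    haveI : IsSimpleModule (X₀.presheaf.stalk ξ) (X₀.presheaf.stalk ξ ⧸ IsLocalRing.maximalIdeal (X₀.presheaf.stalk ξ)) :=
      isSimpleModule_iff_isCoatom.2 (IsLocalRing.maximalIdeal.isMaximal _).out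
    rw [Module.length_eq_one]
    rfl
  rw [hmult, Nat.cast_one, one_mul] at hgf hsum
  rw [hsum, zero_add] at hgf
  linarith

end Groth.Agent.GRModel
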