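import Groth.Agent.GRModel.Lattice

/-!
# Multiplicity one and functions with the same degree on both fibres
-/

noncomputable section

set_option autoImplicit false
set_option backward.isDefEq.respectTransparency false

universe u

namespace Groth.Agent.GRModel

open IsLocalRing Polynomial WithZero Groth.Agent.FFLib

/-- The least divisor bounding a nonzero finite-dimensional space of functions. -/
theorem exists_sup_divisor {k K : Type*} [Field k] [Field K] [Algebra k K] (hF : IsFF k K)
    (W : Submodule k K) [FiniteDimensional k W] (hW : W ≠ ⊥) :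
    ∃ E : FunFld.Divisor k K, W ≤ FunFld.L E ∧ ∀ P, ∃ s ∈ W, P.1 s = exp (E P) := by
  classical
  let B := Module.finBasis k W
  have hne : Nonempty (Fin (Module.finrank k W)) := by
    rw [← Fin.pos_iff_nonempty]
    haveI : Nontrivial W := Submodule.nontrivial_iff_ne_bot.2 hW
    exact Module.finrank_pos
  have h0 : ∀ i, (B i : K) ≠ 0 := fun i e => B.ne_zero i (Subtype.ext e)
  let fE : FunFld.Place k K → ℤ := fun P =>
    Finset.univ.sup' Finset.univ_nonempty fun i => -P.ord (B i : K)
  have hfin : (Function.support fE).Finite := by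
    refine (Finset.univ.biUnion fun i => (FunFld.div k (B i : K)).support).finite_toSet.subset fun P hP => ?_
    simp only [Finset.coe_biUnion, Finset.coe_univ, Set.mem_univ, Set.iUnion_true, Set.mem_iUnion,
      Finset.mem_coe, Finsupp.mem_support_iff, div_apply hF]
    by_contra! h
    exact hP (by simp [fE, h, Finset.sup'_const])
  refine ⟨Finsupp.ofSupportFinite fE hfin, ?_, fun P => ?_⟩
  · have : W = Submodule.span k (Set.range fun i => (B i : K)) := by
      conv_lhs => rw [← Submodule.range_subtype W, ← Submodule.map_top, ← B.span_eq, Submodule.map_span]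
      rw [← Set.range_comp]; rfl
    rw [this, Submodule.span_le]
    rintro _ ⟨i, rfl⟩ P
    rw [val_le_exp_iff P (h0 i)]
    show -fE P ≤ _
    have := Finset.le_sup' (fun i => -P.ord (B i : K)) (Finset.mem_univ i)
    change _ ≤ fE P at this
    omega
  · obtain ⟨i, -, hi⟩ := Finset.exists_mem_eq_sup' Finset.univ_nonempty fun i => -P.ord (B i : K)
    exact ⟨B i, (B i).2, (val_eq_exp P (h0 i)).trans (by rw [← hi]; rfl)⟩

variable {R : Type u} [CommRing R] [IsDomain R] [IsDiscreteValuationRing R]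
variable {F : Type u} [Field F] [Algebra R F] [Algebra (FractionRing R) F] [IsScalarTower R (FractionRing R) F]
variable {κ : Type u} [Field κ] [Algebra (ResidueField R) κ]

namespace GData

variable (G : GData R F κ)

local notation "k" => ResidueField R
local notation "K" => FractionRing R

/-- Fundamental inequality: `e [κ : k(h̄)] ≤ [F : K(h)]`. -/
theorem fundamental {h : G.V} (hh : Transcendental k (G.red h)) :
    G.e * Module.finrank (IntermediateField.adjoin k ({G.red h} : Set κ)) κ ≤
      Module.finrank (IntermediateField.adjoin K ({(h : F)} : Set F)) F := by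
  classical
  haveI := G.isDVR
  haveI := FFLib.IsFF.finite_adjoin G.hκ hh
  haveI := FFLib.IsFF.finite_adjoin G.hK.1 (G.transcendental_coe hh)
  let kh := IntermediateField.adjoin k ({G.red h} : Set κ)
  let Kh := IntermediateField.adjoin K ({(h : F)} : Set F)
  let B := Module.finBasis kh κ
  choose y hy using fun i => G.red_surj (B i)
  let w : Fin G.e × Fin (Module.finrank kh κ) → F := fun p => ((G.pi ^ (p.1 : ℕ) * y p.2 : G.V) : F)
  suffices hli : LinearIndependent Kh w by
    have := hli.fintype_card_le_finrank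
    simpa using this
  have key : ∀ p : Fin G.e × Fin (Module.finrank kh κ) → R[X],
      (∑ x, (p x).eval₂ (inV G.V G.hR) h * (G.pi ^ (x.1 : ℕ) * y x.2)) = 0 →
        ∀ x n, (p x).coeff n ∈ maximalIdeal R := by
    intro p hp
    suffices ∀ m : ℕ, ∀ x : Fin G.e × Fin (Module.finrank kh κ), (x.1 : ℕ) = m →
        ∀ n, (p x).coeff n ∈ maximalIdeal R from fun x => this _ x rfl
    intro m
    induction m using Nat.strong_induction_on with
    | _ m ih =>
      intro x₀ hx₀
      have hdvd : ∀ x : Fin G.e × Fin (Module.finrank kh κ),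
          G.pi ^ (if (x.1 : ℕ) = m then m else m + 1) ∣ (p x).eval₂ (inV G.V G.hR) h * (G.pi ^ (x.1 : ℕ) * y x.2) := by
        intro x
        rcases lt_trichotomy (x.1 : ℕ) m with hlt | heq | hgt
        · rw [if_neg hlt.ne]
          refine Dvd.dvd.mul_right ?_ _
          have hC : ∃ q : R[X], p x = Polynomial.C G.rpi * q := by
            rw [← dvd_iff_exists_eq_mul_right, Polynomial.C_dvd_iff_dvd_coeff]
            intro n
            rw [← Ideal.mem_span_singleton, ← G.rpi_irreducible.maximalIdeal_eq]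
            exact ih _ hlt x rfl n
          obtain ⟨q, hq⟩ := hC
          rw [hq, eval₂_mul, eval₂_C, G.rpi_eq]
          exact (((pow_dvd_pow _ (show m + 1 ≤ G.e by omega)).mul_left _).mul_right _)
        · rw [if_pos heq, heq]
          exact (dvd_mul_right _ _).mul_left _
        · rw [if_neg hgt.ne']
          exact ((pow_dvd_pow _ (show m + 1 ≤ (x.1 : ℕ) by omega)).mul_right _).mul_left _
      choose q hq using hdvd
      simp only [hq] at hp
      have h1 : ∑ x, G.red (q x) * (if (x.1 : ℕ) = m then 1 else 0) = 0 := by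
        have e1 : ∀ x : Fin G.e × Fin (Module.finrank kh κ),
            G.pi ^ (if (x.1 : ℕ) = m then m else m + 1) * q x =
              G.pi ^ m * ((if (x.1 : ℕ) = m then 1 else G.pi) * q x) := fun x => by
          split_ifs
          · rw [one_mul]
          · rw [pow_succ, mul_assoc]
        simp only [e1, ← Finset.mul_sum] at hp
        have h2 := (mul_eq_zero.1 hp).resolve_left (pow_ne_zero _ G.irreducible_pi.ne_zero)
        have h3 := congrArg G.red h2
        rw [map_sum, map_zero] at h3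
        refine Eq.trans (Finset.sum_congr rfl fun x _ => ?_) h3
        split_ifs <;> simp [G.red_pi]
      have h2 : ∀ x : Fin G.e × Fin (Module.finrank kh κ), (x.1 : ℕ) = m →
          G.red (q x) = aeval (G.red h) ((p x).map (residue R)) * B x.2 := by
        intro x hx
        have h3 := hq x
        rw [if_pos hx, hx, mul_left_comm] at h3
        have h4 := congrArg G.red (mul_left_cancel₀ (pow_ne_zero m G.irreducible_pi.ne_zero) h3.symm)
        rwa [map_mul, G.red_eval, hy] at h4
      let cc : Fin (Module.finrank kh κ) → kh := fun i =>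
        ⟨aeval (G.red h) ((p (x₀.1, i)).map (residue R)), by
          exact IntermediateField.algebra_adjoin_le_adjoin k _ (Polynomial.aeval_mem_adjoin_singleton _ _)⟩
      have h5 : ∑ i, cc i • B i = 0 := by
        rw [← h1, Fintype.sum_prod_type, Finset.sum_eq_single x₀.1]
        · refine Finset.sum_congr rfl fun i _ => ?_
          rw [if_pos hx₀, mul_one, h2 (x₀.1, i) hx₀, Algebra.smul_def]
          rfl
        · intro j _ hj
          refine Finset.sum_eq_zero fun i _ => ?_
          rw [if_neg fun e => hj (Fin.ext (e.trans hx₀.symm)), mul_zero]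
        · simp
      have h6 := Fintype.linearIndependent_iff.1 B.linearIndependent cc h5 x₀.2
      have h7 := (transcendental_iff.1 hh) _ (congrArg Subtype.val h6)
      intro n
      have h8 := congrArg (fun r => r.coeff n) h7
      rw [← residue_eq_zero_iff]
      simpa using h8
  rw [Fintype.linearIndependent_iff]
  intro c hc
  choose a b hab using fun x => (IntermediateField.mem_adjoin_simple_iff K (c x).1).1 (c x).2
  by_contra hne
  push Not at hne
  obtain ⟨x₀, hx₀⟩ := hne
  have htr := G.transcendental_coe hh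
  -- a common denominator
  let bb : Fin G.e × Fin (Module.finrank kh κ) → K[X] := fun x => if aeval (h : F) (b x) = 0 then 1 else b x
  let aa : Fin G.e × Fin (Module.finrank kh κ) → K[X] := fun x => if aeval (h : F) (b x) = 0 then 0 else a x
  have hbb : ∀ x, aeval (h : F) (bb x) ≠ 0 := fun x => by
    simp only [bb]; split_ifs with h'
    · simp
    · exact h'
  have hab' : ∀ x, aeval (h : F) (aa x) = ((c x : Kh) : F) * aeval (h : F) (bb x) := fun x => by
    simp only [aa, bb]; split_ifs with h'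
    · rw [hab x, h', div_zero, zero_mul, map_zero]
    · rw [hab x, div_mul_cancel₀ _ h']
  let n : Fin G.e × Fin (Module.finrank kh κ) → K[X] := fun x => aa x * ∏ z ∈ Finset.univ.erase x, bb z
  have hn : ∑ x, aeval (h : F) (n x) * w x = 0 := by
    have e1 : ∀ x, aeval (h : F) (n x) = ((c x : Kh) : F) * aeval (h : F) (∏ z, bb z) := fun x => by
      rw [map_mul, hab', mul_assoc, ← map_mul, Finset.mul_prod_erase _ _ (Finset.mem_univ x)]
    have h' : ∑ x, ((c x : Kh) : F) * w x = 0 := hc
    simp only [e1, mul_comm _ (aeval (h : F) (∏ z, bb z)), mul_assoc, ← Finset.mul_sum, h', mul_zero]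
  have hn0 : n x₀ ≠ 0 := by
    intro e
    have h1 := congrArg (aeval (h : F)) e
    rw [map_zero, map_mul, map_prod, mul_eq_zero, Finset.prod_eq_zero_iff] at h1
    rcases h1 with h1 | ⟨z, -, hz⟩
    · rw [hab', mul_eq_zero] at h1
      exact h1.elim (fun h2 => hx₀ (Subtype.ext h2)) (hbb x₀)
    · exact hbb z hz
  -- integral coefficients
  obtain ⟨⟨d, hd⟩, hint⟩ := IsLocalization.exist_integer_multiples (nonZeroDivisors R)
    (Finset.univ.biUnion fun x => (n x).support.image fun i => (n x).coeff i) id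
  have hlift : ∀ x, ∃ q : R[X], q.map (algebraMap R K) = Polynomial.C (algebraMap R K d) * n x := by
    intro x
    rw [← Polynomial.mem_lifts, Polynomial.lifts_iff_coeff_lifts]
    intro i
    rw [Polynomial.coeff_C_mul]
    by_cases hi : (n x).coeff i = 0
    · exact ⟨0, by rw [hi, mul_zero, map_zero]⟩
    · obtain ⟨r, hr⟩ := hint _ (Finset.mem_biUnion.2 ⟨x, Finset.mem_univ x,
        Finset.mem_image.2 ⟨i, Polynomial.mem_support_iff.2 hi, rfl⟩⟩)
      exact ⟨r, by rw [hr, Algebra.smul_def]; rfl⟩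
  choose q hq using hlift
  have hqv : ∀ x, (((q x).eval₂ (inV G.V G.hR) h : G.V) : F) = algebraMap R F d * aeval (h : F) (n x) := fun x => by
    have e1 : (((q x).eval₂ (inV G.V G.hR) h : G.V) : F) = aeval (h : F) (q x) :=
      (hom_eval₂ (q x) (inV G.V G.hR) G.V.subtype h).trans (by rw [aeval_def]; rfl)
    rw [e1, ← aeval_map_algebraMap K, hq, map_mul, aeval_C, ← IsScalarTower.algebraMap_apply]
  -- divide by the largest common power of the uniformizer
  have hq0 : q x₀ ≠ 0 := fun e => by
    have h1 := hq x₀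
    rw [e, Polynomial.map_zero, eq_comm, mul_eq_zero, Polynomial.C_eq_zero] at h1
    exact h1.elim ((map_ne_zero_iff _ (IsFractionRing.injective R K)).2 (nonZeroDivisors.ne_zero hd)) hn0
  have hz : (∑ x, (q x).eval₂ (inV G.V G.hR) h * (G.pi ^ (x.1 : ℕ) * y x.2)) = 0 := by
    refine Subtype.ext ?_
    rw [AddSubmonoidClass.coe_finsetSum]
    simp only [MulMemClass.coe_mul, hqv, mul_assoc]
    rw [← Finset.mul_sum]
    have : ∑ x, aeval (h : F) (n x) * ((G.pi : F) ^ (x.1 : ℕ) * (y x.2 : F)) = 0 := hn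
    simp [this]
  obtain ⟨i₀, hi₀⟩ : ∃ i, (q x₀).coeff i ≠ 0 := by
    by_contra! h'
    exact hq0 (Polynomial.ext fun i => by simpa using h' i)
  have hrec : ∀ N : ℕ, ∀ q : Fin G.e × Fin (Module.finrank kh κ) → R[X],
      (∑ x, (q x).eval₂ (inV G.V G.hR) h * (G.pi ^ (x.1 : ℕ) * y x.2)) = 0 → G.rpi ^ N ∣ (q x₀).coeff i₀ := by
    intro N
    induction N with
    | zero => simp
    | succ N ih =>
      intro q hq
      have hC : ∀ x, ∃ q' : R[X], q x = Polynomial.C G.rpi * q' := fun x => by
        rw [← dvd_iff_exists_eq_mul_right, Polynomial.C_dvd_iff_dvd_coeff]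
        intro i
        rw [← Ideal.mem_span_singleton, ← G.rpi_irreducible.maximalIdeal_eq]
        exact key q hq x i
      choose q' hq' using hC
      have h1 : (∑ x, (q' x).eval₂ (inV G.V G.hR) h * (G.pi ^ (x.1 : ℕ) * y x.2)) = 0 := by
        simp only [hq', eval₂_mul, eval₂_C, mul_assoc, ← Finset.mul_sum] at hq
        refine (mul_eq_zero.1 hq).resolve_left fun e => G.rpi_F_ne_zero ?_
        exact congrArg Subtype.val e
      rw [hq', Polynomial.coeff_C_mul, pow_succ']
      exact mul_dvd_mul_left _ (ih q' h1)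
  obtain ⟨N, hN⟩ := IsDiscreteValuationRing.associated_pow_irreducible hi₀ G.rpi_irreducible
  have h9 := hrec (N + 1) q hz
  have h11 : G.rpi ^ (N + 1) ∣ G.rpi ^ N := h9.trans hN.dvd
  rw [pow_succ] at h11
  exact G.rpi_irreducible.not_isUnit (isUnit_of_dvd_one
    ((mul_dvd_mul_iff_left (pow_ne_zero _ G.rpi_irreducible.ne_zero)).1 (by rwa [mul_one])))

/-- Products of reductions are reductions for multiples of the divisor. -/
theorem red_j_pow (D : FunFld.Divisor K F) (j : ℕ) (n : ℕ) {g : κ} (hg : g ∈ G.red_j D j ^ n) :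
    g ∈ G.red_j (n • D) (j * n) := by
  induction n generalizing g with
  | zero =>
    rw [pow_zero, Submodule.mem_one] at hg
    obtain ⟨c, rfl⟩ := hg
    rw [Algebra.algebraMap_eq_smul_one]
    exact Submodule.smul_mem _ _ ⟨1, map_one _, fun P => by simp⟩
  | succ n ih =>
    rw [pow_succ] at hg
    refine Submodule.mul_induction_on hg (fun a ha b hb => ?_) (fun a b ha hb => add_mem ha hb)
    obtain ⟨y, rfl, hy⟩ := ih ha
    obtain ⟨z, rfl, hz⟩ := hb
    refine ⟨y * z, map_mul _ _ _, fun P => ?_⟩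
    rw [Nat.mul_succ, pow_add, succ_nsmul, Finsupp.add_apply, exp_add,
      show G.pi ^ (j * n) * G.pi ^ j * (y * z) = (G.pi ^ (j * n) * y) * (G.pi ^ j * z) by ring]
    rw [MulMemClass.coe_mul, map_mul]
    exact mul_le_mul' (hy P) (hz P)

theorem one_mem_red_zero {D : FunFld.Divisor K F} (hD : 0 ≤ D) : (1 : κ) ∈ G.red_j D 0 :=
  ⟨1, map_one _, fun P => by
    rw [pow_zero, one_mul, OneMemClass.coe_one, map_one, ← exp_zero, exp_le_exp]; exact hD P⟩

/-- The degree bound for the reductions. -/
theorem deg_le {D : FunFld.Divisor K F} (hD : 0 ≤ D) (j : ℕ) {E : FunFld.Divisor k κ}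
    (hE : G.red_j D j ≤ FunFld.L E) (hatt : ∀ P, ∃ s ∈ G.red_j D j, P.1 s = exp (E P)) :
    (G.e : ℤ) * E.deg ≤ D.deg ∧ (0 < E.deg → ∃ (m : ℕ) (h : G.V), 0 < m ∧
      (h : F) ∈ FunFld.L ((m * G.e) • D) ∧ Transcendental k (G.red h) ∧
      (m * G.e) • E ≤ poles (G.red h) - (j * m) • FunFld.div k (G.red (G.u : G.V))) := by
  classical
  set ub := G.red (G.u : G.V) with hub'
  have hub : ub ≠ 0 := fun e => by
    have := (G.red_eq_zero _).1 e
    exact this (G.u).isUnit
  obtain ⟨P₀⟩ := exists_place G.hκ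
  let S := insert P₀ (E.support ∪ (FunFld.div k ub).support)
  obtain ⟨m, hm, g, hg, hatt'⟩ := exists_attain hE S fun P _ => by
    obtain ⟨s, hs, hv⟩ := hatt P
    exact ⟨s, hs, by rw [Att, hv, Nat.cast_one, one_mul]⟩
  have hge : g ^ G.e ∈ G.red_j D j ^ (m * G.e) := by
    rw [pow_mul]; exact Submodule.pow_mem_pow _ hg G.e
  obtain ⟨y, hy, hyL⟩ := G.red_j_pow D j _ hge
  let h : G.V := ((G.u⁻¹ : G.Vˣ) : G.V) ^ (j * m) * y
  have hhL : (h : F) ∈ FunFld.L ((m * G.e) • D) := by
    have e1 : G.pi ^ (j * (m * G.e)) * y = inV G.V G.hR (G.rpi ^ (j * m)) * h := by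
      rw [map_pow, G.rpi_eq, mul_pow, ← pow_mul]
      simp only [h]
      rw [mul_mul_mul_comm, ← mul_pow, Units.mul_inv, one_pow, one_mul]
      ring
    rw [e1] at hyL
    have h1 : algebraMap R K (G.rpi ^ (j * m)) • (h : F) ∈ FunFld.L ((m * G.e) • D) := by
      rw [algebraMap_smul, Algebra.smul_def]; exact hyL
    have h2 := Submodule.smul_mem _ (algebraMap R K (G.rpi ^ (j * m)))⁻¹ h1
    rwa [inv_smul_smul₀ (by rw [map_pow]; exact pow_ne_zero _ G.rpi_K_ne_zero)] at h2
  have hgne : g ≠ 0 := fun e => by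
    have := hatt' P₀ (Finset.mem_insert_self _ _)
    rw [Att, e, map_zero] at this
    exact exp_ne_zero this.symm
  have hred : g ^ G.e = G.red h * ub ^ (j * m) := by
    simp only [h, map_mul, map_pow, hy, hub']
    rw [mul_right_comm, ← mul_pow, ← map_mul, Units.inv_mul, map_one, one_pow, one_mul]
  have hbar : G.red h ≠ 0 := fun e => pow_ne_zero G.e hgne (by rw [hred, e, zero_mul])
  have hle : (m * G.e) • E ≤ poles (G.red h) - (j * m) • FunFld.div k ub := by
    intro P
    simp only [Finsupp.smul_apply, nsmul_eq_mul, Finsupp.sub_apply, poles, Finsupp.mapRange_apply, div_apply G.hκ]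
    by_cases hP : P ∈ S
    · have h1 : P.ord g = -((m : ℤ) * E P) := by
        refine ord_of_val_eq P ?_
        rw [neg_neg]; exact hatt' P hP
      have h2 := congrArg P.ord hred
      rw [ord_pow, ord_mul P hbar (pow_ne_zero _ hub), ord_pow, h1] at h2
      push_cast at h2 ⊢
      have : -P.ord (G.red h) ≤ max (-P.ord (G.red h)) 0 := le_max_left _ _
      nlinarith
    · simp only [S, Finset.mem_insert, Finset.mem_union, Finsupp.mem_support_iff, not_or, not_not,
        div_apply G.hκ] at hP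
      rw [hP.2.1, hP.2.2]
      simp
  have hdeg := Divisor.deg_mono hle
  rw [Divisor.deg_sub, deg_nsmul, deg_nsmul, deg_div G.hκ, mul_zero, sub_zero] at hdeg
  have hne : (0 : ℤ) < ((m * G.e : ℕ) : ℤ) := by exact_mod_cast Nat.mul_pos hm G.e_pos
  by_cases htr : Transcendental k (G.red h)
  · refine ⟨?_, fun _ => ⟨m, h, hm, hhL, htr, hle⟩⟩
    have h1 := G.fundamental htr
    have h2 : (poles (h : F) : FunFld.Divisor K F) ≤ (m * G.e) • D := fun P => by
      have hP := hhL P
      have h0 : (0 : ℤ) ≤ ((m * G.e) • D) P := by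
        simp only [Finsupp.smul_apply, nsmul_eq_mul]
        exact mul_nonneg (Int.natCast_nonneg _) (hD P)
      rw [val_le_exp_iff P (fun e => hbar (by rw [show h = 0 from Subtype.ext e, map_zero]))] at hP
      simp only [poles, Finsupp.mapRange_apply, div_apply G.hK.1]
      omega
    have h3 := Divisor.deg_mono h2
    rw [deg_poles G.hK.1 (G.transcendental_coe htr), deg_nsmul] at h3
    rw [deg_poles G.hκ htr] at hdeg
    have h4 : (G.e : ℤ) * ((m * G.e : ℕ) * E.deg) ≤ (m * G.e : ℕ) * D.deg := by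
      refine (mul_le_mul_of_nonneg_left hdeg (Int.natCast_nonneg _)).trans (le_trans ?_ h3)
      exact_mod_cast h1
    refine le_of_mul_le_mul_left ?_ hne
    linarith
  · have hp : (poles (G.red h) : FunFld.Divisor k κ) = 0 := by
      ext P; simp [poles, div_eq_zero_of_algebraic G.hκ (not_not.1 htr)]
    rw [hp, Divisor.deg_zero] at hdeg
    have hE0 : E.deg ≤ 0 := by
      by_contra hc
      push Not at hc
      have := mul_pos hne hc
      linarith
    refine ⟨le_trans (mul_nonpos_of_nonneg_of_nonpos (Int.natCast_nonneg _) hE0) (Divisor.deg_nonneg hD), ?_⟩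
    intro hc; omega

/-- The dimension of a reduction space. -/
theorem finrank_red_le {D : FunFld.Divisor K F} (hD : 0 ≤ D) (j : ℕ) {q : ℤ} (hq : D.deg = G.e * q) :
    (Module.finrank k (G.red_j D j) : ℤ) ≤
      max (q + chi G.hκ) (max 0 (bound G.hκ) + FunFld.ell (0 : FunFld.Divisor k κ)) := by
  haveI := G.red_j_finite D j
  by_cases h : G.red_j D j = ⊥
  · rw [h, finrank_bot]; push_cast
    exact le_trans (by positivity) (le_max_right _ _)
  obtain ⟨E, hE, hatt⟩ := exists_sup_divisor G.hκ _ h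
  have h1 := (G.deg_le hD j hE hatt).1
  rw [hq] at h1
  have h2 : E.deg ≤ q := le_of_mul_le_mul_left h1 (by exact_mod_cast G.e_pos)
  haveI := L_finite G.hκ E
  refine le_trans ?_ ((ell_le_max G.hκ E).trans (max_le_max (by linarith) le_rfl))
  exact_mod_cast Submodule.finrank_mono hE

include G in
theorem exists_effective : ∃ D : FunFld.Divisor K F, 0 ≤ D ∧ 0 < D.deg := by
  obtain ⟨f, hf⟩ := G.exists_transcendental
  have ht := G.transcendental_coe hf
  refine ⟨poles (f : F), poles_nonneg _, ?_⟩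
  rw [deg_poles G.hK.1 ht]
  haveI := FFLib.IsFF.finite_adjoin G.hK.1 ht
  exact_mod_cast Module.finrank_pos

/-- The ramification index is one when the residue genus is at least the genus, itself at least two. -/
theorem e_eq_one (hc : chi G.hκ ≤ chi G.hK.1) (hneg : chi G.hK.1 < 0) :
    G.e = 1 ∧ chi G.hκ = chi G.hK.1 := by
  obtain ⟨D₁, hD₁, hd₁⟩ := G.exists_effective
  set B := max 0 (bound G.hκ) + (FunFld.ell (0 : FunFld.Divisor k κ) : ℤ)
  obtain ⟨n, hn⟩ : ∃ n : ℕ, B - chi G.hκ + bound G.hK.1 ≤ n ∧ B - chi G.hκ ≤ n ∧ bound G.hK.1 ≤ n :=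
    ⟨max (max (B - chi G.hκ + bound G.hK.1) (B - chi G.hκ)) (bound G.hK.1) |>.toNat, by omega⟩
  let D : FunFld.Divisor K F := (G.e * n) • D₁
  have hD : 0 ≤ D := nsmul_nonneg hD₁ _
  have hq : D.deg = G.e * ((n : ℤ) * D₁.deg) := by
    show ((G.e * n) • D₁).deg = _
    rw [deg_nsmul]; push_cast; ring
  have hq1 : (n : ℤ) ≤ (n : ℤ) * D₁.deg := le_mul_of_one_le_right (Int.natCast_nonneg _) (by omega)
  have he := G.e_pos
  have hell : (FunFld.ell D : ℤ) = D.deg + chi G.hK.1 := ell_eq G.hK.1 (by
    rw [hq]; nlinarith)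
  have hsum : (FunFld.ell D : ℤ) ≤ G.e * ((n : ℤ) * D₁.deg + chi G.hκ) := by
    refine le_trans (Int.ofNat_le.2 (G.ell_le_sum D)) ?_
    push_cast
    refine le_trans (Finset.sum_le_card_nsmul _ _ ((n : ℤ) * D₁.deg + chi G.hκ) fun j _ => ?_) (by simp)
    exact (G.finrank_red_le hD j hq).trans (max_le le_rfl (by omega))
  rw [hell, hq] at hsum
  have h1 : chi G.hK.1 ≤ G.e * chi G.hκ := by linarith
  have h2 : (G.e : ℤ) * chi G.hκ ≤ G.e * chi G.hK.1 := mul_le_mul_of_nonneg_left hc (by positivity)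
  have h3 : (G.e : ℤ) = 1 := by nlinarith
  refine ⟨by exact_mod_cast h3, ?_⟩
  rw [h3, one_mul] at h1
  omega

variable (he : G.e = 1) (hc : chi G.hκ = chi G.hK.1)
include he hc

/-- A degree from which the reductions fill a Riemann-Roch space. -/
theorem red_zero_eq {D : FunFld.Divisor K F} (hD : 0 ≤ D)
    (hd : bound G.hK.1 ≤ D.deg ∧ bound G.hκ ≤ D.deg ∧
      max 0 (bound G.hκ) + (FunFld.ell (0 : FunFld.Divisor k κ) : ℤ) < D.deg + chi G.hκ) :
    ∃ E : FunFld.Divisor k κ, 0 ≤ E ∧ E.deg = D.deg ∧ G.red_j D 0 = FunFld.L E ∧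
      ∀ P, ∃ s ∈ G.red_j D 0, P.1 s = exp (E P) := by
  haveI := G.red_j_finite D 0
  have hone := G.one_mem_red_zero hD
  have hne : G.red_j D 0 ≠ ⊥ := fun e => one_ne_zero ((Submodule.mem_bot k).1 (e ▸ hone))
  obtain ⟨E, hE, hatt⟩ := exists_sup_divisor G.hκ _ hne
  have hE0 : 0 ≤ E := fun P => by
    have h1 := hE hone P
    rw [map_one, ← exp_zero, exp_le_exp] at h1
    simpa using h1
  have h1 := (G.deg_le hD 0 hE hatt).1
  rw [he, Nat.cast_one, one_mul] at h1
  have h2 := G.ell_le_sum D
  rw [he, Finset.sum_range_one] at h2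
  haveI := L_finite G.hκ E
  have h3 : Module.finrank k (G.red_j D 0) ≤ FunFld.ell E := Submodule.finrank_mono hE
  have h4 := ell_eq G.hK.1 hd.1
  have h5 := ell_le_max G.hκ E
  have hdeg : E.deg = D.deg := by
    rcases max_choice (E.deg + chi G.hκ) (max 0 (bound G.hκ) + (FunFld.ell (0 : FunFld.Divisor k κ) : ℤ)) with h | h <;>
      rw [h] at h5 <;> omega
  refine ⟨E, hE0, hdeg, Submodule.eq_of_le_of_finrank_le hE ?_, hatt⟩
  show FunFld.ell E ≤ _
  have h6 := ell_eq G.hκ (D := E) (hdeg ▸ hd.2.1)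
  omega

/-- Functions of the same degree on both fibres. -/
def Good (_ : G.e = 1) (f : G.V) : Prop :=
  Transcendental k (G.red f) ∧
    (poles (G.red f) : FunFld.Divisor k κ).deg = (poles (f : F) : FunFld.Divisor K F).deg ∧
    bound G.hK.1 ≤ (poles (f : F) : FunFld.Divisor K F).deg ∧
    bound G.hκ ≤ (poles (f : F) : FunFld.Divisor K F).deg ∧
    max 0 (bound G.hκ) + (FunFld.ell (0 : FunFld.Divisor k κ) : ℤ) <
      (poles (f : F) : FunFld.Divisor K F).deg + chi G.hκ

theorem exists_good : ∃ f : G.V, G.Good he f := by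
  obtain ⟨D₁, hD₁, hd₁⟩ := G.exists_effective
  obtain ⟨n, hn⟩ : ∃ n : ℕ, bound G.hK.1 ≤ n ∧ bound G.hκ ≤ n ∧
      max 0 (bound G.hκ) + (FunFld.ell (0 : FunFld.Divisor k κ) : ℤ) < n + chi G.hκ ∧ 0 < n :=
    ⟨(max (max (bound G.hK.1) (bound G.hκ))
      (max 0 (bound G.hκ) + (FunFld.ell (0 : FunFld.Divisor k κ) : ℤ) - chi G.hκ + 1)).toNat + 1, by omega⟩
  let D : FunFld.Divisor K F := n • D₁
  have hD : 0 ≤ D := nsmul_nonneg hD₁ _
  have hdn : (n : ℤ) ≤ D.deg := by
    rw [deg_nsmul]; exact le_mul_of_one_le_right (Int.natCast_nonneg _) (by omega)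
  obtain ⟨E, hE0, hdeg, hEq, hatt⟩ := G.red_zero_eq he hc hD ⟨by omega, by omega, by omega⟩
  obtain ⟨-, hex⟩ := G.deg_le hD 0 hEq.le hatt
  obtain ⟨m, f, hm, hfL, hftr, hle⟩ := hex (by omega)
  rw [he, mul_one] at hfL hle
  simp only [zero_mul, zero_smul, sub_zero] at hle
  have htr := G.transcendental_coe hftr
  have hf0 : (f : F) ≠ 0 := fun e => htr (by rw [e]; exact isAlgebraic_zero)
  have h2 : (poles (f : F) : FunFld.Divisor K F) ≤ m • D := fun P => by
    have hP := hfL P
    rw [val_le_exp_iff P hf0] at hP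
    have h0 : (0 : ℤ) ≤ (m • D) P := by
      simp only [Finsupp.smul_apply, nsmul_eq_mul]
      exact mul_nonneg (Int.natCast_nonneg _) (hD P)
    simp only [poles, Finsupp.mapRange_apply, div_apply G.hK.1]
    omega
  have h3 := Divisor.deg_mono h2
  have h4 := Divisor.deg_mono hle
  rw [deg_nsmul] at h3 h4
  have h5 := G.fundamental hftr
  rw [he, one_mul] at h5
  have h6 := deg_poles G.hK.1 htr
  have h7 := deg_poles G.hκ hftr
  rw [hdeg] at h4
  have hmD : D.deg ≤ (m : ℤ) * D.deg := le_mul_of_one_le_left (by omega) (by exact_mod_cast hm)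
  exact ⟨f, hftr, by omega, by omega, by omega, by omega⟩

theorem Good.exists_inv {f : G.V} (hf : G.Good he f) :
    ∃ f' : G.V, (f' : F) = (f : F)⁻¹ ∧ G.Good he f' := by
  haveI := G.isDVR
  obtain ⟨htr, hdeg, hb⟩ := hf
  have h0 : G.red f ≠ 0 := fun e => htr (by rw [e]; exact isAlgebraic_zero)
  have hu : IsUnit f := by
    by_contra h
    exact h0 ((G.red_eq_zero f).2 h)
  obtain ⟨v, rfl⟩ := hu
  have h1 : ((v⁻¹ : G.Vˣ) : G.V).1 = ((v : G.V) : F)⁻¹ := by
    refine eq_inv_of_mul_eq_one_left ?_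
    exact congrArg Subtype.val (Units.inv_mul v)
  have h2 : G.red (v⁻¹ : G.Vˣ) = (G.red v)⁻¹ := by
    refine eq_inv_of_mul_eq_one_left ?_
    rw [← map_mul, Units.inv_mul, map_one]
  have e1 : (poles ((v : G.V) : F)⁻¹ : FunFld.Divisor K F).deg = (poles ((v : G.V) : F) : FunFld.Divisor K F).deg := by
    rw [deg_poles G.hK.1 (transcendental_inv (G.transcendental_coe htr)), adjoin_inv,
      deg_poles G.hK.1 (G.transcendental_coe htr)]
  refine ⟨(v⁻¹ : G.Vˣ), h1, h2 ▸ transcendental_inv htr, ?_, ?_⟩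
  · rw [h2, h1, e1, deg_poles G.hκ (transcendental_inv htr), adjoin_inv, ← deg_poles G.hκ htr, hdeg]
  · rwa [h1, e1]

theorem Good.red_level {f : G.V} (hf : G.Good he f) {l : ℕ} (hl : 0 < l) :
    G.red_j (l • poles (f : F)) 0 = FunFld.L (l • (poles (G.red f) : FunFld.Divisor k κ)) := by
  obtain ⟨htr, hdeg, hb1, hb2, hb3⟩ := hf
  have hD : (0 : FunFld.Divisor K F) ≤ l • poles (f : F) := nsmul_nonneg (poles_nonneg _) _
  have hd0 : 0 ≤ (poles (f : F) : FunFld.Divisor K F).deg := Divisor.deg_nonneg (poles_nonneg _)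
  have hle : (poles (f : F) : FunFld.Divisor K F).deg ≤ (l • poles (f : F) : FunFld.Divisor K F).deg := by
    rw [deg_nsmul]; exact le_mul_of_one_le_left hd0 (by exact_mod_cast hl)
  obtain ⟨E, hE0, hdE, hEq, -⟩ := G.red_zero_eq he hc hD ⟨by omega, by omega, by omega⟩
  have hfl : G.red f ^ l ∈ G.red_j (l • poles (f : F)) 0 := by
    have := G.red_j_pow (poles (f : F)) 0 l (Submodule.pow_mem_pow _ (x := G.red f) (show G.red f ∈ G.red_j (poles (f : F)) 0 from
      ⟨f, rfl, by rw [pow_zero, one_mul]; exact fun P => val_le_exp_poles G.hK.1 _ P⟩) l)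
    rwa [zero_mul] at this
  have hf0 : G.red f ≠ 0 := fun e => htr (by rw [e]; exact isAlgebraic_zero)
  have hlE : l • (poles (G.red f) : FunFld.Divisor k κ) ≤ E := fun P => by
    have h1 := (hEq ▸ hfl : G.red f ^ l ∈ FunFld.L E) P
    rw [val_le_exp_iff P (pow_ne_zero _ hf0), ord_pow] at h1
    have h2 := hE0 P
    simp only [Finsupp.smul_apply, nsmul_eq_mul, poles, Finsupp.mapRange_apply, div_apply G.hκ,
      Finsupp.coe_zero, Pi.zero_apply] at h2 ⊢
    rcases le_total (-P.ord (G.red f)) 0 with h | h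
    · rw [max_eq_right h, mul_zero]; exact h2
    · rw [max_eq_left h]; linarith
  rw [hEq, ← deg_eq_of_le G.hκ hlE (by rw [hdE, deg_nsmul, deg_nsmul, hdeg])]

end GData

end Groth.Agent.GRModel
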