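import Groth.Agent.GRModel.Const
import Groth.Agent.HyperP1.LineMap
import Groth.Agent.ZetaCurve.Bridge

/-!
# Functions regular outside the poles of a function on a smooth proper curve
-/

noncomputable section

set_option autoImplicit false
set_option linter.style.haveILetI false
set_option linter.unusedSectionVars false
set_option backward.isDefEq.respectTransparency false
set_option backward.isDefEq.respectTransparency.types false

universe u

open CategoryTheory CategoryTheory.Limits AlgebraicGeometry TopologicalSpace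
open Groth.Agent.ZetaLib Groth.Agent.CurveCohLib.Polar
open HomogeneousLocalization (Away)

namespace Groth.Agent.GRModel

variable (k : Type u) [Field k]

local notation "𝒜" => CohB1.polyGrading 1 k
local notation "T" => (MvPolynomial.X : Fin (1 + 1) → MvPolynomial (Fin (1 + 1)) k)

variable {X : Scheme.{u}} [X.Over (Spec (CommRingCat.of k))] [IsIntegral X]
  [IsProper (X ↘ Spec (CommRingCat.of k))] [Smooth (X ↘ Spec (CommRingCat.of k))]

attribute [local instance] ZetaCurve.ffAlg

/-- The points at which a function is regular form an affine open. -/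
theorem exists_affine_inR (hdim : topologicalKrullDim X = 1) {x : X.functionField} (hx : Transcendental k x) :
    ∃ U : X.Opens, IsAffineOpen U ∧ ∀ z, z ∈ U ↔ InR z x := by
  obtain ⟨f, hf, hgen⟩ := HyperP1.exists_map k hdim x
  obtain ⟨hfin, -⟩ := HyperP1.map_props k hdim hx f hf hgen
  haveI := hfin
  haveI : IsProper (CohB1.ProjSpace.toSpec 1 k) := PnCoh.Chow.isProper_toSpec 1 k
  haveI : (CohB1.ProjSpace 1 k).IsSeparated :=
    ⟨by rw [← Limits.terminal.comp_from (CohB1.ProjSpace.toSpec 1 k)]; infer_instance⟩
  let V := f ⁻¹ᵁ (chart 1 k 0).opensRange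
  refine ⟨V, (isAffineOpen_opensRange (chart 1 k 0)).preimage f, fun z => ?_⟩
  let ι : X.presheaf.stalk z ⟶ X.functionField := X.presheaf.stalkSpecializes (genericPoint_specializes z)
  have hι : Spec.map ι ≫ X.fromSpecStalk z = X.fromSpecStalk (genericPoint X) :=
    Scheme.SpecMap_stalkSpecializes_fromSpecStalk _
  constructor
  · intro hz
    have hsub : Set.range (X.fromSpecStalk z ≫ f) ⊆ Set.range (chart 1 k 0) := by
      rintro _ ⟨p, rfl⟩
      have hp : X.fromSpecStalk z p ∈ V := by
        have hs : X.fromSpecStalk z p ⤳ z := by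
          have := (IsLocalRing.specializes_closedPoint p).map (X.fromSpecStalk z).continuous
          rwa [Scheme.fromSpecStalk_closedPoint] at this
        exact hs.mem_open V.2 hz
      exact hp
    let a := Spec.preimage (IsOpenImmersion.lift (chart 1 k 0) _ hsub)
    have ha : Spec.map a ≫ chart 1 k 0 = X.fromSpecStalk z ≫ f := by
      rw [Spec.map_preimage, IsOpenImmersion.lift_fac]
    have h1 : a ≫ ι = CommRingCat.ofHom (evalAt (k := k) (K := X.functionField) (0 : Fin (1 + 1)) ![1, x] rfl) := by
      apply Spec.map_injective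
      rw [← cancel_mono (chart 1 k 0), Spec.map_comp, Category.assoc, ha, reassoc_of% hι, hgen]
      rfl
    refine ⟨a (coord 1 k 0 1), ?_⟩
    have h2 := congr($h1 (coord 1 k 0 1))
    exact h2.trans (evalAt_coord (k := k) (K := X.functionField) (0 : Fin (1 + 1)) ![1, x] rfl 1)
  · rintro ⟨c, hc⟩
    have hρ : Function.Injective ι.hom := IsFractionRing.injective (X.presheaf.stalk z) X.functionField
    let ev := evalAt (k := k) (K := X.functionField) (0 : Fin (1 + 1)) ![1, x] rfl
    have hmem : ∀ w, ev w ∈ ι.hom.range := by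
      intro w
      obtain ⟨p, rfl⟩ := surjective_dehom 1 k 0 w
      induction p using MvPolynomial.induction_on with
      | C r =>
        refine ⟨Curv2.stalkMap k X z r, ?_⟩
        rw [dehom, MvPolynomial.eval₂Hom_C]
        exact ((ZetaCurve.algebraMap_eq k X z r).symm).trans (congr($(evalAt_base (k := k) (K := X.functionField) (0 : Fin (1 + 1)) ![1, x] rfl) r)).symm
      | add p q hp hq => rw [map_add, map_add]; exact add_mem hp hq
      | mul_X p l hp =>
        rw [map_mul, map_mul]
        refine mul_mem hp ?_
        rw [dehom, MvPolynomial.eval₂Hom_X', evalAt_coord]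
        fin_cases l
        · exact one_mem _
        · exact ⟨c, hc⟩
    let a : Away 𝒜 (T 0) →+* X.presheaf.stalk z :=
      (RingEquiv.ofBijective ι.hom.rangeRestrict
        ⟨fun u v h => hρ (congrArg Subtype.val h), ι.hom.rangeRestrict_surjective⟩).symm.toRingHom.comp
        (ev.codRestrict ι.hom.range hmem)
    have ha : ∀ w, ι.hom (a w) = ev w := fun w =>
      congrArg Subtype.val ((RingEquiv.ofBijective ι.hom.rangeRestrict
        ⟨fun u v h => hρ (congrArg Subtype.val h), ι.hom.rangeRestrict_surjective⟩).apply_symm_apply ⟨ev w, hmem w⟩)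
    haveI : IsDominant (Spec.map ι) := by
      have h1 : DenseRange (PrimeSpectrum.comap ι.hom) := by
        rw [PrimeSpectrum.denseRange_comap_iff_ker_le_nilRadical, (RingHom.injective_iff_ker_eq_bot _).1 hρ]
        exact bot_le
      exact ⟨h1⟩
    have h : X.fromSpecStalk z ≫ f = Spec.map (CommRingCat.ofHom a) ≫ chart 1 k 0 := by
      refine ext_of_isDominant (Spec.map ι) ?_
      rw [reassoc_of% hι, hgen, ← Spec.map_comp_assoc]
      show _ = Spec.map (CommRingCat.ofHom (ι.hom.comp a)) ≫ _
      rw [show ι.hom.comp a = ev from RingHom.ext ha]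
      rfl
    show f z ∈ Set.range (chart 1 k 0)
    refine ⟨Spec.map (CommRingCat.ofHom a) (IsLocalRing.closedPoint (X.presheaf.stalk z)), ?_⟩
    rw [← Scheme.Hom.comp_apply, ← h, Scheme.Hom.comp_apply]
    exact congrArg f Scheme.fromSpecStalk_closedPoint

/-- The function ring of the regular locus is the ring of functions regular outside the poles. -/
theorem range_germ_eq_reg (hdim : topologicalKrullDim X = 1) (hF : FFLib.IsFF k X.functionField)
    {x : X.functionField} {U : X.Opens} (hU : ∀ z, z ∈ U ↔ InR z x) (hη : genericPoint X ∈ U) :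
    Set.range (X.presheaf.germ U (genericPoint X) hη).hom = {a | Reg (k := k) x a} := by
  have hkey : ∀ z : ZetaCurve.Pt X, FFLib.poles (k := k) x (ZetaCurve.pl k X hdim z) = 0 ↔ z.1 ∈ U := by
    intro z
    rw [hU, ZetaCurve.inR_iff k X hdim]
    rcases eq_or_ne x 0 with rfl | hx
    · simp [FFLib.poles, FFLib.div_apply hF, FunFld.Place.ord]
    rw [FFLib.val_le_one_iff _ hx]
    simp [FFLib.poles, FFLib.div_apply hF]
  ext a
  constructor
  · rintro ⟨r, rfl⟩ P hP
    obtain ⟨z, rfl⟩ := (ZetaCurve.pl k X hdim).surjective P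
    exact (ZetaCurve.inR_iff k X hdim z _).1 (inR_gη ((hkey z).1 hP) r)
  · intro ha
    have : ∀ z ∈ U, InR z a := by
      intro z hz
      rcases ZetaCurve.eq_or_isClosed k X hdim z with rfl | hc
      · exact ⟨a, ZetaCurve.algebraMap_generic X a⟩
      · exact (ZetaCurve.inR_iff k X hdim ⟨z, hc⟩ a).2 (ha _ ((hkey ⟨z, hc⟩).2 hz))
    obtain ⟨r, hr⟩ := exists_of_forall_inR this
    exact ⟨r, hr hη⟩

end Groth.Agent.GRModel
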