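import Groth.Agent.GRModel.Surface
import Groth.Agent.FibIso.Dvr
import Groth.Agent.CurveCohLib.SmoothCurve
import Groth.Agent.CurveBC.Main
import Groth.Agent.DvrModel.Connected
import Groth.Agent.S2209
import Groth.Agent.GRModel.FromModel

/-!
# The closed fibre of a smooth proper model
-/

noncomputable section

set_option autoImplicit false
set_option linter.style.haveILetI false
set_option linter.unusedSectionVars false
set_option backward.isDefEq.respectTransparency false
set_option backward.isDefEq.respectTransparency.types false
set_option maxHeartbeats 1000000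

universe u

open CategoryTheory CategoryTheory.Limits AlgebraicGeometry TopologicalSpace
open IsLocalRing (ResidueField)

namespace Groth.Agent.GRModel

open Groth.Agent

variable {R : Type u} [CommRing R] [IsDomain R] [IsDiscreteValuationRing R]
  {C X : Scheme.{u}} {f : C ⟶ Spec (CommRingCat.of (FractionRing R))} {p : X ⟶ Spec (CommRingCat.of R)}

theorem ker_residue_spec :
    (Spec.map (CommRingCat.ofHom (IsLocalRing.residue R))).ker =
      Curv2.idealSheaf R (IsLocalRing.maximalIdeal R) := by
  rw [Scheme.ker_of_isAffine, Curv2.idealSheaf]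
  congr 1
  ext a
  let φ := CommRingCat.ofHom (IsLocalRing.residue R)
  have hn := ConcreteCategory.congr_hom (Scheme.ΓSpecIso_naturality φ) a
  simp only [ConcreteCategory.comp_apply] at hn
  rw [RingHom.mem_ker, ← map_eq_zero_iff _ (ConcreteCategory.bijective_of_isIso
    (Scheme.ΓSpecIso (CommRingCat.of (ResidueField R))).hom).1,
    show IsLocalRing.maximalIdeal R = RingHom.ker φ.hom from (IsLocalRing.ker_residue (R := R)).symm]
  constructor
  · intro h
    refine (Ideal.mem_map_iff_of_surjective _ (ConcreteCategory.bijective_of_isIso (Scheme.ΓSpecIso (CommRingCat.of R)).inv).2).2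
      ⟨(Scheme.ΓSpecIso (CommRingCat.of R)).hom a, hn.symm.trans h, ?_⟩
    exact Iso.hom_inv_id_apply _ _
  · intro h
    obtain ⟨b, hb, rfl⟩ := (Ideal.mem_map_iff_of_surjective _
      (ConcreteCategory.bijective_of_isIso (Scheme.ΓSpecIso (CommRingCat.of R)).inv).2).1 h
    refine hn.trans ?_
    rw [Iso.inv_hom_id_apply]
    exact hb

/-- The closed fibre of a smooth proper model is one smooth component with trivial constants. -/
theorem exists_smooth_component (hC : Curve.IsSmoothProperCurve (FractionRing R) C f) (hH0 : IsIso f.appTop)
    (hX : Models.IsModel R X p C f) [IsProper p] [Smooth p] :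
    ∃ G : ArSurf.VertComp R (Over.mk p), Smooth G.curve.hom ∧
      (MdlInter.iotaX G).ker = MdlInter.sfI p ∧
      Set.range (MdlInter.iotaX G) = Models.specialFibreSet R (Over.mk p) ∧
      Models.IsComponentList R (Over.mk p) (fun _ : Fin 1 => G) ∧
      Models.wdeg R (Over.mk p) G = 1 := by
  obtain ⟨-, -, -, g, hg⟩ := id hX
  haveI := hC.2.2.1
  have hdimC := hC.2.2.2
  have hreg : Models.IsRegularScheme X := fun x => FibIso.isRegularLocalRing_stalk_of_smooth p x
  haveI := isIntegral_model hreg hg
  let i : Spec (CommRingCat.of (ResidueField R)) ⟶ Spec (CommRingCat.of R) :=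
    Spec.map (CommRingCat.ofHom (IsLocalRing.residue R))
  haveI : IsClosedImmersion i := IsClosedImmersion.spec_of_surjective _ IsLocalRing.residue_surjective
  let E := pullback p i
  let q := pullback.snd p i
  letI : E.Over (Spec (CommRingCat.of (ResidueField R))) := ⟨q⟩
  haveI : IsProper (E ↘ Spec (CommRingCat.of (ResidueField R))) := inferInstanceAs (IsProper q)
  haveI : Smooth (E ↘ Spec (CommRingCat.of (ResidueField R))) := inferInstanceAs (Smooth q)
  haveI : ConnectedSpace ↥E := S2209.result R C X f p hC hH0 ⟨hX, inferInstance, hreg⟩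
  haveI : CompactSpace ↥E := QuasiCompact.compactSpace_of_compactSpace q
  haveI : IsIntegral E := CurveCohLib.isIntegral_of_smooth_connected q
  haveI : GeometricallyConnected p :=
    DvrModel.geometricallyConnected_of_model f p hreg g hg (ConcreteCategory.bijective_of_isIso f.appTop)
  haveI : GeometricallyConnected (E ↘ Spec (CommRingCat.of (ResidueField R))) :=
    inferInstanceAs (GeometricallyConnected (pullback.snd p i))
  have hrange : Set.range (pullback.fst p i) = Models.specialFibreSet R (Over.mk p) := by
    rw [Scheme.Pullback.range_fst]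
    show p ⁻¹' Set.range i = p ⁻¹' {IsLocalRing.closedPoint R}
    congr 1
    refine Set.eq_singleton_iff_unique_mem.2 ⟨⟨IsLocalRing.closedPoint (ResidueField R), IsLocalRing.comap_closedPoint (IsLocalRing.residue R)⟩, ?_⟩
    rintro _ ⟨y, rfl⟩
    rw [show y = IsLocalRing.closedPoint (ResidueField R) from
      Subsingleton.elim (α := PrimeSpectrum (ResidueField R)) _ _]
    exact IsLocalRing.comap_closedPoint (IsLocalRing.residue R)
  haveI : IsClosedImmersion (pullback.fst p i) := MorphismProperty.pullback_fst _ _ inferInstance
  -- the generic point is maximal in the closed fibre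
  have hclos : closure ({pullback.fst p i (genericPoint E)} : Set X) = Models.specialFibreSet R (Over.mk p) := by
    rw [← hrange]
    exact (MdlInter.range_eq_closure_gen (pullback.fst p i)).symm
  have hirr : IsIrreducible (Models.specialFibreSet R (Over.mk p) : Set X) := hclos ▸ isIrreducible_singleton.closure
  have hcomp : Models.fibreComponents R (Over.mk p) = {Set.range (pullback.fst p i)} := by
    refine Set.eq_singleton_iff_unique_mem.2 ⟨?_, fun T hT => ?_⟩
    · rw [hrange]
      exact ⟨⟨hirr, subset_rfl⟩, fun T hT _ => hT.2⟩
    · rw [hrange]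
      exact le_antisymm hT.1.2 (hT.2 ⟨hirr, subset_rfl⟩ hT.1.2)
  have hmax : MdlMap.IsMaxSpecial p (pullback.fst p i (genericPoint E)) := by
    refine MdlMap.isMaxSpecial_of_mem ?_
    rw [hclos, hcomp, hrange]
    rfl
  obtain ⟨G', hG'⟩ := exists_vertComp_of_max hg hdimC hmax
  haveI : IsClosedImmersion (MdlInter.iotaX G') := G'.isClosedImmersion
  have hdimE : topologicalKrullDim E = 1 := by
    let e1 := (pullback.fst p i).isClosedEmbedding.isEmbedding.toHomeomorph
    let e2 := (MdlInter.iotaX G').isClosedEmbedding.isEmbedding.toHomeomorph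
    rw [e1.isHomeomorph.topologicalKrullDim_eq, hrange, ← hclos, ← hG', ← e2.isHomeomorph.topologicalKrullDim_eq]
    exact G'.dim_eq
  let G : ArSurf.VertComp R (Over.mk p) :=
    { curve := Over.mk q
      ι := pullback.fst p i
      isClosedImmersion := inferInstance
      isIntegral := inferInstanceAs (IsIntegral E)
      dim_eq := hdimE
      w := pullback.condition }
  refine ⟨G, inferInstanceAs (Smooth q), ?_, hrange, ⟨fun a b _ => Subsingleton.elim a b, ?_⟩, ?_⟩
  · refine (Scheme.IdealSheafData.ker_fst_of_isClosedImmersion _ p).trans ?_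
    rw [ker_residue_spec]
    rfl
  · rw [hcomp]
    exact Set.range_const
  · exact CurveBC.finrank_h0_of_geometricallyConnected (k := ResidueField R) (X := E)

end Groth.Agent.GRModel
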