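import Groth.Agent.GRModel.PointCentre
import Groth.Agent.GRModel.Centre
import Groth.Agent.GRModel.SmoothModel
import Groth.Agent.MdlMap.Main
import Groth.Agent.MdlSection.Field
import Groth.Agent.MdlInter.Conn
import Groth.Agent.FFLib.Rational

/-!
# The centre of the closed fibre of a smooth model on a regular proper model
-/

noncomputable section

set_option autoImplicit false
set_option linter.style.haveILetI false
set_option linter.unusedSectionVars false
set_option backward.isDefEq.respectTransparency false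
set_option backward.isDefEq.respectTransparency.types false
set_option maxHeartbeats 2000000

universe u

open CategoryTheory CategoryTheory.Limits AlgebraicGeometry TopologicalSpace
open IsLocalRing (ResidueField maximalIdeal)

namespace Groth.Agent.GRModel

open Groth.Agent

variable {R : Type u} [CommRing R] [IsDomain R] [IsDiscreteValuationRing R]
  {C X X₀ : Scheme.{u}} {f : C ⟶ Spec (CommRingCat.of (FractionRing R))}
  {p : X ⟶ Spec (CommRingCat.of R)} {p₀ : X₀ ⟶ Spec (CommRingCat.of R)}

attribute [local instance 10000] ZetaCurve.ffAlg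

theorem component_or_point (hC : Curve.IsSmoothProperCurve (FractionRing R) C f) (hH0 : IsIso f.appTop)
    (hX : Models.IsRegularProperModel R X p C f) (hX₀ : Models.IsModel R X₀ p₀ C f) [IsProper p₀] [Smooth p₀]
    {g : C ⟶ X} (hg : IsPullback g f p (Spec.map (CommRingCat.ofHom (algebraMap R (FractionRing R)))))
    {g₀ : C ⟶ X₀} (hg₀ : IsPullback g₀ f p₀ (Spec.map (CommRingCat.ofHom (algebraMap R (FractionRing R))))) :
    (∃ φ : X ⟶ X₀, φ ≫ p₀ = p ∧ g ≫ φ = g₀) ∨
      (Models.curveGenus (FractionRing R) C f = 0 ∧ ∃ x : X, x ∈ Models.specialFibreSet R (Over.mk p) ∧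
        IsClosed ({x} : Set X) ∧
        (∀ a : X.presheaf.stalk x, ∃ r : R, a - MdlInter.pi p r x ∈ maximalIdeal (X.presheaf.stalk x)) ∧
        ∀ ϖ : R, maximalIdeal R = Ideal.span {ϖ} →
          MdlInter.pi p ϖ x ∉ maximalIdeal (X.presheaf.stalk x) ^ 2) := by
  classical
  haveI := hC.2.2.1
  have hdimC := hC.2.2.2
  haveI := hX.2.1
  haveI := hX.1.1
  have hreg := hX.2.2
  haveI := isIntegral_model hreg hg
  have hreg₀ : Models.IsRegularScheme X₀ := fun x => FibIso.isRegularLocalRing_stalk_of_smooth p₀ x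
  haveI := hX₀.1
  haveI := isIntegral_model hreg₀ hg₀
  have hn := RefX2.isNormalScheme_of_regular hreg
  haveI : IsLocallyNoetherian X₀ := LocallyOfFiniteType.isLocallyNoetherian p₀
  haveI : IsLocallyNoetherian X := LocallyOfFiniteType.isLocallyNoetherian p
  have hn₀ := RefX2.isNormalScheme_of_regular hreg₀
  haveI := MdlMap.isOpenImmersion_iota hg
  haveI := MdlMap.isOpenImmersion_iota hg₀
  have hcX : g (genericPoint C) = genericPoint X := genericPoint_eq_of_isOpenImmersion g
  have hcX₀ : g₀ (genericPoint C) = genericPoint X₀ := genericPoint_eq_of_isOpenImmersion g₀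
  obtain ⟨G, hGsm, hker, hrange, hlist, hw⟩ := exists_smooth_component hC hH0 hX₀
  haveI : IsClosedImmersion (MdlInter.iotaX G) := G.isClosedImmersion
  haveI := G.isIntegral
  let E := G.curve.left
  let ι : E ⟶ X₀ := MdlInter.iotaX G
  let η := genericPoint E
  let ξ := ι η
  have hξF : closure ({ξ} : Set X₀) = Models.specialFibreSet R (Over.mk p₀) :=
    (MdlInter.range_eq_closure_gen ι).symm.trans hrange
  have hcomp : ∀ T ∈ Models.fibreComponents R (Over.mk p₀), (T : Set X₀) = closure {ξ} := fun T hT => by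
    obtain ⟨i, hi⟩ := hlist.2.ge hT
    rw [← hi]
    exact MdlInter.range_eq_closure_gen ι
  have hmax : MdlMap.IsMaxSpecial p₀ ξ := by
    refine MdlMap.isMaxSpecial_of_mem ?_
    have h := hlist.2.le ⟨0, rfl⟩
    change Set.range ι ∈ _ at h
    rw [MdlInter.range_eq_closure_gen ι] at h
    exact h
  -- the valuation
  let hsp := MdlMap.spec_to g₀ hcX₀ ξ
  haveI := (hn₀ ξ).1
  haveI hvr := MdlMap.valuationRing_max hn₀ hmax
  let φ₀ : X₀.presheaf.stalk ξ →+* C.functionField := MdlMap.phi g₀ hsp
  have hφinj : Function.Injective φ₀ := MdlMap.phi_injective g₀ hcX₀ hsp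
  have hval : ∀ t : C.functionField, t ∈ φ₀.range ∨ t⁻¹ ∈ φ₀.range :=
    @MdlMap.valSet_img _ _ _ _ g₀ _ hcX₀ ξ _ hvr
  let V : ValuationSubring C.functionField := ValuationSubring.ofSubring φ₀.range hval
  let eV : X₀.presheaf.stalk ξ ≃+* V :=
    RingEquiv.ofBijective (φ₀.codRestrict V.toSubring fun a => ⟨a, rfl⟩)
      ⟨fun a b h => hφinj (congrArg Subtype.val h), fun ⟨t, a, ha⟩ => ⟨a, Subtype.ext ha⟩⟩
  have hcst : ∀ r, φ₀ (MdlInter.pi p₀ r ξ) = cst f r := phi_stalkHom hg₀ hsp
  obtain ⟨x, hx, hxV, hloc⟩ := exists_centre hg V fun r => ⟨_, hcst r⟩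
  haveI := hloc
  let ψ : X.presheaf.stalk x →+* V := (MdlMap.phi g hx).codRestrict V.toSubring hxV
  have hψr : ∀ r, eV.symm (ψ (MdlInter.pi p r x)) = MdlInter.pi p₀ r ξ := fun r =>
    eV.symm_apply_eq.2 (Subtype.ext ((phi_stalkHom hg hx r).trans (hcst r).symm))
  obtain ⟨ϖ₁, hϖ₁⟩ := IsDiscreteValuationRing.exists_irreducible R
  have hπmax : ∀ ϖ : R, maximalIdeal R = Ideal.span {ϖ} →
      maximalIdeal (X₀.presheaf.stalk ξ) = Ideal.span {MdlInter.pi p₀ ϖ ξ} := by
    intro ϖ hϖ
    obtain ⟨U, hU⟩ := MdlInter.exists_affine ξ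
    have h1 := MdlInter.stI_gen ι U hU
    rw [show ι.ker = MdlInter.sfI p₀ from hker] at h1
    exact h1.symm.trans (MdlInter.stI_specialFibreIdeal p₀ hϖ U hU)
  have hπne : ∀ ϖ : R, maximalIdeal R = Ideal.span {ϖ} → MdlInter.pi p₀ ϖ ξ ≠ 0 := fun ϖ hϖ =>
    MdlInter.pi_ne_zero p₀ (fun e => IsDiscreteValuationRing.not_a_field R (by rw [hϖ, e, Ideal.span_singleton_zero])) ξ
  have hψmax : ∀ a ∈ maximalIdeal (X.presheaf.stalk x), eV.symm (ψ a) ∈ maximalIdeal (X₀.presheaf.stalk ξ) :=
    fun a ha => by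
      rw [IsLocalRing.mem_maximalIdeal, mem_nonunits_iff] at ha ⊢
      rw [MulEquiv.isUnit_map eV.symm, isUnit_map_iff ψ]
      exact ha
  have hxF : x ∈ Models.specialFibreSet R (Over.mk p) := by
    refine (MdlInter.isUnit_pi_iff p hϖ₁.maximalIdeal_eq x).1 fun hu => ?_
    have h := (hu.map ψ).map eV.symm.toRingHom
    change IsUnit (eV.symm (ψ (MdlInter.pi p ϖ₁ x))) at h
    rw [hψr] at h
    exact (MdlInter.isUnit_pi_iff p₀ hϖ₁.maximalIdeal_eq ξ).2 hmax.1 h
  by_cases hxm : MdlMap.IsMaxSpecial p x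
  · -- a component
    left
    haveI := (hn x).1
    haveI := MdlMap.valuationRing_max hn hxm
    have hdom : MdlMap.Dom (MdlMap.img g hx) (MdlMap.img g₀ hsp) := by
      refine ⟨?_, ?_⟩
      · rintro _ ⟨t, rfl⟩
        exact hxV t
      · rintro _ ⟨t, rfl⟩ hne hmem
        have hu : IsUnit (ψ t) := IsUnit.of_mul_eq_one ⟨_, hmem⟩ (Subtype.ext (mul_inv_cancel₀ hne))
        obtain ⟨v, rfl⟩ := (isUnit_map_iff ψ t).1 hu
        refine ⟨(v⁻¹ : (X.presheaf.stalk x)ˣ), eq_inv_of_mul_eq_one_left ?_⟩
        rw [← map_mul, Units.inv_mul, map_one]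
    have heq := MdlMap.eq_of_valSet (MdlMap.valSet_img g hcX) hdom
    refine MdlMap.exists_morphism hdimC.le hn hn₀ hg hg₀ fun ξ' hξ' hc => ?_
    have e : ξ' = ξ := (isGenericPoint_closure (x := ξ')).eq (by rw [hcomp _ hc]; exact isGenericPoint_closure)
    subst e
    exact ⟨x, hx, MdlMap.closure_mem_components hxm, heq⟩
  -- a closed point
  right
  have hxcl : IsClosed ({x} : Set X) := by
    rw [← closure_eq_iff_isClosed]
    refine Set.Subset.antisymm (fun y hy => ?_) subset_closure
    by_contra hne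
    have hy' : x ⤳ y := specializes_iff_mem_closure.2 hy
    exact hxm (MdlMap.isMaxSpecial_of_ne hg hdimC.le hxF
      (hy'.mem_closed (Models.isClosed_specialFibreSet R (Over.mk p)) hxF) hy' (fun e => hne e.symm))
  -- the residue map
  letI : E.Over (Spec (CommRingCat.of (ResidueField R))) := ⟨G.curve.hom⟩
  haveI : IsProper (E ↘ Spec (CommRingCat.of (ResidueField R))) := MdlInter.isProper_curve G
  haveI : Smooth (E ↘ Spec (CommRingCat.of (ResidueField R))) := hGsm
  haveI := G.isIntegral
  let ρ : X₀.presheaf.stalk ξ →+* E.functionField := (ι.stalkMap η).hom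
  let red : V →+* E.functionField := ρ.comp eV.symm.toRingHom
  have hρker : ∀ a, ρ a = 0 ↔ a ∈ maximalIdeal (X₀.presheaf.stalk ξ) := fun a => by
    rw [IsLocalRing.mem_maximalIdeal, mem_nonunits_iff]
    refine ⟨fun h hu => ?_, fun h => ?_⟩
    · have := hu.map ρ
      rw [h] at this
      exact not_isUnit_zero this
    · by_contra hne
      exact h ((isUnit_map_iff (ι.stalkMap η).hom a).1 (isUnit_iff_ne_zero.2 hne))
  have red_eq : ∀ v, red v = 0 ↔ v ∈ maximalIdeal V := fun v => by
    refine (hρker _).trans ?_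
    rw [IsLocalRing.mem_maximalIdeal, IsLocalRing.mem_maximalIdeal, mem_nonunits_iff, mem_nonunits_iff]
    exact not_congr (MulEquiv.isUnit_map eV.symm)
  have red_surj : Function.Surjective red :=
    (ι.stalkMap_surjective η).comp eV.symm.surjective
  have hredr : ∀ r, red (ψ (MdlInter.pi p r x)) =
      algebraMap (ResidueField R) E.functionField (IsLocalRing.residue R r) := fun r => by
    show ρ (eV.symm _) = _
    rw [hψr]
    exact stalkMap_toGlobal ι p₀ G.curve.hom (IsLocalRing.residue R) G.w η r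
  haveI : IsDiscreteValuationRing V := by
    haveI : IsNoetherianRing (X₀.presheaf.stalk ξ) := inferInstance
    haveI : IsNoetherianRing V := isNoetherianRing_of_ringEquiv _ eV
    haveI : IsPrincipalIdealRing (X₀.presheaf.stalk ξ) :=
      ((IsBezout.TFAE (R := X₀.presheaf.stalk ξ)).out 0 1).1 ‹_›
    haveI : IsPrincipalIdealRing V := IsPrincipalIdealRing.of_surjective eV.toRingHom eV.surjective
    refine { not_a_field' := fun h => ?_ }
    have hm : eV (MdlInter.pi p₀ ϖ₁ ξ) ∈ maximalIdeal V := by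
      rw [← red_eq]
      show ρ (eV.symm (eV _)) = 0
      rw [eV.symm_apply_apply, hρker, hπmax ϖ₁ hϖ₁.maximalIdeal_eq]
      exact Ideal.mem_span_singleton_self _
    rw [h, Submodule.mem_bot, map_eq_zero_iff _ eV.injective] at hm
    exact hπne ϖ₁ hϖ₁.maximalIdeal_eq hm
  -- the local ring of the point
  let A : Type u := X.presheaf.stalk x
  haveI : IsRegularLocalRing A := hreg x
  have hAdim : ringKrullDim A = 2 := ringKrullDim_stalk_closed hg hdimC hxF hxcl
  letI : Algebra A C.functionField := (MdlMap.phi g hx).toAlgebra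
  haveI : IsFractionRing A C.functionField := by
    have hsp0 : g (genericPoint C) ⤳ genericPoint X := specializes_of_eq hcX
    haveI : IsIso (X.presheaf.stalkSpecializes hsp0) :=
      BirNormal.isIso_stalkSpecializes_of_eq hcX _
    let e : X.functionField ≅ C.functionField := asIso (X.presheaf.stalkSpecializes hsp0 ≫ g.stalkMap (genericPoint C))
    let eA : X.functionField ≃ₐ[A] C.functionField := AlgEquiv.ofRingEquiv (f := e.commRingCatIsoToRingEquiv) fun a => by
      show (X.presheaf.stalkSpecializes ((genericPoint_spec X).specializes trivial) ≫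
        X.presheaf.stalkSpecializes hsp0 ≫ g.stalkMap (genericPoint C)) a = _
      rw [← Category.assoc, TopCat.Presheaf.stalkSpecializes_comp]
      rfl
    exact IsLocalization.isLocalization_of_algEquiv (nonZeroDivisors A) eA
  have hle : ∀ a, algebraMap A C.functionField a ∈ V := hxV
  have hdom : ∀ a ∈ maximalIdeal A, red (toV V hle a) = 0 := fun a ha => (hρker _).2 (hψmax a ha)
  -- the constants
  have hdimE : topologicalKrullDim E = 1 := G.dim_eq
  have hFn := ZetaCurve.isFunctionField (ResidueField R) E hdimE hw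
  let k₀ : Subfield E.functionField := (algebraMap (ResidueField R) E.functionField).fieldRange
  let φR : R →+* X.residueField x := (X.residue x).hom.comp (Models.stalkHom R (Over.mk p) x)
  have hfinR : φR.Finite := by
    haveI : IsClosedImmersion (X.fromSpecResidueField x) :=
      IsClosedImmersion.of_isPreimmersion _ (by rw [Scheme.range_fromSpecResidueField]; exact hxcl)
    have h1 : IsFinite (X.fromSpecResidueField x ≫ p) := by
      rw [IsFinite.iff_isProper_and_isAffineHom]
      exact ⟨inferInstance, inferInstance⟩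
    have h2 : X.fromSpecResidueField x ≫ p = Spec.map (CommRingCat.ofHom φR) := by
      rw [Scheme.fromSpecResidueField, Category.assoc, ← MdlMap.specMap_stalkHom, ← Spec.map_comp]
      rfl
    rw [h2] at h1
    exact (IsFinite.SpecMap_iff _).1 h1
  have hk₀ : ∀ a : A, red (toV V hle a) ∈ k₀ := by
    intro a
    obtain ⟨P, hPm, hP⟩ := hfinR.to_isIntegral (X.residue x a)
    let lift : X.residueField x →+* E.functionField := Ideal.Quotient.lift (maximalIdeal A) (red.comp (toV V hle)) hdom
    have h1 : lift.comp φR = (algebraMap (ResidueField R) E.functionField).comp (IsLocalRing.residue R) :=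
      RingHom.ext fun r => hredr r
    have h2 : Polynomial.eval₂ (lift.comp φR) (lift (X.residue x a)) P = 0 := by
      rw [← Polynomial.hom_eval₂, hP, map_zero]
    rw [h1, ← Polynomial.eval₂_map, ← Polynomial.aeval_def] at h2
    have halg : IsAlgebraic (ResidueField R) (lift (X.residue x a)) :=
      ⟨_, (hPm.map _).ne_zero, h2⟩
    obtain ⟨c, hc⟩ := hFn.2 _ halg
    exact RingHom.mem_fieldRange.2 ⟨c, hc⟩
  have hk : resField V red hle hdom = k₀ := by
    refine le_antisymm (fun s hs => ?_) fun s hs => ?_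
    · obtain ⟨a, rfl⟩ := (mem_resField V red hle hdom).1 hs
      exact hk₀ a
    · obtain ⟨c, rfl⟩ := RingHom.mem_fieldRange.1 hs
      obtain ⟨r, rfl⟩ := IsLocalRing.residue_surjective c
      exact (mem_resField V red hle hdom).2 ⟨MdlInter.pi p r x, hredr r⟩
  have halgk : ∀ s : E.functionField, IsAlgebraic k₀ s → IsAlgebraic (ResidueField R) s := by
    intro s hs
    letI : Algebra (ResidueField R) k₀ :=
      ((algebraMap (ResidueField R) E.functionField).codRestrict k₀.toSubring
        fun c => RingHom.mem_fieldRange.2 ⟨c, rfl⟩).toAlgebra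
    haveI : IsScalarTower (ResidueField R) k₀ E.functionField := IsScalarTower.of_algebraMap_eq fun c => rfl
    haveI : Algebra.IsAlgebraic (ResidueField R) k₀ := ⟨fun z => by
      obtain ⟨c, hc⟩ := RingHom.mem_fieldRange.1 z.2
      have : algebraMap (ResidueField R) k₀ c = z := Subtype.ext hc
      exact this ▸ isAlgebraic_algebraMap c⟩
    exact hs.restrictScalars (ResidueField R)
  obtain ⟨t₀, ht₀, -⟩ := hFn.1
  obtain ⟨t, -, htop⟩ := exists_rational V red red_eq red_surj k₀
    (fun s hs => by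
      obtain ⟨c, hc⟩ := hFn.2 s (halgk s hs)
      exact RingHom.mem_fieldRange.2 ⟨c, hc⟩)
    (fun h => ht₀ (halgk t₀ h)) A hAdim hle hdom hk
  have hgen : IntermediateField.adjoin (ResidueField R) ({t} : Set E.functionField) = ⊤ := by
    refine eq_top_iff.2 fun s _ => ?_
    have h1 : s ∈ (IntermediateField.adjoin k₀ ({t} : Set E.functionField)).toSubfield := by
      rw [IntermediateField.mem_toSubfield, htop]; trivial
    rw [IntermediateField.adjoin_toSubfield] at h1
    have h2 : Set.range (algebraMap k₀ E.functionField) = Set.range (algebraMap (ResidueField R) E.functionField) := by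
      ext z
      refine ⟨fun ⟨w, hw⟩ => ?_, fun ⟨c, hc⟩ => ⟨⟨z, RingHom.mem_fieldRange.2 ⟨c, hc⟩⟩, rfl⟩⟩
      obtain ⟨c, hc⟩ := RingHom.mem_fieldRange.1 w.2
      exact ⟨c, hc.trans hw⟩
    rw [h2, ← IntermediateField.adjoin_toSubfield] at h1
    exact h1
  have hgen0 := (FFLib.genus_eq_zero_of_adjoin hFn hgen).1
  -- the genus of the generic fibre
  have hχE : Curv2.euler (ResidueField R) E (Coh.structureModule E) = 1 := by
    rw [← chi_eq_euler (ResidueField R) E hFn.1 hdimE, chi_of_isFunctionField hFn, hgen0]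
    norm_num
  have hgenus : Models.curveGenus (FractionRing R) C f = 0 := by
    have S₀ := MdlInter.setting_of_model (C := C) (f := f) ⟨hX₀, inferInstance, hreg₀⟩ hlist
    obtain ⟨L, hL⟩ := MdlSection.exists_L S₀
    have hgf := MdlInter.genus_formula hC hH0 ⟨hX₀, inferInstance, hreg₀⟩ hlist L hL
    have hsum := S₀.sum_mult_inter L hL 0
    rw [Fin.sum_univ_one] at hgf
    simp only [Fin.sum_univ_one] at hsum
    have hm := MdlInter.Setting.mult_pos S₀ 0
    have hchi : MdlInter.chiK G (Coh.structureModule E) = 1 := by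
      haveI := CurveCohLib.isNoetherian_of_proper (k := ResidueField R) (X := E)
      rw [← hχE, CurveRR.euler_eq_h0_sub_h1 (ResidueField R) hdimE.le (QCoh.isQCoh_structureModule (X := E))]
      show FGA.eulerCharLE (ResidueField R) E (Coh.structureModule E) 1 = _
      simp only [FGA.eulerCharLE, Finset.sum_range_succ, Finset.sum_range_zero]
      ring
    have ha : ArSurf.inter R (Over.mk p₀) (L 0) G = 0 :=
      (mul_eq_zero.1 hsum).resolve_left (by exact_mod_cast hm.ne')
    rw [ha, hchi] at hgf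
    omega
  refine ⟨hgenus, x, hxF, hxcl, fun a => ?_, fun ϖ hϖ hmem => ?_⟩
  · obtain ⟨c, hc⟩ := RingHom.mem_fieldRange.1 (hk₀ a)
    obtain ⟨r, rfl⟩ := IsLocalRing.residue_surjective c
    refine ⟨r, ?_⟩
    by_contra hne
    have hu : IsUnit (ψ (a - MdlInter.pi p r x)) := (IsLocalRing.notMem_maximalIdeal.1 hne).map ψ
    refine (hu.map red).ne_zero ?_
    rw [map_sub, map_sub, hredr, sub_eq_zero]
    exact hc.symm
  · have h1 : MdlInter.pi p₀ ϖ ξ ∈ maximalIdeal (X₀.presheaf.stalk ξ) ^ 2 := by
      rw [← hψr]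
      have h2 := Ideal.mem_map_of_mem (eV.symm.toRingHom.comp ψ) hmem
      rw [Ideal.map_pow] at h2
      refine Ideal.pow_right_mono ?_ 2 h2
      exact Ideal.map_le_iff_le_comap.2 hψmax
    rw [hπmax ϖ hϖ, Ideal.span_singleton_pow, Ideal.mem_span_singleton'] at h1
    obtain ⟨c, hc⟩ := h1
    have h3 : c * MdlInter.pi p₀ ϖ ξ = 1 :=
      mul_left_cancel₀ (hπne ϖ hϖ) (by linear_combination hc)
    refine (MdlInter.isUnit_pi_iff p₀ hϖ ξ).2 hmax.1 (IsUnit.of_mul_eq_one c (by rw [mul_comm]; exact h3))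

end Groth.Agent.GRModel
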