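import Groth.Agent.GRModel.Ring
import Mathlib.RingTheory.Smooth.Fiber
import Mathlib.RingTheory.TensorProduct.Maps
import Mathlib.RingTheory.FinitePresentation
import Mathlib.RingTheory.Flat.TorsionFree

/-!
# The fibres of a chart and its smoothness
-/

noncomputable section

set_option autoImplicit false
set_option linter.style.haveILetI false
set_option linter.unusedSectionVars false
set_option backward.isDefEq.respectTransparency false

universe u

namespace Groth.Agent.GRModel

open IsLocalRing Groth.Agent.FFLib TensorProduct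

/-- The functions regular outside the poles of `f`. -/
def regAlg (k : Type u) {F : Type u} [Field k] [Field F] [Algebra k F] (f : F) : Subalgebra k F where
  carrier := {a | Reg (k := k) f a}
  mul_mem' := Reg.mul
  one_mem' := Reg.one f
  add_mem' := Reg.add
  zero_mem' := fun P _ => by simp
  algebraMap_mem' c := fun P _ => P.2.1 c

theorem mem_regAlg {k F : Type u} [Field k] [Field F] [Algebra k F] {f a : F} :
    a ∈ regAlg k f ↔ Reg (k := k) f a := Iff.rfl

variable {R : Type u} [CommRing R] [IsDomain R] [IsDiscreteValuationRing R]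
variable {F : Type u} [Field F] [Algebra R F] [Algebra (FractionRing R) F] [IsScalarTower R (FractionRing R) F]
variable {κ : Type u} [Field κ] [Algebra (ResidueField R) κ] [Algebra R κ] [IsScalarTower R (ResidueField R) κ]

namespace GData

variable (G : GData R F κ)

local notation "𝕜" => ResidueField R
local notation "𝕂" => FractionRing R

/-- The chart inside the generic regular functions. -/
def toGen (f : G.V) : G.chart f →ₐ[R] regAlg 𝕂 (f : F) where
  toFun a := ⟨a.1, a.2.2⟩
  map_one' := rfl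
  map_mul' _ _ := rfl
  map_zero' := rfl
  map_add' _ _ := rfl
  commutes' r := Subtype.ext (by
    show algebraMap R F r = _
    rw [IsScalarTower.algebraMap_apply R 𝕂 (regAlg 𝕂 (f : F)), Subalgebra.coe_algebraMap]
    exact IsScalarTower.algebraMap_apply R 𝕂 F r)

theorem toGen_equiv (f : G.V) :
    Nonempty (TensorProduct R 𝕂 (G.chart f) ≃ₐ[𝕂] regAlg 𝕂 (f : F)) := by
  let Φ : 𝕂 ⊗[R] G.chart f →ₐ[𝕂] regAlg 𝕂 (f : F) :=
    Algebra.TensorProduct.lift (Algebra.ofId 𝕂 _) (G.toGen f) fun _ _ => Commute.all _ _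
  have hΦ : ∀ c a, ((Φ (c ⊗ₜ a) : regAlg 𝕂 (f : F)) : F) = algebraMap 𝕂 F c * (a : F) := fun c a => by
    rw [Algebra.TensorProduct.lift_tmul]; rfl
  have hden : ∀ z : 𝕂 ⊗[R] G.chart f, ∃ s : R, s ≠ 0 ∧ ∃ a : G.chart f, algebraMap R 𝕂 s • z = 1 ⊗ₜ a := by
    intro z
    induction z using TensorProduct.induction_on with
    | zero => exact ⟨1, one_ne_zero, 0, by simp⟩
    | tmul c a =>
      obtain ⟨r, s, hs, rfl⟩ := IsFractionRing.div_surjective (A := R) c
      refine ⟨s, nonZeroDivisors.ne_zero hs, r • a, ?_⟩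
      rw [smul_tmul', smul_eq_mul, mul_div_cancel₀ _ ((map_ne_zero_iff _ (IsFractionRing.injective R 𝕂)).2
        (nonZeroDivisors.ne_zero hs)), Algebra.algebraMap_eq_smul_one, smul_tmul]
    | add x y hx hy =>
      obtain ⟨s, hs, a, ha⟩ := hx
      obtain ⟨t, ht, b, hb⟩ := hy
      refine ⟨s * t, mul_ne_zero hs ht, t • a + s • b, ?_⟩
      rw [map_mul, smul_add, tmul_add, tmul_smul, tmul_smul, ← ha, ← hb, algebraMap_smul, algebraMap_smul]
      congr 1
      · rw [← map_mul, algebraMap_smul, mul_comm, mul_smul]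
      · rw [← map_mul, algebraMap_smul, mul_smul]
  refine ⟨AlgEquiv.ofBijective Φ ⟨(injective_iff_map_eq_zero _).2 fun z hz => ?_, fun y => ?_⟩⟩
  · obtain ⟨s, hs, a, ha⟩ := hden z
    have hs' : algebraMap R 𝕂 s ≠ 0 := (map_ne_zero_iff _ (IsFractionRing.injective R 𝕂)).2 hs
    have h1 := congrArg Φ ha
    rw [map_smul, hz, smul_zero] at h1
    have h2 := congrArg Subtype.val h1.symm
    rw [hΦ, map_one, one_mul] at h2
    have h3 : a = 0 := Subtype.ext h2
    rw [h3, tmul_zero] at ha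
    exact (smul_eq_zero.1 ha).resolve_left hs'
  · obtain ⟨n, hn⟩ := G.exists_pow_mem_chart y.2
    refine ⟨(algebraMap R 𝕂 G.rpi ^ n)⁻¹ ⊗ₜ ⟨_, hn⟩, Subtype.ext ?_⟩
    rw [hΦ, map_inv₀, map_pow, ← IsScalarTower.algebraMap_apply, ← mul_assoc,
      inv_mul_cancel₀ (pow_ne_zero _ G.rpi_F_ne_zero), one_mul]

variable (he : G.e = 1) (hc : chi G.hκ = chi G.hK.1) {f : G.V} (hf : G.Good he f)
include he hc hf

/-- The chart to the functions on the special fibre. -/
def toSp : G.chart f →ₐ[R] regAlg 𝕜 (G.red f) where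
  toFun a := ⟨G.red ⟨a.1, a.2.1⟩, (red_chart_iff G he hc hf _).1 ⟨a.1, a.2, rfl⟩⟩
  map_one' := Subtype.ext (map_one G.red)
  map_mul' a b := Subtype.ext (map_mul G.red ⟨a.1, a.2.1⟩ ⟨b.1, b.2.1⟩)
  map_zero' := Subtype.ext (map_zero G.red)
  map_add' a b := Subtype.ext (map_add G.red ⟨a.1, a.2.1⟩ ⟨b.1, b.2.1⟩)
  commutes' r := Subtype.ext (by
    show G.red (inV G.V G.hR r) = _
    rw [G.red_R]
    exact (IsScalarTower.algebraMap_apply R 𝕜 κ r).symm)

theorem toSp_equiv : Nonempty (TensorProduct R 𝕜 (G.chart f) ≃ₐ[𝕜] regAlg 𝕜 (G.red f)) := by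
  let ψ := toSp G he hc hf
  let Φ : 𝕜 ⊗[R] G.chart f →ₐ[𝕜] regAlg 𝕜 (G.red f) :=
    Algebra.TensorProduct.lift (Algebra.ofId 𝕜 _) ψ fun _ _ => Commute.all _ _
  have hΦ : ∀ a, Φ (1 ⊗ₜ a) = ψ a := fun a => by
    rw [Algebra.TensorProduct.lift_tmul, map_one, one_mul]
  have hone : ∀ z : 𝕜 ⊗[R] G.chart f, ∃ a, z = 1 ⊗ₜ a := by
    intro z
    induction z using TensorProduct.induction_on with
    | zero => exact ⟨0, (tmul_zero _ _).symm⟩
    | tmul c a =>
      obtain ⟨r, rfl⟩ := residue_surjective c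
      refine ⟨r • a, ?_⟩
      rw [← smul_tmul, ← Algebra.algebraMap_eq_smul_one]; rfl
    | add x y hx hy =>
      obtain ⟨a, rfl⟩ := hx; obtain ⟨b, rfl⟩ := hy
      exact ⟨a + b, (tmul_add _ _ _).symm⟩
  refine ⟨AlgEquiv.ofBijective Φ ⟨(injective_iff_map_eq_zero _).2 fun z hz => ?_, fun y => ?_⟩⟩
  · obtain ⟨a, rfl⟩ := hone z
    rw [hΦ] at hz
    obtain ⟨a', ha', haa⟩ := exists_eq_rpi_mul G he hc hf a.2 (congrArg Subtype.val hz)
    have e : a = G.rpi • (⟨a', ha'⟩ : G.chart f) := Subtype.ext (haa.trans (Algebra.smul_def _ _).symm)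
    rw [e, ← smul_tmul, ← Algebra.algebraMap_eq_smul_one,
      show algebraMap R 𝕜 G.rpi = 0 from (residue_eq_zero_iff _).2 G.rpi_irreducible.not_isUnit, zero_tmul]
  · obtain ⟨a, ha, hay⟩ := (red_chart_iff G he hc hf y.1).2 y.2
    exact ⟨1 ⊗ₜ ⟨a, ha⟩, (hΦ _).trans (Subtype.ext hay)⟩

theorem finiteType_chart : Algebra.FiniteType R (G.chart f) :=
  (Subalgebra.fg_iff_finiteType _).1 (chart_fg G he hc hf)

theorem smooth_chart (hgen : Algebra.Smooth 𝕂 (regAlg 𝕂 (f : F))) (hsp : Algebra.Smooth 𝕜 (regAlg 𝕜 (G.red f))) :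
    Algebra.Smooth R (G.chart f) := by
  haveI := finiteType_chart G he hc hf
  haveI : Algebra.FinitePresentation R (G.chart f) := Algebra.FinitePresentation.of_finiteType.1 inferInstance
  haveI : Module.IsTorsionFree R (G.chart f) := by
    have hinj : Function.Injective (algebraMap R F) := by
      rw [IsScalarTower.algebraMap_eq R 𝕂 F]
      exact (algebraMap 𝕂 F).injective.comp (IsFractionRing.injective R 𝕂)
    refine Module.IsTorsionFree.mk fun r hr a b hab => Subtype.ext ?_
    have h := congrArg Subtype.val hab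
    simp only [SetLike.val_smul, Algebra.smul_def] at h
    exact mul_left_cancel₀ ((map_ne_zero_iff _ hinj).2 hr.ne_zero) h
  haveI : Module.Flat R (G.chart f) := inferInstance
  refine Algebra.Smooth.of_formallySmooth_fiber fun I hI => ?_
  by_cases h : I = ⊥
  · subst h
    letI : Algebra 𝕂 (⊥ : Ideal R).ResidueField :=
      (IsFractionRing.lift (A := R) (g := algebraMap R (⊥ : Ideal R).ResidueField)
        ((RingHom.injective_iff_ker_eq_bot _).2 (Ideal.ker_algebraMap_residueField _))).toAlgebra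
    haveI : IsScalarTower R 𝕂 (⊥ : Ideal R).ResidueField :=
      IsScalarTower.of_algebraMap_eq fun r => (IsFractionRing.lift_algebraMap _ r).symm
    obtain ⟨e⟩ := G.toGen_equiv f
    haveI : Algebra.FormallySmooth 𝕂 (𝕂 ⊗[R] G.chart f) := Algebra.FormallySmooth.of_equiv e.symm
    exact Algebra.FormallySmooth.of_equiv
      (Algebra.TensorProduct.cancelBaseChange R 𝕂 (⊥ : Ideal R).ResidueField (⊥ : Ideal R).ResidueField (G.chart f))
  · obtain rfl : I = maximalIdeal R := eq_maximalIdeal (Ideal.IsPrime.isMaximal hI h)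
    letI : Algebra 𝕜 (maximalIdeal R).ResidueField :=
      (Ideal.Quotient.lift (maximalIdeal R) (algebraMap R (maximalIdeal R).ResidueField) fun a ha => by
        rw [← RingHom.mem_ker, Ideal.ker_algebraMap_residueField]; exact ha).toAlgebra
    haveI : IsScalarTower R 𝕜 (maximalIdeal R).ResidueField := IsScalarTower.of_algebraMap_eq fun r => rfl
    obtain ⟨e⟩ := toSp_equiv G he hc hf
    haveI : Algebra.FormallySmooth 𝕜 (𝕜 ⊗[R] G.chart f) := Algebra.FormallySmooth.of_equiv e.symm
    exact Algebra.FormallySmooth.of_equiv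
      (Algebra.TensorProduct.cancelBaseChange R 𝕜 (maximalIdeal R).ResidueField (maximalIdeal R).ResidueField (G.chart f))

end GData

end Groth.Agent.GRModel
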