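import Mathlib.AlgebraicGeometry.ValuativeCriterion
import Mathlib.AlgebraicGeometry.Morphisms.Smooth
import Mathlib.AlgebraicGeometry.Morphisms.Flat
import Mathlib.AlgebraicGeometry.Morphisms.FiniteType
import Mathlib.AlgebraicGeometry.Limits
import Mathlib.RingTheory.Valuation.ValuationRing
import Mathlib.Algebra.GCDMonoid.IntegrallyClosed
import Mathlib.RingTheory.Bezout
import Mathlib.RingTheory.IntegralClosure.IntegrallyClosed

/-!
# Two affine charts glued along a function and its inverse
-/

noncomputable section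

set_option autoImplicit false
set_option linter.style.haveILetI false
set_option linter.unusedSectionVars false
set_option backward.isDefEq.respectTransparency false
set_option backward.isDefEq.respectTransparency.types false

universe u

open CategoryTheory CategoryTheory.Limits AlgebraicGeometry TopologicalSpace

namespace Groth.Agent.GRModel.Glue

variable (R A A' B : Type u) [CommRing R] [CommRing A] [CommRing A'] [CommRing B]
  [Algebra R A] [Algebra R A'] [Algebra R B] [Algebra A B] [Algebra A' B]
  [IsScalarTower R A B] [IsScalarTower R A' B]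

/-- The overlap in the first chart. -/
abbrev mapL : Spec (CommRingCat.of B) ⟶ Spec (CommRingCat.of A) := Spec.map (CommRingCat.ofHom (algebraMap A B))

/-- The glued scheme. -/
def Y [IsOpenImmersion (mapL A B)] [IsOpenImmersion (mapL A' B)] : Scheme.{u} := pushout (mapL A B) (mapL A' B)

variable [IsOpenImmersion (mapL A B)] [IsOpenImmersion (mapL A' B)]

/-- The first chart. -/
def inl : Spec (CommRingCat.of A) ⟶ Y A A' B := pushout.inl (mapL A B) (mapL A' B)

/-- The second chart. -/
def inr : Spec (CommRingCat.of A') ⟶ Y A A' B := pushout.inr (mapL A B) (mapL A' B)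

instance : IsOpenImmersion (inl A A' B) :=
  inferInstanceAs (IsOpenImmersion (colimit.ι (span (mapL A B) (mapL A' B)) WalkingSpan.left))

instance : IsOpenImmersion (inr A A' B) :=
  inferInstanceAs (IsOpenImmersion (colimit.ι (span (mapL A B) (mapL A' B)) WalkingSpan.right))

theorem condition : mapL A B ≫ inl A A' B = mapL A' B ≫ inr A A' B := pushout.condition

/-- The structure map. -/
def toBase : Y A A' B ⟶ Spec (CommRingCat.of R) :=
  pushout.desc (Spec.map (CommRingCat.ofHom (algebraMap R A))) (Spec.map (CommRingCat.ofHom (algebraMap R A'))) (by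
    rw [← Spec.map_comp, ← Spec.map_comp, ← CommRingCat.ofHom_comp, ← CommRingCat.ofHom_comp,
      ← IsScalarTower.algebraMap_eq, ← IsScalarTower.algebraMap_eq])

@[reassoc (attr := simp)]
theorem inl_toBase : inl A A' B ≫ toBase R A A' B = Spec.map (CommRingCat.ofHom (algebraMap R A)) :=
  pushout.inl_desc _ _ _

@[reassoc (attr := simp)]
theorem inr_toBase : inr A A' B ≫ toBase R A A' B = Spec.map (CommRingCat.ofHom (algebraMap R A')) :=
  pushout.inr_desc _ _ _

theorem cover (z : ↥(Y A A' B)) : z ∈ Set.range (inl A A' B) ∨ z ∈ Set.range (inr A A' B) := by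
  obtain ⟨i, x, hx⟩ := Scheme.IsLocallyDirected.ι_jointly_surjective (span (mapL A B) (mapL A' B)) z
  rcases i with _ | _ | _
  · left
    refine ⟨mapL A B x, ?_⟩
    rw [← hx]
    show (mapL A B ≫ inl A A' B) x = _
    have h := colimit.w (span (mapL A B) (mapL A' B)) WalkingSpan.Hom.fst
    exact congr($(h) x)
  · exact .inl ⟨x, hx⟩
  · exact .inr ⟨x, hx⟩

theorem overlap (x : Spec (CommRingCat.of A)) (y : Spec (CommRingCat.of A'))
    (hxy : inl A A' B x = inr A A' B y) : x ∈ Set.range (mapL A B) ∧ y ∈ Set.range (mapL A' B) := by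
  obtain ⟨k, fi, fj, z, hzx, hzy⟩ :=
    (Scheme.IsLocallyDirected.ι_eq_ι_iff (F := span (mapL A B) (mapL A' B)) (i := WalkingSpan.left)
      (j := WalkingSpan.right)).1 hxy
  rcases k with _ | _ | _
  · obtain rfl : fi = WalkingSpan.Hom.fst := Subsingleton.elim _ _
    obtain rfl : fj = WalkingSpan.Hom.snd := Subsingleton.elim _ _
    exact ⟨⟨z, hzx⟩, ⟨z, hzy⟩⟩
  · change WidePushoutShape.Hom _ _ at fj
    exact nomatch fj
  · change WidePushoutShape.Hom _ _ at fi
    exact nomatch fi

theorem of_charts (P : MorphismProperty Scheme.{u}) [IsZariskiLocalAtSource P]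
    (h : P (Spec.map (CommRingCat.ofHom (algebraMap R A))))
    (h' : P (Spec.map (CommRingCat.ofHom (algebraMap R A')))) : P (toBase R A A' B) := by
  let U : Bool → (Y A A' B).Opens := fun b => bif b then (inl A A' B).opensRange else (inr A A' B).opensRange
  refine (IsZariskiLocalAtSource.iff_of_iSup_eq_top (P := P) U ?_).2 fun b => ?_
  · refine top_le_iff.1 fun z _ => Opens.mem_iSup.2 ?_
    rcases cover A A' B z with hz | hz
    · exact ⟨true, hz⟩
    · exact ⟨false, hz⟩
  · cases b
    · show P ((inr A A' B).opensRange.ι ≫ _)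
      rw [← MorphismProperty.cancel_left_of_respectsIso P (inr A A' B).isoOpensRange.hom,
        Scheme.Hom.isoOpensRange_hom_ι_assoc, inr_toBase]
      exact h'
    · show P ((inl A A' B).opensRange.ι ≫ _)
      rw [← MorphismProperty.cancel_left_of_respectsIso P (inl A A' B).isoOpensRange.hom,
        Scheme.Hom.isoOpensRange_hom_ι_assoc, inl_toBase]
      exact h

theorem quasiCompact : QuasiCompact (toBase R A A' B) := by
  rw [quasiCompact_iff_compactSpace]
  constructor
  have : (Set.univ : Set ↥(Y A A' B)) = Set.range (inl A A' B) ∪ Set.range (inr A A' B) :=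
    (Set.eq_univ_of_forall fun z => cover A A' B z).symm
  rw [this]
  exact (isCompact_range (inl A A' B).continuous).union (isCompact_range (inr A A' B).continuous)

section Proper

variable (s : A) (s' : A') (hss : algebraMap A B s * algebraMap A' B s' = 1)
  [IsLocalization.Away s B] [IsLocalization.Away s' B]
  (hint : ∀ a : A, IsIntegral (Algebra.adjoin R {s}) a) (hint' : ∀ a : A', IsIntegral (Algebra.adjoin R {s'}) a)

/-- A point of a chart with values in a field lifts to the valuation ring if the coordinate is integral. -/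
theorem exists_map_of_mem {O L : Type u} [CommRing O] [IsDomain O] [ValuationRing O] [Field L] [Algebra O L]
    [IsFractionRing O L] {A₀ : Type u} [CommRing A₀] [Algebra R A₀] (s₀ : A₀)
    (hint₀ : ∀ a : A₀, IsIntegral (Algebra.adjoin R {s₀}) a) (r : R →+* O) (ψ : A₀ →+* L)
    (hψ : ψ.comp (algebraMap R A₀) = (algebraMap O L).comp r) (hs : ψ s₀ ∈ (algebraMap O L).range) :
    ∃ φ : A₀ →+* O, (algebraMap O L).comp φ = ψ := by
  have hinj : Function.Injective (algebraMap O L) := IsFractionRing.injective O L
  have hA0 : ∀ b ∈ Algebra.adjoin R {s₀}, ψ b ∈ (algebraMap O L).range := by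
    intro b hb
    induction hb using Algebra.adjoin_induction with
    | mem x hx => rw [Set.mem_singleton_iff.1 hx]; exact hs
    | algebraMap c => exact ⟨r c, (congr($hψ c)).symm⟩
    | add a b _ _ ha hb => rw [map_add]; exact add_mem ha hb
    | mul a b _ _ ha hb => rw [map_mul]; exact mul_mem ha hb
  have hall : ∀ a, ψ a ∈ (algebraMap O L).range := by
    intro a
    obtain ⟨p, hp, hpa⟩ := hint₀ a
    choose c hc using fun b : Algebra.adjoin R {s₀} => hA0 b.1 b.2
    let γ : Algebra.adjoin R {s₀} →+* O :=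
      { toFun := c
        map_one' := hinj (by rw [hc]; simp)
        map_mul' := fun a b => hinj (by rw [map_mul, hc, hc, hc]; simp)
        map_zero' := hinj (by rw [hc]; simp)
        map_add' := fun a b => hinj (by rw [map_add, hc, hc, hc]; simp) }
    have hi : IsIntegral O (ψ a) := by
      refine ⟨p.map γ, hp.map _, ?_⟩
      have h1 := congrArg ψ hpa
      rw [map_zero, Polynomial.hom_eval₂] at h1
      rw [Polynomial.eval₂_map]
      rw [show (algebraMap O L).comp γ = ψ.comp (algebraMap (Algebra.adjoin R {s₀}) A₀) from RingHom.ext hc]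
      exact h1
    exact IsIntegrallyClosed.isIntegral_iff.1 hi
  choose c hc using hall
  exact ⟨{ toFun := c
           map_one' := hinj (by rw [hc]; simp)
           map_mul' := fun a b => hinj (by rw [map_mul, hc, hc, hc]; simp)
           map_zero' := hinj (by rw [hc]; simp)
           map_add' := fun a b => hinj (by rw [map_add, hc, hc, hc]; simp) }, RingHom.ext hc⟩

include hss hint hint'

theorem isProper [Algebra.FiniteType R A] [Algebra.FiniteType R A'] [IsNoetherianRing R] :
    IsProper (toBase R A A' B) := by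
  have hlft : LocallyOfFiniteType (toBase R A A' B) :=
    of_charts R A A' B @LocallyOfFiniteType
      (HasRingHomProperty.Spec_iff.2 (RingHom.finiteType_algebraMap.2 ‹_›))
      (HasRingHomProperty.Spec_iff.2 (RingHom.finiteType_algebraMap.2 ‹_›))
  haveI := quasiCompact R A A' B
  haveI : IsLocallyNoetherian (Y A A' B) := LocallyOfFiniteType.isLocallyNoetherian (toBase R A A' B)
  refine IsProper.of_valuativeCriterion _ ?_
  rw [ValuativeCriterion.iff]
  refine ⟨fun S => ?_, fun S => ?_⟩
  · -- existence
    obtain ⟨O, L, i₁, i₂, ⟨w⟩⟩ := S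
    obtain ⟨r, hr⟩ : ∃ r : R →+* O, i₂ = Spec.map (CommRingCat.ofHom r) :=
      ⟨(Spec.preimage i₂).hom, (Spec.map_preimage i₂).symm⟩
    have hfst : ∀ ψ : A →+* L, i₁ = Spec.map (CommRingCat.ofHom ψ) ≫ inl A A' B → ψ s ∈ (algebraMap O L).range →
        CommSq.HasLift (⟨w⟩ : CommSq i₁ (Spec.map (CommRingCat.ofHom (algebraMap O L))) (toBase R A A' B) i₂) := by
      intro ψ hψ hs
      have hc : ψ.comp (algebraMap R A) = (algebraMap O L).comp r := by
        have h := w
        rw [hψ, hr, Category.assoc, inl_toBase, ← Spec.map_comp, ← Spec.map_comp] at h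
        exact congrArg CommRingCat.Hom.hom (Spec.map_injective h)
      obtain ⟨φ, hφ⟩ := exists_map_of_mem R s hint r ψ hc hs
      refine ⟨⟨Spec.map (CommRingCat.ofHom φ) ≫ inl A A' B, ?_, ?_⟩⟩
      · rw [← Spec.map_comp_assoc, ← CommRingCat.ofHom_comp, hφ, hψ]
      · rw [Category.assoc, inl_toBase, hr, ← Spec.map_comp, ← CommRingCat.ofHom_comp]
        congr 2
        refine RingHom.ext fun x => IsFractionRing.injective O L ?_
        exact (congr($hφ (algebraMap R A x))).trans congr($hc x)
    have hsnd : ∀ ψ : A' →+* L, i₁ = Spec.map (CommRingCat.ofHom ψ) ≫ inr A A' B → ψ s' ∈ (algebraMap O L).range →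
        CommSq.HasLift (⟨w⟩ : CommSq i₁ (Spec.map (CommRingCat.ofHom (algebraMap O L))) (toBase R A A' B) i₂) := by
      intro ψ hψ hs
      have hc : ψ.comp (algebraMap R A') = (algebraMap O L).comp r := by
        have h := w
        rw [hψ, hr, Category.assoc, inr_toBase, ← Spec.map_comp, ← Spec.map_comp] at h
        exact congrArg CommRingCat.Hom.hom (Spec.map_injective h)
      obtain ⟨φ, hφ⟩ := exists_map_of_mem R s' hint' r ψ hc hs
      refine ⟨⟨Spec.map (CommRingCat.ofHom φ) ≫ inr A A' B, ?_, ?_⟩⟩
      · rw [← Spec.map_comp_assoc, ← CommRingCat.ofHom_comp, hφ, hψ]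
      · rw [Category.assoc, inr_toBase, hr, ← Spec.map_comp, ← CommRingCat.ofHom_comp]
        congr 2
        refine RingHom.ext fun x => IsFractionRing.injective O L ?_
        exact (congr($hφ (algebraMap R A' x))).trans congr($hc x)
    have hmem : ∀ t : L, t ∈ (algebraMap O L).range ∨ t⁻¹ ∈ (algebraMap O L).range := fun t => by
      rcases ValuationRing.isInteger_or_isInteger O t with ⟨o, ho⟩ | ⟨o, ho⟩
      · exact .inl ⟨o, ho⟩
      · exact .inr ⟨o, ho⟩
    let p₀ : Spec (CommRingCat.of L) := IsLocalRing.closedPoint L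
    haveI : Subsingleton (Spec (CommRingCat.of L)) := inferInstanceAs (Subsingleton (PrimeSpectrum L))
    rcases cover A A' B (i₁ p₀) with hx | hx
    · have hsub : Set.range i₁ ⊆ Set.range (inl A A' B) := by
        rintro _ ⟨p, rfl⟩; rwa [Subsingleton.elim p p₀]
      let ψ := (Spec.preimage (IsOpenImmersion.lift (inl A A' B) i₁ hsub)).hom
      have hψ : i₁ = Spec.map (CommRingCat.ofHom ψ) ≫ inl A A' B := by
        rw [CommRingCat.ofHom_hom, Spec.map_preimage, IsOpenImmersion.lift_fac]
      by_cases hs : ψ s ∈ (algebraMap O L).range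
      · exact hfst ψ hψ hs
      have hne : ψ s ≠ 0 := fun e => hs ⟨0, by rw [map_zero, e]⟩
      let χ : B →+* L := IsLocalization.Away.lift s (g := ψ) (isUnit_iff_ne_zero.2 hne)
      have hχ : χ.comp (algebraMap A B) = ψ := IsLocalization.Away.lift_comp s _
      refine hsnd (χ.comp (algebraMap A' B)) ?_ ?_
      · rw [hψ, ← hχ, CommRingCat.ofHom_comp, CommRingCat.ofHom_comp, Spec.map_comp, Spec.map_comp, Category.assoc,
          Category.assoc, condition]
      · have h1 : χ (algebraMap A' B s') = (ψ s)⁻¹ := by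
          refine eq_inv_of_mul_eq_one_right ?_
          rw [← hχ, RingHom.comp_apply, ← map_mul, hss, map_one]
        rw [RingHom.comp_apply, h1]
        exact (hmem (ψ s)).resolve_left hs
    · have hsub : Set.range i₁ ⊆ Set.range (inr A A' B) := by
        rintro _ ⟨p, rfl⟩; rwa [Subsingleton.elim p p₀]
      let ψ := (Spec.preimage (IsOpenImmersion.lift (inr A A' B) i₁ hsub)).hom
      have hψ : i₁ = Spec.map (CommRingCat.ofHom ψ) ≫ inr A A' B := by
        rw [CommRingCat.ofHom_hom, Spec.map_preimage, IsOpenImmersion.lift_fac]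
      by_cases hs : ψ s' ∈ (algebraMap O L).range
      · exact hsnd ψ hψ hs
      have hne : ψ s' ≠ 0 := fun e => hs ⟨0, by rw [map_zero, e]⟩
      let χ : B →+* L := IsLocalization.Away.lift s' (g := ψ) (isUnit_iff_ne_zero.2 hne)
      have hχ : χ.comp (algebraMap A' B) = ψ := IsLocalization.Away.lift_comp s' _
      refine hfst (χ.comp (algebraMap A B)) ?_ ?_
      · rw [hψ, ← hχ, CommRingCat.ofHom_comp, CommRingCat.ofHom_comp, Spec.map_comp, Spec.map_comp, Category.assoc,
          Category.assoc, condition]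
      · have h1 : χ (algebraMap A B s) = (ψ s')⁻¹ := by
          refine eq_inv_of_mul_eq_one_left ?_
          rw [← hχ, RingHom.comp_apply, ← map_mul, hss, map_one]
        rw [RingHom.comp_apply, h1]
        exact (hmem (ψ s')).resolve_left hs
  · -- uniqueness
    obtain ⟨O, L, i₁, i₂, ⟨w⟩⟩ := S
    have hinj : Function.Injective (algebraMap O L) := IsFractionRing.injective O L
    have hfac : ∀ l : Spec (CommRingCat.of O) ⟶ Y A A' B,
        (∃ φ : A →+* O, l = Spec.map (CommRingCat.ofHom φ) ≫ inl A A' B) ∨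
        ∃ φ : A' →+* O, l = Spec.map (CommRingCat.ofHom φ) ≫ inr A A' B := by
      intro l
      have hall : ∀ (U : (Y A A' B).Opens), l (IsLocalRing.closedPoint O) ∈ U → Set.range l ⊆ U := by
        rintro U hU _ ⟨p, rfl⟩
        exact ((IsLocalRing.specializes_closedPoint p).map l.continuous).mem_open U.2 hU
      rcases cover A A' B (l (IsLocalRing.closedPoint O)) with hx | hx
      · refine .inl ⟨(Spec.preimage (IsOpenImmersion.lift (inl A A' B) l (hall (inl A A' B).opensRange hx))).hom, ?_⟩
        rw [CommRingCat.ofHom_hom, Spec.map_preimage, IsOpenImmersion.lift_fac]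
      · refine .inr ⟨(Spec.preimage (IsOpenImmersion.lift (inr A A' B) l (hall (inr A A' B).opensRange hx))).hom, ?_⟩
        rw [CommRingCat.ofHom_hom, Spec.map_preimage, IsOpenImmersion.lift_fac]
    let e := Spec.map (CommRingCat.ofHom (algebraMap O L))
    have hmixed : ∀ (φ₁ : A →+* O) (φ₂ : A' →+* O),
        e ≫ Spec.map (CommRingCat.ofHom φ₁) ≫ inl A A' B = e ≫ Spec.map (CommRingCat.ofHom φ₂) ≫ inr A A' B →
        Spec.map (CommRingCat.ofHom φ₁) ≫ inl A A' B = Spec.map (CommRingCat.ofHom φ₂) ≫ inr A A' B := by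
      intro φ₁ φ₂ he
      let g₁ : Spec (CommRingCat.of L) ⟶ Spec (CommRingCat.of A) := e ≫ Spec.map (CommRingCat.ofHom φ₁)
      let g₂ : Spec (CommRingCat.of L) ⟶ Spec (CommRingCat.of A') := e ≫ Spec.map (CommRingCat.ofHom φ₂)
      have he' : g₁ ≫ inl A A' B = g₂ ≫ inr A A' B := by rw [Category.assoc, Category.assoc]; exact he
      have hsub : Set.range g₁ ⊆ Set.range (mapL A B) := by
        rintro _ ⟨p, rfl⟩
        exact (overlap A A' B (g₁ p) (g₂ p) congr($he' p)).1
      let g := IsOpenImmersion.lift (mapL A B) g₁ hsub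
      have hg : g ≫ mapL A B = g₁ := IsOpenImmersion.lift_fac _ _ _
      have hg' : g ≫ mapL A' B = g₂ := by
        rw [← cancel_mono (inr A A' B), Category.assoc, ← condition, reassoc_of% hg, he']
      obtain ⟨χ, hχ⟩ : ∃ χ : B →+* L, g = Spec.map (CommRingCat.ofHom χ) :=
        ⟨(Spec.preimage g).hom, (Spec.map_preimage g).symm⟩
      rw [hχ] at hg hg'
      simp only [g₁, g₂, e, mapL, ← Spec.map_comp, Spec.map_inj] at hg hg'
      have h1 : χ (algebraMap A B s) = algebraMap O L (φ₁ s) := congr($hg s)
      have h2 : χ (algebraMap A' B s') = algebraMap O L (φ₂ s') := congr($hg' s')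
      have h3 : φ₁ s * φ₂ s' = 1 := hinj (by rw [map_mul, ← h1, ← h2, ← map_mul, hss, map_one, map_one])
      let χ' : B →+* O := IsLocalization.Away.lift s (g := φ₁) (IsUnit.of_mul_eq_one _ h3)
      have hχ' : χ'.comp (algebraMap A B) = φ₁ := IsLocalization.Away.lift_comp s _
      have hχL : (algebraMap O L).comp χ' = χ := by
        refine IsLocalization.ringHom_ext (Submonoid.powers s) ?_
        rw [RingHom.comp_assoc, hχ']
        exact (congrArg CommRingCat.Hom.hom hg).symm
      have hφ₂ : χ'.comp (algebraMap A' B) = φ₂ := RingHom.ext fun a => hinj (by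
        rw [RingHom.comp_apply, ← RingHom.comp_apply, hχL]; exact congr($hg' a))
      rw [← hχ', ← hφ₂, CommRingCat.ofHom_comp, CommRingCat.ofHom_comp, Spec.map_comp, Spec.map_comp,
        Category.assoc, Category.assoc, condition]
    have hsame : ∀ {T : Type u} [CommRing T] (j : Spec (CommRingCat.of T) ⟶ Y A A' B) [IsOpenImmersion j]
        (φ₁ φ₂ : T →+* O),
        e ≫ Spec.map (CommRingCat.ofHom φ₁) ≫ j = e ≫ Spec.map (CommRingCat.ofHom φ₂) ≫ j →
        Spec.map (CommRingCat.ofHom φ₁) ≫ j = Spec.map (CommRingCat.ofHom φ₂) ≫ j := by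
      intro T _ j _ φ₁ φ₂ he
      rw [← Category.assoc, ← Category.assoc, cancel_mono] at he
      simp only [e, ← Spec.map_comp, Spec.map_inj] at he
      congr 2
      exact CommRingCat.hom_ext (RingHom.ext fun a => hinj congr($he a))
    refine ⟨fun l₁ l₂ => CommSq.LiftStruct.ext ?_⟩
    have h12 : e ≫ l₁.l = e ≫ l₂.l := l₁.fac_left.trans l₂.fac_left.symm
    rcases hfac l₁.l with ⟨φ₁, h₁⟩ | ⟨φ₁, h₁⟩ <;> rcases hfac l₂.l with ⟨φ₂, h₂⟩ | ⟨φ₂, h₂⟩ <;>
      rw [h₁, h₂] at h12 ⊢
    · exact hsame _ φ₁ φ₂ h12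
    · exact hmixed φ₁ φ₂ h12
    · exact (hmixed φ₂ φ₁ h12.symm).symm
    · exact hsame _ φ₁ φ₂ h12

end Proper

end Groth.Agent.GRModel.Glue
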