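import Groth.Agent.GRModel.Surface
import Groth.Agent.GRModel.SmoothModel
import Groth.Agent.MdlInter.Exc
import Groth.Agent.CurveEmbed.Conic
import Groth.Agent.S2156
import Groth.Agent.NeronEtale.Basic
import Groth.Agent.ConsPropLib.FibreSmooth

/-!
# A model with a regular rational point on a closed fibre of genus zero is smooth
-/

noncomputable section

set_option autoImplicit false
set_option linter.style.haveILetI false
set_option linter.unusedSectionVars false
set_option backward.isDefEq.respectTransparency false
set_option backward.isDefEq.respectTransparency.types false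
set_option maxHeartbeats 1000000

universe u

open CategoryTheory CategoryTheory.Limits AlgebraicGeometry TopologicalSpace
open IsLocalRing (ResidueField maximalIdeal)

namespace Groth.Agent.GRModel

open Groth.Agent

variable {R : Type u} [CommRing R] [IsDomain R] [IsDiscreteValuationRing R]
  {C X : Scheme.{u}} {f : C ⟶ Spec (CommRingCat.of (FractionRing R))} {p : X ⟶ Spec (CommRingCat.of R)}

attribute [local instance] Curv2.resAlgebra

/-- The closed fibre of such a model is a projective line. -/
theorem fibre_of_ratPoint (hC : Curve.IsSmoothProperCurve (FractionRing R) C f)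
    (hX : Models.IsRegularProperModel R X p C f) (G : ArSurf.VertComp R (Over.mk p))
    (hG : Models.IsComponentList R (Over.mk p) fun _ : Fin 1 => G)
    (hm : Models.mult R (Over.mk p) G = 1) (hh1 : Models.h1 R (Over.mk p) G = 0)
    {x : X} (hxF : x ∈ Models.specialFibreSet R (Over.mk p)) (hxcl : IsClosed ({x} : Set X))
    (hres : ∀ a : X.presheaf.stalk x, ∃ r : R, a - MdlInter.pi p r x ∈ maximalIdeal (X.presheaf.stalk x))
    (hsq : ∀ ϖ : R, maximalIdeal R = Ideal.span {ϖ} →
      MdlInter.pi p ϖ x ∉ maximalIdeal (X.presheaf.stalk x) ^ 2) : (∃ e : G.curve.left ≅ CohB1.ProjSpace 1 (ResidueField R),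
        e.hom ≫ CohB1.ProjSpace.toSpec 1 (ResidueField R) = G.curve.hom) ∧
      IsPullback (MdlInter.iotaX G) G.curve.hom p
        (Spec.map (CommRingCat.ofHom (IsLocalRing.residue R))) := by
  classical
  haveI := hX.2.1
  haveI := hX.1.1
  obtain ⟨g, hg⟩ := hX.1.2.2.2
  haveI : IsLocallyNoetherian X := LocallyOfFiniteType.isLocallyNoetherian p
  haveI : IsNoetherianRing (CommRingCat.of R) := inferInstanceAs (IsNoetherianRing R)
  haveI : LocallyOfFinitePresentation p := LocallyOfFinitePresentation.iff_locallyOfFiniteType.2 inferInstance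
  have S := MdlInter.setting_of_model hX hG
  obtain ⟨ϖ, hϖ⟩ := IsDiscreteValuationRing.exists_irreducible R
  let E := G.curve.left
  let ι : E ⟶ X := MdlInter.iotaX G
  haveI : IsClosedImmersion ι := G.isClosedImmersion
  haveI : IsIntegral E := G.isIntegral
  have hker : ι.ker = MdlInter.sfI p := by
    rw [show MdlInter.sfI p = _ from S.specialFibreIdeal_eq, Fin.prod_univ_one, hm, pow_one]
  -- the point
  obtain ⟨Z, hZ, hxZ, -⟩ := MdlRegPt.exists_component hxF
  obtain ⟨i, hi⟩ := hG.2.ge hZ
  obtain ⟨x', rfl⟩ : x ∈ Set.range ι := hi.ge hxZ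
  letI : E.Over (Spec (CommRingCat.of (ResidueField R))) := ⟨G.curve.hom⟩
  haveI : IsProper (E ↘ Spec (CommRingCat.of (ResidueField R))) := MdlInter.isProper_curve G
  haveI : IsLocallyNoetherian E := LocallyOfFiniteType.isLocallyNoetherian (E ↘ Spec (CommRingCat.of (ResidueField R)))
  have hx'cl : IsClosed ({x'} : Set E) := by
    have := hxcl.preimage ι.continuous
    rwa [← Set.image_singleton, ι.isClosedEmbedding.injective.preimage_image] at this
  let ρ : X.presheaf.stalk (ι x') →+* E.presheaf.stalk x' := (ι.stalkMap x').hom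
  have hρs : Function.Surjective ρ := ι.stalkMap_surjective x'
  have hρker : RingHom.ker ρ = Ideal.span {MdlInter.pi p ϖ (ι x')} := by
    obtain ⟨U, hU⟩ := MdlInter.exists_affine (ι x')
    have hsp : MdlInter.gen ι ⤳ ι x' := (genericPoint_specializes x').map ι.continuous
    have h1 := MdlInter.stI_of_specializes ι U hU hsp
    rw [hker] at h1
    rw [← MdlInter.stI_specialFibreIdeal p hϖ.maximalIdeal_eq U hU]
    refine Eq.trans ?_ h1.symm
    ext a
    rw [RingHom.mem_ker, Ideal.mem_comap]
    have hinj := MdlMap.stalkSpecializes_injective (genericPoint_specializes x' : genericPoint E ⤳ x')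
    rw [← map_eq_zero_iff _ hinj]
    have e := Scheme.Hom.stalkSpecializes_stalkMap_apply ι (genericPoint E) x' (genericPoint_specializes x') a
    rw [show E.presheaf.stalkSpecializes (genericPoint_specializes x') (ρ a) = _ from e.symm]
    let b : X.presheaf.stalk (ι (genericPoint E)) := X.presheaf.stalkSpecializes hsp a
    show ι.stalkMap (genericPoint E) b = 0 ↔ b ∈ maximalIdeal _
    rw [IsLocalRing.mem_maximalIdeal, mem_nonunits_iff]
    letI : Field (E.presheaf.stalk (genericPoint E)) := inferInstanceAs (Field E.functionField)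
    refine ⟨fun h hu => ?_, fun h => ?_⟩
    · have := hu.map (ι.stalkMap (genericPoint E)).hom
      rw [h] at this
      exact not_isUnit_zero this
    · by_contra hne
      exact h ((isUnit_map_iff (ι.stalkMap (genericPoint E)).hom b).1 (isUnit_iff_ne_zero.2 hne))
  haveI := hX.2.2 (ι x')
  have hπm : MdlInter.pi p ϖ (ι x') ∈ maximalIdeal (X.presheaf.stalk (ι x')) :=
    (MdlInter.isUnit_pi_iff p hϖ.maximalIdeal_eq (ι x')).2 hxF
  have hregE : IsRegularLocalRing (E.presheaf.stalk x') := by
    haveI := (RegLoc6.isRegularLocalRing_quot_and hπm (hsq ϖ hϖ.maximalIdeal_eq)).1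
    exact IsRegularLocalRing.of_ringEquiv
      ((Ideal.quotEquivOfEq hρker.symm).trans (RingHom.quotientKerEquivOfSurjective hρs))
  -- rationality
  have hconst : ∀ r : R, ρ (MdlInter.pi p r (ι x')) =
      E.presheaf.germ ⊤ x' trivial (Coh.toGlobal G.curve.hom (IsLocalRing.residue R r)) := fun r =>
    stalkMap_toGlobal ι p G.curve.hom (IsLocalRing.residue R) G.w x' r
  have hsurj : Function.Surjective (Curv2.resMap (ResidueField R) E x') := by
    intro b
    obtain ⟨b₁, rfl⟩ := IsLocalRing.residue_surjective b
    obtain ⟨a, rfl⟩ := hρs b₁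
    obtain ⟨r, hr⟩ := hres a
    refine ⟨IsLocalRing.residue R r, ?_⟩
    show E.residue x' _ = E.residue x' (ρ a)
    have h0 : E.residue x' (ρ (a - MdlInter.pi p r (ι x'))) = 0 :=
      (IsLocalRing.residue_eq_zero_iff _).2 (fun hu => hr ((isUnit_map_iff ρ _).1 hu))
    rw [map_sub, map_sub, sub_eq_zero, hconst] at h0
    exact h0.symm
  haveI : Algebra.IsSeparable (ResidueField R) (E.residueField x') := ⟨fun z => by
    obtain ⟨c, rfl⟩ := hsurj z
    exact isSeparable_algebraMap (F := ResidueField R) c⟩
  haveI : IsNoetherianRing (CommRingCat.of (ResidueField R)) := inferInstanceAs (IsNoetherianRing (ResidueField R))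
  haveI : LocallyOfFinitePresentation (E ↘ Spec (CommRingCat.of (ResidueField R))) :=
    LocallyOfFinitePresentation.iff_locallyOfFiniteType.2 inferInstance
  have hsm : x' ∈ (E ↘ Spec (CommRingCat.of (ResidueField R))).smoothLocus :=
    SmoothReg.mem_smoothLocus_of_isSeparable (E ↘ Spec (CommRingCat.of (ResidueField R))) x' (fun c => rfl) hregE
  -- the fibre is a line
  haveI : Subsingleton (Coh.HH E (Coh.structureModule E) 1) := by
    haveI := CurveCohLib.isNoetherian_of_proper (k := ResidueField R) (X := E)
    haveI := CurveCohLib.finite_HH (k := ResidueField R) (QCoh.isCoh_structureModule' (X := E)) 1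
    exact Module.finrank_zero_iff.1 hh1
  obtain ⟨e, he⟩ := CurveEmbed.exists_iso_line_of_point (ResidueField R) G.dim_eq ‹_› hx'cl hsm hsurj
  -- the closed fibre is the component
  let res : Spec (CommRingCat.of (ResidueField R)) ⟶ Spec (CommRingCat.of R) :=
    Spec.map (CommRingCat.ofHom (IsLocalRing.residue R))
  haveI : IsClosedImmersion res := IsClosedImmersion.spec_of_surjective _ IsLocalRing.residue_surjective
  let c : E ⟶ pullback p res := pullback.lift ι G.curve.hom G.w
  have hc : c ≫ pullback.fst p res = ι := pullback.lift_fst _ _ _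
  haveI : IsClosedImmersion (pullback.fst p res) := MorphismProperty.pullback_fst _ _ inferInstance
  haveI : IsClosedImmersion (c ≫ pullback.fst p res) := hc.symm ▸ inferInstance
  haveI : IsClosedImmersion c := IsClosedImmersion.of_comp c (pullback.fst p res)
  haveI : IsIso c := by
    have hk : (pullback.fst p res).ker = ι.ker := by
      rw [hker, Scheme.IdealSheafData.ker_fst_of_isClosedImmersion, ker_residue_spec]
      rfl
    exact IsClosedImmersion.isIso_of_ker_eq ι (pullback.fst p res) c hc hk.symm
  have hsq' : IsPullback ι G.curve.hom p res :=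
    (IsPullback.of_hasPullback p res).of_iso (asIso c).symm (Iso.refl _) (Iso.refl _) (Iso.refl _)
      (by simp [c, hc]) (by simp [c]) (by simp) (by simp)
  exact ⟨⟨e, he⟩, hsq'⟩

theorem smooth_of_ratPoint (hC : Curve.IsSmoothProperCurve (FractionRing R) C f)
    (hX : Models.IsRegularProperModel R X p C f) (G : ArSurf.VertComp R (Over.mk p))
    (hG : Models.IsComponentList R (Over.mk p) fun _ : Fin 1 => G)
    (hm : Models.mult R (Over.mk p) G = 1) (hh1 : Models.h1 R (Over.mk p) G = 0)
    {x : X} (hxF : x ∈ Models.specialFibreSet R (Over.mk p)) (hxcl : IsClosed ({x} : Set X))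
    (hres : ∀ a : X.presheaf.stalk x, ∃ r : R, a - MdlInter.pi p r x ∈ maximalIdeal (X.presheaf.stalk x))
    (hsq : ∀ ϖ : R, maximalIdeal R = Ideal.span {ϖ} →
      MdlInter.pi p ϖ x ∉ maximalIdeal (X.presheaf.stalk x) ^ 2) : Smooth p := by
  classical
  obtain ⟨⟨e, he⟩, hsq'⟩ := fibre_of_ratPoint hC hX G hG hm hh1 hxF hxcl hres hsq
  haveI := hX.2.1
  haveI := hX.1.1
  obtain ⟨g, hg⟩ := hX.1.2.2.2
  haveI : IsLocallyNoetherian X := LocallyOfFiniteType.isLocallyNoetherian p
  haveI : IsNoetherianRing (CommRingCat.of R) := inferInstanceAs (IsNoetherianRing R)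
  haveI : LocallyOfFinitePresentation p := LocallyOfFinitePresentation.iff_locallyOfFiniteType.2 inferInstance
  haveI : IsNoetherianRing (CommRingCat.of (ResidueField R)) := inferInstanceAs (IsNoetherianRing (ResidueField R))
  let res : Spec (CommRingCat.of (ResidueField R)) ⟶ Spec (CommRingCat.of R) :=
    Spec.map (CommRingCat.ofHom (IsLocalRing.residue R))
  let E := G.curve.left
  haveI : Smooth G.curve.hom := by
    rw [show G.curve.hom = e.hom ≫ CohB1.ProjSpace.toSpec 1 (ResidueField R) from he.symm]
    haveI := CurveEmbed.smooth_toSpec 1 (ResidueField R)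
    infer_instance
  -- all points are smooth
  rw [← Scheme.Hom.smoothLocus_eq_top_iff]
  refine top_le_iff.1 fun y _ => ?_
  rcases MdlRegPt.eq_bot_or_closed (p y) with hy | hy
  · let s : Spec (CommRingCat.of R) := p y
    haveI : LocallyOfFinitePresentation (p.fiberToSpecResidueField (p.base y)) :=
      MorphismProperty.pullback_snd _ _ inferInstance
    refine (S2156.result p y).2 ⟨Flat.stalkMap p y, ?_⟩
    haveI : Smooth (p.fiberToSpecResidueField (p.base y)) := by
      have hy' : p.base y = IsLocalRing.closedPoint R := hy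
      rw [hy']
      let τ := MdlInter.toResField R (IsLocalRing.closedPoint R)
      let σ : ResidueField R →+* (Spec (CommRingCat.of R)).residueField (IsLocalRing.closedPoint R) :=
        Ideal.Quotient.lift (maximalIdeal R) τ.hom fun a ha =>
          (RingHom.mem_ker).1 ((MdlInter.ker_toResField (IsLocalRing.closedPoint R)).ge ha)
      have hfac : Spec.map (CommRingCat.ofHom σ) ≫ res =
          (Spec (CommRingCat.of R)).fromSpecResidueField (IsLocalRing.closedPoint R) := by
        rw [← MdlInter.map_toResField, ← Spec.map_comp]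
        exact congrArg Spec.map (CommRingCat.hom_ext (RingHom.ext fun a => rfl))
      have hfib : IsPullback (p.fiberι (IsLocalRing.closedPoint R)) (p.fiberToSpecResidueField (IsLocalRing.closedPoint R))
          p (Spec.map (CommRingCat.ofHom σ) ≫ res) := by
        rw [hfac]
        exact IsPullback.of_hasPullback p _
      let l : p.fiber (IsLocalRing.closedPoint R) ⟶ E :=
        hsq'.lift (p.fiberι (IsLocalRing.closedPoint R))
          (p.fiberToSpecResidueField (IsLocalRing.closedPoint R) ≫ Spec.map (CommRingCat.ofHom σ))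
          (hfib.w.trans (Category.assoc _ _ _).symm)
      have hl : IsPullback l (p.fiberToSpecResidueField (IsLocalRing.closedPoint R)) G.curve.hom
          (Spec.map (CommRingCat.ofHom σ)) :=
        IsPullback.of_right (by rw [hsq'.lift_fst]; exact hfib) (hsq'.lift_snd _ _ _) hsq'
      exact MorphismProperty.of_isPullback (P := @Smooth) hl inferInstance
    rw [Scheme.Hom.smoothLocus_eq_top]; trivial
  · obtain ⟨P, rfl⟩ : y ∈ Set.range g := by rw [MdlMap.range_iota hg]; exact hy
    haveI : IsPreimmersion (Spec.map (CommRingCat.ofHom (algebraMap R (FractionRing R)))) :=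
      IsPreimmersion.of_isLocalization (nonZeroDivisors R)
    haveI : Flat (Spec.map (CommRingCat.ofHom (algebraMap R (FractionRing R)))) := by
      rw [HasRingHomProperty.Spec_iff (P := @Flat)]
      exact RingHom.flat_algebraMap_iff.2 (IsLocalization.flat _ (nonZeroDivisors R))
    haveI : Smooth f := hC.2.1
    exact NeronEtale.range_subset_smoothLocus_of_smooth_fibre p _ g f hg ⟨P, rfl⟩

end Groth.Agent.GRModel
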