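import Groth.Agent.GRModel.Dicho
import Groth.Agent.GRModel.Compare
import Groth.Agent.GRModel.RatFibre

/-!
# Minimal models of curves with good reduction
-/

noncomputable section

set_option autoImplicit false
set_option linter.style.haveILetI false
set_option linter.unusedSectionVars false
set_option backward.isDefEq.respectTransparency false
set_option backward.isDefEq.respectTransparency.types false
set_option maxHeartbeats 1000000

universe u

open CategoryTheory CategoryTheory.Limits AlgebraicGeometry TopologicalSpace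

namespace Groth.Agent.GRModel

open Groth.Agent

variable {R : Type u} [CommRing R] [IsDomain R] [IsDiscreteValuationRing R]
  {C X W : Scheme.{u}} {f : C ⟶ Spec (CommRingCat.of (FractionRing R))}
  {p : X ⟶ Spec (CommRingCat.of R)} {q : W ⟶ Spec (CommRingCat.of R)}

/-- An endomorphism of an integral model fixing the generic fibre is the identity. -/
theorem endo_eq_id [IsIntegral C] [IsIntegral X] [IsProper p] {g : C ⟶ X}
    (hg : IsPullback g f p (Spec.map (CommRingCat.ofHom (algebraMap R (FractionRing R)))))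
    (a : X ⟶ X) (ha : a ≫ p = p) (hga : g ≫ a = g) : a = 𝟙 X := by
  haveI := MdlMap.isOpenImmersion_iota hg
  haveI : IsDominant g := ⟨(genericPoint_spec X).def.symm.subset.trans (closure_mono (Set.singleton_subset_iff.2
    ⟨genericPoint C, genericPoint_eq_of_isOpenImmersion g⟩)) |> fun h => dense_iff_closure_eq.2 (Set.eq_univ_of_univ_subset h)⟩
  exact ext_of_isDominant_of_isSeparated p (by rw [ha, Category.id_comp]) g (by rw [hga, Category.comp_id])

theorem smooth_of_goodReduction (hC : Curve.IsSmoothProperCurve (FractionRing R) C f) (hH0 : IsIso f.appTop)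
    (hgood : Models.HasGoodReduction R C f) (hX : Models.IsMinimalModel R X p C f) : Smooth p := by
  classical
  haveI := hC.2.2.1
  have hdimC := hC.2.2.2
  obtain ⟨X₀, p₀, hX₀, hpr₀, hsm₀⟩ := hgood
  haveI := hpr₀
  haveI := hsm₀
  haveI := hX.1.2.1
  haveI := hX.1.1.1
  haveI := hX₀.1
  obtain ⟨g, hg⟩ := hX.1.1.2.2.2
  obtain ⟨g₀, hg₀⟩ := hX₀.2.2.2
  have hreg₀ : Models.IsRegularScheme X₀ := fun x => FibIso.isRegularLocalRing_stalk_of_smooth p₀ x
  haveI := isIntegral_model hX.1.2.2 hg
  haveI := isIntegral_model hreg₀ hg₀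
  haveI : IsLocallyNoetherian X₀ := LocallyOfFiniteType.isLocallyNoetherian p₀
  haveI : IsLocallyNoetherian X := LocallyOfFiniteType.isLocallyNoetherian p
  have hn := RefX2.isNormalScheme_of_regular hX.1.2.2
  have hn₀ := RefX2.isNormalScheme_of_regular hreg₀
  obtain ⟨n, Γ, hΓ⟩ := exists_componentList hg hdimC
  obtain ⟨L, hL⟩ := MdlSection.exists_L (MdlInter.setting_of_model hX.1 hΓ)
  rcases component_or_point hC hH0 hX.1 hX₀ hg hg₀ with ⟨φ, hφ, hφg⟩ | ⟨hg0, x, hxF, hxcl, hres, hsq⟩
  · obtain ⟨i, ξ, hy, hξ, hξc, himg, hχ⟩ := exists_over_component hC hH0 hX.1 hX₀ hg hg₀ hφ hφg hΓ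
    have hn1 : n = 1 := by
      rcases Nat.eq_zero_or_pos (Models.curveGenus (FractionRing R) C f) with h0 | h0
      · exact (eq_one_of_genus_zero hC hH0 hX hΓ L hL h0).1
      · exact eq_one_of_component hC hH0 hX hΓ L hL h0 i hχ.le
    subst hn1
    obtain ⟨ψ, hψ, hψg⟩ := MdlMap.exists_morphism hdimC.le hn₀ hn hg₀ hg fun ξ' hξ' hc => by
      obtain ⟨j, hj⟩ := hΓ.2.ge hc
      obtain rfl : j = i := Subsingleton.elim _ _
      have e : ξ' = MdlInter.gp Γ j := by
        refine (isGenericPoint_closure (x := ξ')).eq ?_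
        rw [← hj]
        show IsGenericPoint (MdlInter.gp Γ j) (Set.range (MdlInter.iotaX (Γ j)))
        rw [MdlInter.range_eq_closure_gen (MdlInter.iotaX (Γ j))]
        exact isGenericPoint_closure
      subst e
      exact ⟨ξ, hξ, hξc, himg⟩
    have e1 : φ ≫ ψ = 𝟙 X := endo_eq_id hg _ (by rw [Category.assoc, hψ, hφ]) (by rw [← Category.assoc, hφg, hψg])
    have e2 : ψ ≫ φ = 𝟙 X₀ := endo_eq_id hg₀ _ (by rw [Category.assoc, hφ, hψ]) (by rw [← Category.assoc, hψg, hφg])
    haveI : IsIso φ := ⟨ψ, e1, e2⟩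
    rw [← hφ]
    infer_instance
  · obtain ⟨rfl, hall⟩ := eq_one_of_genus_zero hC hH0 hX hΓ L hL hg0
    have hG : Models.IsComponentList R (Over.mk p) (fun _ : Fin 1 => Γ 0) := by
      rw [show (fun _ : Fin 1 => Γ 0) = Γ from funext fun i => by rw [Subsingleton.elim i 0]]
      exact hΓ
    exact smooth_of_ratPoint hC hX.1 (Γ 0) hG (hall 0).1 (hall 0).2.2 hxF hxcl hres hsq

end Groth.Agent.GRModel
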