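import Groth.Agent.GRModel.Attain
import Groth.Agent.GRModel.Bound
import Mathlib.RingTheory.Nakayama
import Mathlib.LinearAlgebra.Dimension.Constructions

/-!
# One valuation with residue field of large genus: the counting argument
-/

noncomputable section

set_option autoImplicit false
set_option backward.isDefEq.respectTransparency false

universe u

namespace Groth.Agent.GRModel

open IsLocalRing Polynomial Groth.Agent.FFLib
open scoped IntermediateField

variable (R : Type u) [CommRing R] [IsDomain R] [IsDiscreteValuationRing R]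
variable (F : Type u) [Field F] [Algebra R F] [Algebra (FractionRing R) F] [IsScalarTower R (FractionRing R) F]
variable (κ : Type u) [Field κ] [Algebra (ResidueField R) κ]

/-- A divisorial valuation over `R` of the function field `F` of a curve, with residue field `κ`. -/
structure GData where
  V : ValuationSubring F
  isDVR : IsDiscreteValuationRing V
  hR : ∀ r, algebraMap R F r ∈ V
  red : V →+* κ
  red_surj : Function.Surjective red
  red_eq_zero : ∀ v, red v = 0 ↔ v ∈ maximalIdeal V
  red_R : ∀ r, red (inV V hR r) = algebraMap (ResidueField R) κ (residue R r)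
  hK : FunFld.IsFunctionField (FractionRing R) F
  hκ : IsFF (ResidueField R) κ
  dom : ∀ (L : Type u) [Field L] [Algebra (FractionRing R) L],
    IsDomain (TensorProduct (FractionRing R) L F)

variable {R F κ}

namespace GData

variable (G : GData R F κ)

local notation "k" => ResidueField R
local notation "K" => FractionRing R

theorem inV_coe (r : R) : (inV G.V G.hR r : F) = algebraMap R F r := rfl

theorem smul_eq (r : R) (x : F) : algebraMap R K r • x = algebraMap R F r * x := by
  rw [algebraMap_smul, Algebra.smul_def]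

theorem hloc : ∀ r ∈ maximalIdeal R, inV G.V G.hR r ∈ maximalIdeal G.V := fun r hr => by
  rw [← G.red_eq_zero, G.red_R, (residue_eq_zero_iff _).2 hr, map_zero]

theorem red_eval (p : R[X]) (f : G.V) :
    G.red (p.eval₂ (inV G.V G.hR) f) = aeval (G.red f) (p.map (residue R)) := by
  rw [hom_eval₂, aeval_def, eval₂_map]
  congr 1
  exact RingHom.ext G.red_R

theorem hf_of_transcendental {f : G.V} (hf : Transcendental k (G.red f)) :
    ∀ p : R[X], p.eval₂ (inV G.V G.hR) f ∈ maximalIdeal G.V → ∀ n, p.coeff n ∈ maximalIdeal R := by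
  intro p hp n
  rw [← G.red_eq_zero, red_eval] at hp
  have h := congrArg (fun q => q.coeff n) ((transcendental_iff.1 hf) _ hp)
  rw [← residue_eq_zero_iff]
  simpa using h

theorem transcendental_coe {f : G.V} (hf : Transcendental k (G.red f)) : Transcendental K (f : F) := by
  intro halg
  obtain ⟨c, hc⟩ := G.hK.2 _ halg
  rcases ValuationRing.isInteger_or_isInteger R c with ⟨r, hr⟩ | ⟨r, hr⟩
  · have : f = inV G.V G.hR r := Subtype.ext (by
      rw [G.inV_coe, IsScalarTower.algebraMap_apply R K F, hr, hc])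
    exact hf (this ▸ (G.red_R r).symm ▸ isAlgebraic_algebraMap _)
  · have h0 : (f : F) ≠ 0 := fun e => by
      have : f = 0 := Subtype.ext e
      exact hf (by rw [this, map_zero]; exact isAlgebraic_zero)
    have hmul : f * inV G.V G.hR r = 1 := Subtype.ext (by
      show (f : F) * algebraMap R F r = 1
      rw [IsScalarTower.algebraMap_apply R K F, hr, map_inv₀, hc]
      exact mul_inv_cancel₀ h0)
    have h1 := congrArg G.red hmul
    rw [map_mul, map_one, G.red_R] at h1
    have h2 : IsAlgebraic k (G.red f)⁻¹ := by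
      rw [inv_eq_of_mul_eq_one_right h1]; exact isAlgebraic_algebraMap _
    exact hf (by simpa using h2.inv)

/-- The uniformizer of `V`. -/
def pi : G.V := haveI := G.isDVR; (IsDiscreteValuationRing.exists_irreducible G.V).choose

theorem irreducible_pi : Irreducible G.pi :=
  haveI := G.isDVR; (IsDiscreteValuationRing.exists_irreducible G.V).choose_spec

theorem red_pi : G.red G.pi = 0 :=
  (G.red_eq_zero _).2 G.irreducible_pi.not_isUnit

theorem pi_coe_ne_zero : (G.pi : F) ≠ 0 := fun e => G.irreducible_pi.ne_zero (Subtype.ext e)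

theorem exists_eR : ∃ (ϖ : R) (e : ℕ) (u : G.Vˣ), Irreducible ϖ ∧ 0 < e ∧ inV G.V G.hR ϖ = u * G.pi ^ e := by
  haveI := G.isDVR
  obtain ⟨ϖ, hϖ⟩ := IsDiscreteValuationRing.exists_irreducible R
  have h0 : inV G.V G.hR ϖ ≠ 0 := fun e => hϖ.ne_zero
    (IsFractionRing.injective R K ((algebraMap K F).injective (by
      rw [← IsScalarTower.algebraMap_apply, map_zero, map_zero]; exact congrArg Subtype.val e)))
  obtain ⟨e, u, hu⟩ := IsDiscreteValuationRing.eq_unit_mul_pow_irreducible h0 G.irreducible_pi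
  refine ⟨ϖ, e, u, hϖ, Nat.pos_of_ne_zero fun he => ?_, hu⟩
  have h1 := G.hloc ϖ hϖ.not_isUnit
  rw [hu, he, pow_zero, mul_one] at h1
  exact h1 u.isUnit

/-- A uniformizer of `R`. -/
def rpi : R := G.exists_eR.choose

/-- The ramification index. -/
def e : ℕ := G.exists_eR.choose_spec.choose

/-- The unit comparing the uniformizers. -/
def u : G.Vˣ := G.exists_eR.choose_spec.choose_spec.choose

theorem rpi_irreducible : Irreducible G.rpi := G.exists_eR.choose_spec.choose_spec.choose_spec.1

theorem e_pos : 0 < G.e := G.exists_eR.choose_spec.choose_spec.choose_spec.2.1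

theorem rpi_eq : inV G.V G.hR G.rpi = G.u * G.pi ^ G.e := G.exists_eR.choose_spec.choose_spec.choose_spec.2.2

theorem rpi_K_ne_zero : algebraMap R K G.rpi ≠ 0 :=
  (map_ne_zero_iff _ (IsFractionRing.injective R K)).2 G.rpi_irreducible.ne_zero

theorem rpi_F_ne_zero : algebraMap R F G.rpi ≠ 0 := by
  rw [IsScalarTower.algebraMap_apply R K F]; exact (_root_.map_ne_zero _).2 G.rpi_K_ne_zero

theorem exists_pow_mem (y : F) : ∃ n : ℕ, algebraMap R F G.rpi ^ n * y ∈ G.V := by
  haveI := G.isDVR
  rcases G.V.mem_or_inv_mem y with h | h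
  · exact ⟨0, by simpa using h⟩
  rcases eq_or_ne y 0 with rfl | hy
  · exact ⟨0, by simp⟩
  have hc0 : (⟨y⁻¹, h⟩ : G.V) ≠ 0 := fun e => inv_ne_zero hy (congrArg Subtype.val e)
  obtain ⟨n, hn⟩ := IsDiscreteValuationRing.associated_pow_irreducible hc0 G.irreducible_pi
  have hd : (⟨y⁻¹, h⟩ : G.V) ∣ inV G.V G.hR G.rpi ^ n := by
    refine hn.dvd.trans ?_
    rw [G.rpi_eq, mul_pow, ← pow_mul]
    exact (pow_dvd_pow _ (Nat.le_mul_of_pos_left n G.e_pos)).mul_left _
  obtain ⟨t, ht⟩ := hd
  refine ⟨n, ?_⟩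
  have ht' : algebraMap R F G.rpi ^ n = y⁻¹ * (t : F) := congrArg Subtype.val ht
  rw [ht', mul_assoc, mul_comm (t : F) y, ← mul_assoc, inv_mul_cancel₀ hy, one_mul]
  exact t.2

theorem inv_helper (w : G.V) :
    inV G.V G.hR G.rpi * ((G.u⁻¹ : G.Vˣ) * w) = G.pi ^ (G.e - 0) * w := by
  rw [G.rpi_eq, Nat.sub_zero, mul_mul_mul_comm, Units.mul_inv, one_mul]

/-- The valuation ring as a module. -/
def Vmod : Submodule R F where
  carrier := G.V
  add_mem' := add_mem
  zero_mem' := zero_mem _
  smul_mem' r x hx := by rw [Algebra.smul_def]; exact mul_mem (G.hR r) hx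

theorem mem_Vmod {x : F} : x ∈ G.Vmod ↔ x ∈ G.V := Iff.rfl

/-- The lattice of functions bounded by `D` and integral at the valuation. -/
def lat (D : FunFld.Divisor K F) : Submodule R F :=
  (FunFld.L D).restrictScalars R ⊓ G.Vmod

theorem mem_lat {D : FunFld.Divisor K F} {x : F} : x ∈ G.lat D ↔ x ∈ FunFld.L D ∧ x ∈ G.V := Iff.rfl

theorem exists_transcendental : ∃ f : G.V, Transcendental k (G.red f) := by
  obtain ⟨t, ht, -⟩ := id G.hκ
  obtain ⟨f, rfl⟩ := G.red_surj t
  exact ⟨f, ht⟩

theorem lat_fg (D : FunFld.Divisor K F) : (G.lat D).FG := by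
  haveI := G.isDVR
  classical
  obtain ⟨f, hf⟩ := G.exists_transcendental
  haveI := L_finite G.hK.1 D
  let B := Module.finBasis K (FunFld.L D)
  choose n hn using fun i => G.exists_pow_mem ((B i : FunFld.L D) : F)
  let b : Fin (Module.finrank K (FunFld.L D)) → G.V := fun i => ⟨_, hn i⟩
  have hb : LinearIndependent K fun i => (b i : F) := by
    have h1 : LinearIndependent K fun i => ((B i : FunFld.L D) : F) :=
      B.linearIndependent.map' (FunFld.L D).subtype (Submodule.ker_subtype _)
    rw [Fintype.linearIndependent_iff] at h1 ⊢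
    intro c hc i
    have h2 := h1 (fun i => c i * algebraMap R K G.rpi ^ n i) (by
      rw [← hc]
      refine Finset.sum_congr rfl fun i _ => ?_
      rw [mul_smul, ← map_pow, smul_eq, map_pow]) i
    exact (mul_eq_zero.1 h2).resolve_right (pow_ne_zero _ G.rpi_K_ne_zero)
  have htr := G.transcendental_coe hf
  haveI : Algebra.IsAlgebraic (IntermediateField.adjoin K {(f : F)}) F :=
    haveI := FFLib.IsFF.finite_adjoin G.hK.1 htr
    Algebra.IsAlgebraic.of_finite _ _
  have halg : ∀ y : F, IsAlgebraic (Algebra.adjoin K {(f : F)}) y := fun y =>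
    (IntermediateField.isAlgebraic_adjoin_iff (F := K) (E := F) (S := F) (s := {(f : F)})).1 (Algebra.IsAlgebraic.isAlgebraic y)
  obtain ⟨N, hN⟩ := exists_bound G.V G.hR b hb G.hloc f (G.hf_of_transcendental hf) halg G.dom
  let ξ : Fin (Module.finrank K (FunFld.L D)) → F := fun i => (algebraMap R F G.rpi ^ N)⁻¹ * (b i : F)
  refine Submodule.FG.of_le (Submodule.fg_span (Set.finite_range ξ)) fun x ⟨hxL, hxV⟩ => ?_
  obtain ⟨c, hc⟩ : ∃ c : Fin (Module.finrank K (FunFld.L D)) → K, ∑ i, c i • (b i : F) = x := by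
    have hsp : FunFld.L D ≤ Submodule.span K (Set.range fun i => (b i : F)) := by
      intro y hy
      have h1 : y = ∑ i, B.repr ⟨y, hy⟩ i • ((B i : FunFld.L D) : F) := by
        have h0 := congrArg Subtype.val (B.sum_repr ⟨y, hy⟩)
        simp only [AddSubmonoidClass.coe_finsetSum, Submodule.coe_smul] at h0
        exact h0.symm
      rw [h1]
      refine sum_mem fun i _ => Submodule.smul_mem _ _ ?_
      have h2 : ((B i : FunFld.L D) : F) = ((algebraMap R K G.rpi) ^ n i)⁻¹ • (b i : F) := by
        simp only [b, ← map_pow, ← smul_eq (F := F), inv_smul_smul₀ (show algebraMap R K (G.rpi ^ n i) ≠ 0 by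
          rw [map_pow]; exact pow_ne_zero _ G.rpi_K_ne_zero)]
      rw [h2]
      exact Submodule.smul_mem _ _ (Submodule.subset_span ⟨i, rfl⟩)
    exact (Submodule.mem_span_range_iff_exists_fun _).1 (hsp hxL)
  obtain ⟨⟨den, hden⟩, hint⟩ := IsLocalization.exist_integer_multiples (nonZeroDivisors R) Finset.univ c
  choose cd hcd using fun i => hint i (Finset.mem_univ i)
  obtain ⟨t, w, hw⟩ := IsDiscreteValuationRing.eq_unit_mul_pow_irreducible (nonZeroDivisors.ne_zero hden)
    G.rpi_irreducible
  have hrep : ∀ t : ℕ, (∃ a : Fin _ → R, algebraMap R F G.rpi ^ t * x = ∑ i, algebraMap R F (a i) * (b i : F)) →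
      ∃ a : Fin _ → R, algebraMap R F G.rpi ^ N * x = ∑ i, algebraMap R F (a i) * (b i : F) := by
    intro t
    induction t with
    | zero =>
      rintro ⟨a, ha⟩
      refine ⟨fun i => G.rpi ^ N * a i, ?_⟩
      rw [pow_zero, one_mul] at ha
      simp only [map_mul, map_pow, mul_assoc, ← Finset.mul_sum, ← ha]
    | succ t ih =>
      rintro ⟨a, ha⟩
      by_cases htN : t + 1 ≤ N
      · refine ⟨fun i => G.rpi ^ (N - (t + 1)) * a i, ?_⟩
        simp only [map_mul, map_pow, mul_assoc, ← Finset.mul_sum, ← ha]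
        rw [← mul_assoc, ← pow_add, Nat.sub_add_cancel htN]
      have hdeep : a ∈ deep G.V G.hR b N := by
        show ∑ i, inV G.V G.hR (a i) * b i ∈ maximalIdeal G.V ^ N
        have e1 : ∑ i, inV G.V G.hR (a i) * b i = inV G.V G.hR G.rpi ^ (t + 1) * ⟨x, hxV⟩ :=
          Subtype.ext (by simp only [AddSubmonoidClass.coe_finsetSum]; exact ha.symm)
        rw [e1]
        exact Ideal.mul_mem_right _ _ (Ideal.pow_le_pow_right (by omega)
          (Ideal.pow_mem_pow (G.hloc _ G.rpi_irreducible.not_isUnit) _))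
      have hd : ∀ i, ∃ a', a i = G.rpi * a' := fun i => by
        have := hN a hdeep i
        rw [G.rpi_irreducible.maximalIdeal_eq, Ideal.mem_span_singleton] at this
        exact this
      choose a' ha' using hd
      refine ih ⟨a', mul_left_cancel₀ G.rpi_F_ne_zero ?_⟩
      rw [← mul_assoc, ← pow_succ', ha, Finset.mul_sum]
      refine Finset.sum_congr rfl fun i _ => ?_
      rw [ha', map_mul, mul_assoc]
  obtain ⟨a, ha⟩ := hrep t ⟨fun i => (w⁻¹ : Rˣ) * cd i, by
    have e2 : ∀ i, algebraMap R F (cd i) = algebraMap R F den * algebraMap K F (c i) := fun i => by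
      rw [IsScalarTower.algebraMap_apply R K F (cd i), hcd i, Algebra.smul_def, map_mul,
        ← IsScalarTower.algebraMap_apply]
    have hc' : ∑ i, algebraMap K F (c i) * (b i : F) = x := by
      rw [← hc]
      exact Finset.sum_congr rfl fun i _ => (Algebra.smul_def _ _).symm
    simp only [map_mul, e2, mul_assoc, ← Finset.mul_sum, hc']
    rw [hw, map_mul, map_pow, ← mul_assoc, ← mul_assoc, ← map_mul, Units.inv_mul, map_one, one_mul]⟩
  have hx : x = ∑ i, a i • ξ i := by
    simp only [ξ, Algebra.smul_def, mul_left_comm (algebraMap R F (a _)), ← Finset.mul_sum, ← ha]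
    rw [← mul_assoc, inv_mul_cancel₀ (pow_ne_zero _ G.rpi_F_ne_zero), one_mul]
  rw [hx]
  exact sum_mem fun i _ => Submodule.smul_mem _ _ (Submodule.subset_span ⟨i, rfl⟩)

/-- Generators of the lattice modulo the uniformizer bound `ell D`. -/
theorem ell_le_card (D : FunFld.Divisor K F) {ι : Type*} [Fintype ι] (g : ι → F)
    (h : ∀ x ∈ G.lat D, ∃ y ∈ Submodule.span R (Set.range g), ∃ z ∈ G.lat D,
      x = y + algebraMap R F G.rpi * z) : FunFld.ell D ≤ Fintype.card ι := by
  classical
  have hle : G.lat D ≤ Submodule.span R (Set.range g) := by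
    refine Submodule.le_of_le_smul_of_le_jacobson_bot (I := maximalIdeal R) (G.lat_fg D)
      (maximalIdeal_le_jacobson _) fun x hx => ?_
    obtain ⟨y, hy, z, hz, rfl⟩ := h x hx
    refine Submodule.add_mem_sup hy ?_
    rw [← Algebra.smul_def]
    exact Submodule.smul_mem_smul G.rpi_irreducible.not_isUnit hz
  have hsp : FunFld.L D ≤ Submodule.span K (Set.range g) := by
    intro x hx
    obtain ⟨n, hn⟩ := G.exists_pow_mem x
    have hm : algebraMap R F G.rpi ^ n * x ∈ G.lat D := ⟨by
      rw [← map_pow, ← smul_eq]; exact Submodule.smul_mem _ _ hx, hn⟩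
    have h1 := Submodule.span_le_restrictScalars R K (Set.range g) (hle hm)
    rw [← map_pow, ← smul_eq] at h1
    exact (Submodule.smul_mem_iff _ (show algebraMap R K (G.rpi ^ n) ≠ 0 by
      rw [map_pow]; exact pow_ne_zero _ G.rpi_K_ne_zero)).1 h1
  haveI := FiniteDimensional.span_of_finite K (Set.finite_range g)
  exact (Submodule.finrank_mono hsp).trans (finrank_range_le_card g)

/-- The `j`-th reduction space. -/
def red_j (D : FunFld.Divisor K F) (j : ℕ) : Submodule k κ where
  carrier := {s | ∃ y : G.V, G.red y = s ∧ ((G.pi ^ j * y : G.V) : F) ∈ FunFld.L D}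
  zero_mem' := ⟨0, map_zero _, by simp⟩
  add_mem' := by
    rintro _ _ ⟨y, rfl, hy⟩ ⟨z, rfl, hz⟩
    refine ⟨y + z, map_add _ _ _, ?_⟩
    rw [mul_add]
    exact add_mem hy hz
  smul_mem' := by
    rintro c _ ⟨y, rfl, hy⟩
    obtain ⟨r, rfl⟩ := residue_surjective c
    refine ⟨inV G.V G.hR r * y, by rw [map_mul, G.red_R, Algebra.smul_def], ?_⟩
    rw [mul_left_comm]
    have := Submodule.smul_mem (FunFld.L D) (algebraMap R K r) hy
    rwa [smul_eq] at this

theorem red_j_finite (D : FunFld.Divisor K F) (j : ℕ) : FiniteDimensional k (G.red_j D j) := by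
  classical
  let M : Submodule R F :=
    ((FunFld.L D).restrictScalars R).comap (LinearMap.mulLeft R ((G.pi : F) ^ j)) ⊓ G.Vmod
  have hM : M.FG := by
    haveI : IsNoetherian R (G.lat D) := isNoetherian_of_fg_of_noetherian _ (G.lat_fg D)
    have h1 : M.map (LinearMap.mulLeft R ((G.pi : F) ^ j)) ≤ G.lat D := by
      rintro _ ⟨y, ⟨hy1, hy2⟩, rfl⟩
      exact ⟨hy1, show (G.pi : F) ^ j * y ∈ G.V from mul_mem (pow_mem G.pi.2 _) hy2⟩
    exact Submodule.fg_of_fg_map_injective _
      (mul_right_injective₀ (pow_ne_zero _ G.pi_coe_ne_zero)) ((G.lat_fg D).of_le h1)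
  obtain ⟨S, hS⟩ := hM
  have hSV : ∀ s ∈ S, s ∈ G.V := fun s hs => ((hS ▸ Submodule.subset_span hs : s ∈ M)).2
  let T : Finset κ := S.attach.image fun s => G.red ⟨s.1, hSV s.1 s.2⟩
  haveI : FiniteDimensional k (Submodule.span k (T : Set κ)) := inferInstance
  refine Submodule.finiteDimensional_of_le (S₂ := Submodule.span k (T : Set κ)) ?_
  rintro _ ⟨y, rfl, hy⟩
  have hyM : (y : F) ∈ Submodule.span R (S : Set F) := hS.symm ▸ (⟨hy, y.2⟩ : (y : F) ∈ M)
  suffices ∀ z ∈ Submodule.span R (S : Set F), ∀ hz : z ∈ G.V, G.red ⟨z, hz⟩ ∈ Submodule.span k (T : Set κ) from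
    this _ hyM y.2
  intro z hz
  have hsub : ∀ w ∈ Submodule.span R (S : Set F), w ∈ G.V := fun w hw =>
    (Submodule.span_le.2 hSV : Submodule.span R (S : Set F) ≤ G.Vmod) hw
  induction hz using Submodule.span_induction with
  | mem s hs => exact fun _ => Submodule.subset_span (Finset.mem_image.2 ⟨⟨s, hs⟩, Finset.mem_attach _ _, rfl⟩)
  | zero => exact fun _ => by rw [show (⟨0, _⟩ : G.V) = 0 from rfl, map_zero]; exact zero_mem _
  | add a b ha hb iha ihb =>
    intro hab
    rw [show (⟨a + b, hab⟩ : G.V) = ⟨a, hsub a ha⟩ + ⟨b, hsub b hb⟩ from rfl, map_add]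
    exact add_mem (iha _) (ihb _)
  | smul r a ha iha =>
    intro hra
    have e : (⟨r • a, hra⟩ : G.V) = inV G.V G.hR r * ⟨a, hsub a ha⟩ := Subtype.ext (Algebra.smul_def r a)
    rw [e, map_mul, G.red_R, ← Algebra.smul_def]
    exact Submodule.smul_mem _ _ (iha _)

/-- `ell D` is at most the sum of the dimensions of the reduction spaces. -/
theorem ell_le_sum (D : FunFld.Divisor K F) :
    FunFld.ell D ≤ ∑ j ∈ Finset.range G.e, Module.finrank k (G.red_j D j) := by
  classical
  haveI := fun j => G.red_j_finite D j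
  choose y hy hyL using fun (j : Fin G.e) (i : Fin (Module.finrank k (G.red_j D j))) =>
    (Module.finBasis k (G.red_j D j) i).2
  let g : (Σ j : Fin G.e, Fin (Module.finrank k (G.red_j D j))) → F := fun p => ((G.pi ^ (p.1 : ℕ) * y p.1 p.2 : G.V) : F)
  have key : ∀ i : ℕ, i ≤ G.e → ∀ w : G.V, ((G.pi ^ (G.e - i) * w : G.V) : F) ∈ FunFld.L D →
      ∃ p ∈ Submodule.span R (Set.range g), ∃ z ∈ G.lat D,
        ((G.pi ^ (G.e - i) * w : G.V) : F) = p + algebraMap R F G.rpi * z := by
    intro i
    induction i with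
    | zero =>
      intro _ w hw
      refine ⟨0, zero_mem _, ((G.u⁻¹ : G.Vˣ) * w : G.V), ⟨?_, Subtype.mem _⟩, ?_⟩
      · have e1 : ((G.pi ^ (G.e - 0) * w : G.V) : F) = algebraMap R F G.rpi * (((G.u⁻¹ : G.Vˣ) * w : G.V) : F) := by
          rw [← G.inv_helper w]; rfl
        rw [e1] at hw
        have hw' : algebraMap R K G.rpi • (((G.u⁻¹ : G.Vˣ) * w : G.V) : F) ∈ FunFld.L D := by
          rwa [algebraMap_smul, Algebra.smul_def]
        have h := Submodule.smul_mem (FunFld.L D) (algebraMap R K G.rpi)⁻¹ hw'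
        rwa [inv_smul_smul₀ G.rpi_K_ne_zero] at h
      · rw [zero_add, ← G.inv_helper w]; rfl
    | succ i ih =>
      intro hi w hw
      obtain ⟨j, hj⟩ : ∃ j : Fin G.e, (j : ℕ) = G.e - (i + 1) := ⟨⟨G.e - (i + 1), by omega⟩, rfl⟩
      have hwm : G.red w ∈ G.red_j D j := ⟨w, rfl, hj ▸ hw⟩
      let B := Module.finBasis k (G.red_j D j)
      choose r hr using fun i => residue_surjective (B.repr ⟨_, hwm⟩ i)
      let w' : G.V := w - ∑ i, inV G.V G.hR (r i) * y j i
      have h0 : G.red w' = 0 := by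
        have h1 := congrArg Subtype.val (B.sum_repr ⟨_, hwm⟩)
        simp only [AddSubmonoidClass.coe_finsetSum, Submodule.coe_smul] at h1
        rw [map_sub, map_sum, sub_eq_zero]
        simp only [map_mul, G.red_R, hr, hy, ← Algebra.smul_def]
        exact h1.symm
      haveI := G.isDVR
      obtain ⟨w'', hw''⟩ : G.pi ∣ w' := by
        rw [← Ideal.mem_span_singleton, ← G.irreducible_pi.maximalIdeal_eq, ← G.red_eq_zero]; exact h0
      have e2 : G.pi ^ (G.e - (i + 1)) * w =
          (∑ m, inV G.V G.hR (r m) * (G.pi ^ (j : ℕ) * y j m)) + G.pi ^ (G.e - i) * w'' := by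
        rw [show G.e - i = (j : ℕ) + 1 by omega, pow_succ, mul_assoc, ← hw'', ← hj]
        simp only [w', mul_sub, Finset.mul_sum, mul_left_comm (inV G.V G.hR (r _))]
        ring
      have hsumL : ((∑ m, inV G.V G.hR (r m) * (G.pi ^ (j : ℕ) * y j m) : G.V) : F) ∈ FunFld.L D := by
        rw [AddSubmonoidClass.coe_finsetSum]
        refine sum_mem fun m _ => ?_
        have := Submodule.smul_mem (FunFld.L D) (algebraMap R K (r m)) (hyL j m)
        rwa [smul_eq] at this
      have hw2 : ((G.pi ^ (G.e - i) * w'' : G.V) : F) ∈ FunFld.L D := by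
        have h3 := sub_mem hw hsumL
        rw [e2] at h3
        simpa using h3
      obtain ⟨p, hp, z, hz, hpz⟩ := ih (by omega) w'' hw2
      refine ⟨((∑ m, inV G.V G.hR (r m) * (G.pi ^ (j : ℕ) * y j m) : G.V) : F) + p, add_mem ?_ hp, z, hz, ?_⟩
      · rw [AddSubmonoidClass.coe_finsetSum]
        refine sum_mem fun m _ => ?_
        have e3 : ((inV G.V G.hR (r m) * (G.pi ^ (j : ℕ) * y j m) : G.V) : F) = r m • g ⟨j, m⟩ :=
          (Algebra.smul_def _ _).symm
        rw [e3]
        exact Submodule.smul_mem _ _ (Submodule.subset_span ⟨_, rfl⟩)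
      · rw [e2, add_assoc, ← hpz]; rfl
  refine (G.ell_le_card D g fun x hx => ?_).trans (le_of_eq ?_)
  · have h := key G.e le_rfl ⟨x, hx.2⟩ (by rw [Nat.sub_self, pow_zero, one_mul]; exact hx.1)
    rwa [Nat.sub_self, pow_zero, one_mul] at h
  · rw [Fintype.card_sigma, Finset.sum_range]
    simp

end GData

end Groth.Agent.GRModel
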