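import Groth.Agent.GRModel.Fibre
import Groth.Agent.GRModel.Curve
import Groth.Agent.GRModel.Glue
import Groth.Prelude.Def_ModelsSS

/-!
# The smooth model attached to a divisorial valuation with residue field of the same genus
-/

noncomputable section

set_option autoImplicit false
set_option linter.style.haveILetI false
set_option linter.unusedSectionVars false
set_option backward.isDefEq.respectTransparency false
set_option backward.isDefEq.respectTransparency.types false

universe u

open CategoryTheory CategoryTheory.Limits AlgebraicGeometry TopologicalSpace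
open Groth.Agent.ZetaLib Groth.Agent.CurveCohLib.Polar
open IsLocalRing (ResidueField)

namespace Groth.Agent.GRModel

attribute [local instance] ZetaCurve.ffAlg

section Curve

variable (k : Type u) [Field k] {X : Scheme.{u}} [X.Over (Spec (CommRingCat.of k))] [IsIntegral X]

/-- The constants in the sections on an open. -/
def secMap (U : X.Opens) : k →+* Γ(X, U) :=
  (X.presheaf.map (homOfLE (le_top : U ≤ ⊤)).op).hom.comp (Coh.toGlobal (X ↘ Spec (CommRingCat.of k)))

theorem gη_secMap {U : X.Opens} {x : X} (hx : x ∈ U) (c : k) :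
    gη hx (secMap k U c) = algebraMap k X.functionField c :=
  (X.presheaf.germ_res_apply (homOfLE (le_top : U ≤ ⊤)) (genericPoint X) (eta_mem hx) _).trans rfl

theorem smooth_secMap [Smooth (X ↘ Spec (CommRingCat.of k))] {U : X.Opens} (hU : IsAffineOpen U) :
    (secMap k U).Smooth := by
  have h := Smooth.smooth_appLE (f := X ↘ Spec (CommRingCat.of k)) (isAffineOpen_top _) hU le_top
  exact RingHom.Smooth.respectsIso.2 _ (Scheme.ΓSpecIso (CommRingCat.of k)).symm.commRingCatIsoToRingEquiv h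

theorem eta_inR (c : X.functionField) : InR (genericPoint X) c :=
  ⟨c, ZetaCurve.algebraMap_generic X c⟩

variable [IsProper (X ↘ Spec (CommRingCat.of k))] [Smooth (X ↘ Spec (CommRingCat.of k))]
  (hdim : topologicalKrullDim X = 1) (hF : FFLib.IsFF k X.functionField)

include hdim hF in
/-- The functions regular outside the poles form a smooth algebra. -/
theorem smooth_regAlg {x : X.functionField} (hx : Transcendental k x) : Algebra.Smooth k (regAlg k x) := by
  obtain ⟨U, hU, hmem⟩ := exists_affine_inR k hdim hx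
  have hη : genericPoint X ∈ U := (hmem _).2 (eta_inR x)
  have hr := range_germ_eq_reg k hdim hF hmem hη
  let ψ : Γ(X, U) →+* regAlg k x :=
    (gη hη).codRestrict (regAlg k x).toSubring fun r =>
      (Set.ext_iff.1 hr _).1 ⟨r, rfl⟩
  have hψ : Function.Bijective ψ := by
    refine ⟨fun a b h => gη_injective hη (congrArg Subtype.val h), fun a => ?_⟩
    obtain ⟨r, hr'⟩ := (Set.ext_iff.1 hr a.1).2 a.2
    exact ⟨r, Subtype.ext hr'⟩
  have h := RingHom.Smooth.respectsIso.1 _ (RingEquiv.ofBijective ψ hψ) (smooth_secMap k hU)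
  rw [← RingHom.smooth_algebraMap]
  convert h using 1
  exact RingHom.ext fun c => Subtype.ext ((gη_secMap k hη c).symm)

end Curve

section Lift

variable {X : Scheme.{u}} [IsIntegral X]

/-- A ring of rational functions regular on an open maps to the sections. -/
theorem exists_secLift {U : X.Opens} (hη : genericPoint X ∈ U) {T : Type u} [CommRing T]
    (j : T →+* X.functionField) (h : ∀ t, ∀ z ∈ U, InR z (j t)) :
    ∃ φ : T →+* Γ(X, U), ∀ t, gη hη (φ t) = j t := by
  choose φ hφ using fun t => exists_of_forall_inR (h t)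
  exact ⟨{ toFun := φ
           map_one' := gη_injective hη (by rw [hφ, map_one, map_one])
           map_mul' := fun a b => gη_injective hη (by rw [map_mul, hφ, hφ, hφ, map_mul])
           map_zero' := gη_injective hη (by rw [hφ, map_zero, map_zero])
           map_add' := fun a b => gη_injective hη (by rw [map_add, hφ, hφ, hφ, map_add]) }, fun t => hφ t hη⟩

/-- The map to an affine scheme given by sections on an open. -/
def toSpecMap {T : Type u} [CommRing T] (U : X.Opens) (φ : T →+* Γ(X, U)) : U.toScheme ⟶ Spec (CommRingCat.of T) :=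
  U.toSpecΓ ≫ Spec.map (CommRingCat.ofHom φ)

theorem toSpecMap_comp {T T' : Type u} [CommRing T] [CommRing T'] (U : X.Opens) (φ : T →+* Γ(X, U)) (ψ : T' →+* T) :
    toSpecMap U φ ≫ Spec.map (CommRingCat.ofHom ψ) = toSpecMap U (φ.comp ψ) := by
  rw [toSpecMap, toSpecMap, Category.assoc, ← Spec.map_comp]; rfl

theorem homOfLE_toSpecMap {T : Type u} [CommRing T] {U V : X.Opens} (h : U ≤ V) (φ : T →+* Γ(X, V))
    (ψ : T →+* Γ(X, U)) (hψ : ∀ t, ψ t = X.presheaf.map (homOfLE h).op (φ t)) :
    X.homOfLE h ≫ toSpecMap V φ = toSpecMap U ψ := by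
  rw [toSpecMap, toSpecMap, ← Scheme.Opens.toSpecΓ_SpecMap_presheaf_map_assoc U V h, ← Spec.map_comp]
  congr 2
  exact CommRingCat.hom_ext (RingHom.ext fun t => (hψ t).symm)

end Lift

section Model

variable {R : Type u} [CommRing R] [IsDomain R] [IsDiscreteValuationRing R]
variable {C : Scheme.{u}} [C.Over (Spec (CommRingCat.of (FractionRing R)))] [IsIntegral C]
  [IsProper (C ↘ Spec (CommRingCat.of (FractionRing R)))] [Smooth (C ↘ Spec (CommRingCat.of (FractionRing R)))]
  [Algebra R C.functionField] [IsScalarTower R (FractionRing R) C.functionField]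
variable {E : Scheme.{u}} [E.Over (Spec (CommRingCat.of (ResidueField R)))] [IsIntegral E]
  [IsProper (E ↘ Spec (CommRingCat.of (ResidueField R)))] [Smooth (E ↘ Spec (CommRingCat.of (ResidueField R)))]
  [Algebra R E.functionField] [IsScalarTower R (ResidueField R) E.functionField]

local notation "𝕂" => FractionRing R
local notation "𝕜" => ResidueField R
local notation "pC" => C ↘ Spec (CommRingCat.of (FractionRing R))

/-- The overlap as an algebra over a chart. -/
theorem isLocalization_overlap (G : GData R C.functionField E.functionField) {f f' : G.V}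
    (h : (f' : C.functionField) = (f : C.functionField)⁻¹) (hf0 : (f : C.functionField) ≠ 0)
    [Algebra (G.chart f) (G.overlap f)]
    (halg : ∀ a, ((algebraMap (G.chart f) (G.overlap f) a : G.overlap f) : C.functionField) = a) :
    IsLocalization.Away (⟨f, G.self_mem_chart f⟩ : G.chart f) (G.overlap f) := by
  refine IsLocalization.Away.mk _ ?_ ?_ fun a b hab => ⟨0, ?_⟩
  · refine IsUnit.of_mul_eq_one ⟨_, G.inv_mem_overlap h⟩ (Subtype.ext ?_)
    simp [halg, hf0]
  · intro b
    obtain ⟨n, hn⟩ := G.exists_pow_mul_mem_chart f hf0 b.2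
    exact ⟨n, ⟨_, hn⟩, Subtype.ext (by simp [halg, mul_comm])⟩
  · have := congrArg Subtype.val hab
    rw [halg, halg] at this
    rw [Subtype.ext this]

theorem exists_glue (G : GData R C.functionField E.functionField) (hdimC : topologicalKrullDim C = 1)
    (hdimE : topologicalKrullDim E = 1) (he : G.e = 1) (hc : chi G.hκ = chi G.hK.1)
    {fC : C ⟶ Spec (CommRingCat.of 𝕂)} (hfC : pC = fC) :
    Models.HasGoodReduction R C fC := by
  subst hfC
  classical
  obtain ⟨f, hf⟩ := GData.exists_good G he hc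
  obtain ⟨f', hff', hf'⟩ := GData.Good.exists_inv G he hc hf
  let F := C.functionField
  have htr := G.transcendental_coe hf.1
  have htr' := G.transcendental_coe hf'.1
  have hf0 : (f : F) ≠ 0 := fun e => htr (by rw [e]; exact isAlgebraic_zero)
  have hf0' : (f' : F) ≠ 0 := fun e => htr' (by rw [e]; exact isAlgebraic_zero)
  have hfinv : (f : F) = (f' : F)⁻¹ := by rw [hff', inv_inv]
  have hov : G.overlap f' = G.overlap f := G.overlap_congr hff'
  -- the rings
  letI : Algebra (G.chart f) (G.overlap f) := (Subalgebra.inclusion (G.chart_le_overlap f)).toRingHom.toAlgebra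
  have hle' : G.chart f' ≤ G.overlap f := hov ▸ G.chart_le_overlap f'
  letI : Algebra (G.chart f') (G.overlap f) := (Subalgebra.inclusion hle').toRingHom.toAlgebra
  haveI : IsScalarTower R (G.chart f) (G.overlap f) := IsScalarTower.of_algebraMap_eq fun r => rfl
  haveI : IsScalarTower R (G.chart f') (G.overlap f) := IsScalarTower.of_algebraMap_eq fun r => rfl
  haveI hL : IsLocalization.Away (⟨f, G.self_mem_chart f⟩ : G.chart f) (G.overlap f) :=
    isLocalization_overlap G hff' hf0 fun a => rfl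
  haveI hL' : IsLocalization.Away (⟨f', G.self_mem_chart f'⟩ : G.chart f') (G.overlap f) := by
    refine IsLocalization.Away.mk _ ?_ ?_ fun a b hab => ⟨0, ?_⟩
    · refine IsUnit.of_mul_eq_one ⟨_, (G.chart_le_overlap f) (G.self_mem_chart f)⟩ (Subtype.ext ?_)
      show (f' : F) * (f : F) = 1
      rw [hff', inv_mul_cancel₀ hf0]
    · intro b
      obtain ⟨n, hn⟩ := G.exists_pow_mul_mem_chart f' hf0' (by rw [hov]; exact b.2)
      exact ⟨n, ⟨_, hn⟩, Subtype.ext (mul_comm _ _)⟩
    · rw [show a = b from Subtype.ext (show (a : F) = b from congrArg (fun t : G.overlap f => (t : F)) hab)]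
  haveI := IsOpenImmersion.of_isLocalization (R := G.chart f) (S := G.overlap f) ⟨f, G.self_mem_chart f⟩
  haveI := IsOpenImmersion.of_isLocalization (R := G.chart f') (S := G.overlap f) ⟨f', G.self_mem_chart f'⟩
  let Y := Glue.Y (G.chart f) (G.chart f') (G.overlap f)
  let pY : Y ⟶ Spec (CommRingCat.of R) := Glue.toBase R (G.chart f) (G.chart f') (G.overlap f)
  -- smoothness and properness
  have hsm : ∀ {w : G.V}, G.Good he w → Algebra.Smooth R (G.chart w) := fun {w} hw =>
    GData.smooth_chart G he hc hw (smooth_regAlg 𝕂 hdimC G.hK.1 (G.transcendental_coe hw.1))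
      (smooth_regAlg 𝕜 hdimE G.hκ hw.1)
  have hsmY : Smooth pY := Glue.of_charts R _ _ _ @Smooth
    (HasRingHomProperty.Spec_iff.2 (RingHom.smooth_algebraMap.2 (hsm hf)))
    (HasRingHomProperty.Spec_iff.2 (RingHom.smooth_algebraMap.2 (hsm hf')))
  haveI := GData.finiteType_chart G he hc hf
  haveI := GData.finiteType_chart G he hc hf'
  have hint : ∀ {w : G.V}, G.Good he w →
      ∀ a : G.chart w, IsIntegral (Algebra.adjoin R {(⟨w, G.self_mem_chart w⟩ : G.chart w)}) a := by
    intro w hw a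
    obtain ⟨p, hp, hpa⟩ := GData.chart_integral G he hc hw a.2
    let A0 := Algebra.adjoin R {(⟨w, G.self_mem_chart w⟩ : G.chart w)}
    have himg : A0.map (G.chart w).val = Algebra.adjoin R {(w : F)} := by
      rw [AlgHom.map_adjoin]; simp
    let ψ : A0 →+* Algebra.adjoin R {(w : F)} :=
      ((G.chart w).val.toRingHom.comp A0.val.toRingHom).codRestrict (Algebra.adjoin R {(w : F)}).toSubring
        fun b => by rw [Subalgebra.mem_toSubring, ← himg]; exact ⟨b.1, b.2, rfl⟩
    have hψ : Function.Surjective ψ := fun c => by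
      have hc' := c.2
      simp only [← himg] at hc'
      obtain ⟨b, hb, hbc⟩ := hc'
      exact ⟨⟨b, hb⟩, Subtype.ext hbc⟩
    obtain ⟨q, hq, -, hqm⟩ := Polynomial.lifts_and_degree_eq_and_monic
      ((Polynomial.mem_lifts p).2 (Polynomial.map_surjective ψ hψ p)) hp
    refine ⟨q, hqm, Subtype.ext ?_⟩
    rw [← hq, Polynomial.eval₂_map] at hpa
    exact (Polynomial.hom_eval₂ q _ (G.chart w).val.toRingHom a).trans (Eq.trans rfl hpa)
  have hprY : IsProper pY := by
    refine Glue.isProper R _ _ _ ⟨f, G.self_mem_chart f⟩ ⟨f', G.self_mem_chart f'⟩ ?_ (hint hf) (hint hf')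
    exact Subtype.ext (show (f : F) * (f' : F) = 1 by rw [hff', mul_inv_cancel₀ hf0])
  -- the opens of the curve
  obtain ⟨U, hU, hmU⟩ := exists_affine_inR 𝕂 hdimC htr
  obtain ⟨U', hU', hmU'⟩ := exists_affine_inR 𝕂 hdimC htr'
  have hη : genericPoint C ∈ U := (hmU _).2 (eta_inR _)
  have hη' : genericPoint C ∈ U' := (hmU' _).2 (eta_inR _)
  have hηI : genericPoint C ∈ U ⊓ U' := ⟨hη, hη'⟩
  have hcov : IsOpenCover fun b : Bool => cond b U U' := by
    refine top_le_iff.1 fun z _ => Opens.mem_iSup.2 ?_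
    rcases ZetaCurve.eq_or_isClosed 𝕂 C hdimC z with rfl | hz
    · exact ⟨true, hη⟩
    rcases le_total ((ZetaCurve.pl 𝕂 C hdimC ⟨z, hz⟩).1 (f : F)) 1 with h | h
    · exact ⟨true, (hmU z).2 ((ZetaCurve.inR_iff 𝕂 C hdimC ⟨z, hz⟩ _).2 h)⟩
    · refine ⟨false, (hmU' z).2 ((ZetaCurve.inR_iff 𝕂 C hdimC ⟨z, hz⟩ _).2 ?_)⟩
      rw [hff', map_inv₀]
      exact inv_le_one_of_one_le₀ h
  -- regular functions on the opens
  have hreg : ∀ {w : G.V} {W : C.Opens}, (∀ z, z ∈ W ↔ InR z (w : F)) → (hW : genericPoint C ∈ W) →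
      Set.range (gη hW) = {a | Reg (k := 𝕂) (w : F) a} :=
    fun hw hW => range_germ_eq_reg 𝕂 hdimC G.hK.1 hw hW
  have hregInR : ∀ {w : G.V} {W : C.Opens}, (∀ z, z ∈ W ↔ InR z (w : F)) → genericPoint C ∈ W →
      ∀ {a : F}, Reg (k := 𝕂) (w : F) a → ∀ z ∈ W, InR z a := by
    intro w W hw hW a ha z hz
    obtain ⟨r, hr⟩ := (Set.ext_iff.1 (hreg hw hW) a).2 ha
    exact hr ▸ inR_gη hz r
  obtain ⟨φ, hφ⟩ := exists_secLift hη (G.chart f).val.toRingHom fun a => hregInR hmU hη a.2.2
  obtain ⟨φ', hφ'⟩ := exists_secLift hη' (G.chart f').val.toRingHom fun a => hregInR hmU' hη' a.2.2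
  obtain ⟨β, hβ⟩ := exists_secLift hηI (G.overlap f).val.toRingHom fun b z hz => by
    rcases ZetaCurve.eq_or_isClosed 𝕂 C hdimC z with rfl | hzc
    · exact eta_inR _
    refine (ZetaCurve.inR_iff 𝕂 C hdimC ⟨z, hzc⟩ _).2 (b.2.2 _ (le_antisymm ?_ ?_))
    · exact (ZetaCurve.inR_iff 𝕂 C hdimC ⟨z, hzc⟩ _).1 ((hmU z).1 hz.1)
    · have h := (ZetaCurve.inR_iff 𝕂 C hdimC ⟨z, hzc⟩ _).1 ((hmU' z).1 hz.2)
      rw [hff', map_inv₀, inv_le_one₀ (zero_lt_iff.2 ((_root_.map_ne_zero _).2 hf0))] at h
      exact h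
  let u : U.toScheme ⟶ Y := toSpecMap U φ ≫ Glue.inl _ _ _
  let u' : U'.toScheme ⟶ Y := toSpecMap U' φ' ≫ Glue.inr _ _ _
  have hagree : C.homOfLE (inf_le_left : U ⊓ U' ≤ U) ≫ u = C.homOfLE (inf_le_right : U ⊓ U' ≤ U') ≫ u' := by
    have h1 := homOfLE_toSpecMap (inf_le_left : U ⊓ U' ≤ U) φ (β.comp (algebraMap (G.chart f) (G.overlap f)))
      fun a => gη_injective hηI (by rw [RingHom.comp_apply, hβ]; exact ((gη_res _ hηI hη _).trans (hφ a)).symm)
    have h2 := homOfLE_toSpecMap (inf_le_right : U ⊓ U' ≤ U') φ' (β.comp (algebraMap (G.chart f') (G.overlap f)))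
      fun a => gη_injective hηI (by rw [RingHom.comp_apply, hβ]; exact ((gη_res _ hηI hη' _).trans (hφ' a)).symm)
    simp only [u, u', reassoc_of% h1, reassoc_of% h2, ← toSpecMap_comp, Category.assoc]
    rw [Glue.condition]
  let 𝒰 := C.openCoverOfIsOpenCover (fun b : Bool => cond b U U') hcov
  let v : ∀ b : Bool, (cond b U U').toScheme ⟶ Y := fun b => Bool.rec u' u b
  have hv : ∀ b c, pullback.fst (𝒰.f b) (𝒰.f c) ≫ v b = pullback.snd _ _ ≫ v c := by
    intro b c
    cases b <;> cases c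
    · rw [show pullback.fst (𝒰.f false) (𝒰.f false) = pullback.snd _ _ from by
        rw [← cancel_mono (𝒰.f false), pullback.condition]]
    · obtain ⟨l, hl1, hl2⟩ : ∃ l, l ≫ C.homOfLE (inf_le_left : U ⊓ U' ≤ U) = pullback.snd (𝒰.f false) (𝒰.f true) ∧
          l ≫ C.homOfLE (inf_le_right : U ⊓ U' ≤ U') = pullback.fst (𝒰.f false) (𝒰.f true) :=
        let hP := isPullback_opens_inf U U'
        ⟨hP.lift _ _ (pullback.condition (f := 𝒰.f false) (g := 𝒰.f true)).symm, hP.lift_fst _ _ _, hP.lift_snd _ _ _⟩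
      show _ ≫ u' = _ ≫ u
      rw [← hl1, ← hl2, Category.assoc, Category.assoc, hagree]
    · obtain ⟨l, hl1, hl2⟩ : ∃ l, l ≫ C.homOfLE (inf_le_left : U ⊓ U' ≤ U) = pullback.fst (𝒰.f true) (𝒰.f false) ∧
          l ≫ C.homOfLE (inf_le_right : U ⊓ U' ≤ U') = pullback.snd (𝒰.f true) (𝒰.f false) :=
        let hP := isPullback_opens_inf U U'
        ⟨hP.lift _ _ (pullback.condition (f := 𝒰.f true) (g := 𝒰.f false)), hP.lift_fst _ _ _, hP.lift_snd _ _ _⟩
      show _ ≫ u = _ ≫ u'
      rw [← hl1, ← hl2, Category.assoc, Category.assoc, hagree]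
    · rw [show pullback.fst (𝒰.f true) (𝒰.f true) = pullback.snd _ _ from by
        rw [← cancel_mono (𝒰.f true), pullback.condition]]
  let g : C ⟶ Y := 𝒰.glueMorphisms v hv
  have hgu : U.ι ≫ g = u := 𝒰.ι_glueMorphisms v hv true
  have hgu' : U'.ι ≫ g = u' := 𝒰.ι_glueMorphisms v hv false
  let σ : Spec (CommRingCat.of 𝕂) ⟶ Spec (CommRingCat.of R) := Spec.map (CommRingCat.ofHom (algebraMap R 𝕂))
  -- compatibility with the structure maps
  have hchart : ∀ (W : C.Opens) (hW : genericPoint C ∈ W) (w : G.V) (θ : G.chart w →+* Γ(C, W)),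
      (∀ a, gη hW (θ a) = (a : F)) →
      toSpecMap W θ ≫ Spec.map (CommRingCat.ofHom (algebraMap R (G.chart w))) = W.ι ≫ pC ≫ σ := by
    intro W hW w θ hθ
    rw [toSpecMap_comp]
    have e : θ.comp (algebraMap R (G.chart w)) = (secMap 𝕂 W).comp (algebraMap R 𝕂) :=
      RingHom.ext fun r => gη_injective hW (by
        rw [RingHom.comp_apply, RingHom.comp_apply, hθ, gη_secMap, ← IsScalarTower.algebraMap_apply]
        rfl)
    rw [e, ← toSpecMap_comp, ← Category.assoc]
    congr 1
    have e2 : CommRingCat.ofHom (secMap 𝕂 W) =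
        (Scheme.ΓSpecIso (CommRingCat.of 𝕂)).inv ≫ Scheme.Hom.appLE pC ⊤ W le_top := rfl
    rw [toSpecMap, e2, Spec.map_comp, Scheme.Opens.toSpecΓ_SpecMap_appLE_assoc, Scheme.Opens.toSpecΓ_top,
      Category.assoc, Scheme.Hom.resLE_comp_ι_assoc, toSpecΓ_SpecMap_ΓSpecIso_inv, Category.comp_id]
  have hw : g ≫ pY = pC ≫ σ := by
    refine Scheme.Cover.hom_ext 𝒰 _ _ fun b => ?_
    rw [← Category.assoc]
    cases b
    · show (U'.ι ≫ g) ≫ pY = U'.ι ≫ _
      rw [hgu', Category.assoc, Glue.inr_toBase]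
      exact hchart U' hη' f' φ' hφ'
    · show (U.ι ≫ g) ≫ pY = U.ι ≫ _
      rw [hgu, Category.assoc, Glue.inl_toBase]
      exact hchart U hη f φ hφ
  -- each chart is the generic fibre
  have hopen : ∀ {w : G.V} {W : C.Opens}, IsAffineOpen W → (∀ z, z ∈ W ↔ InR z (w : F)) →
      (hW : genericPoint C ∈ W) → ∀ θ : G.chart w →+* Γ(C, W), (∀ a, gη hW (θ a) = (a : F)) →
      IsOpenImmersion (toSpecMap W θ) ∧
        Set.range (toSpecMap W θ) = SetLike.coe (PrimeSpectrum.basicOpen (algebraMap R (G.chart w) G.rpi)) := by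
    intro w W hWa hw hW θ hθ
    letI := θ.toAlgebra
    haveI : IsLocalization.Away (algebraMap R (G.chart w) G.rpi) Γ(C, W) := by
      refine IsLocalization.Away.mk _ ?_ ?_ fun a b hab => ⟨0, ?_⟩
      · have hu : IsUnit (algebraMap R 𝕂 G.rpi) := isUnit_iff_ne_zero.2 G.rpi_K_ne_zero
        convert hu.map (secMap 𝕂 W) using 1
        exact gη_injective hW ((hθ _).trans (by rw [gη_secMap, ← IsScalarTower.algebraMap_apply]; rfl))
      · intro r
        obtain ⟨n, hn⟩ := G.exists_pow_mem_chart (f := w)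
          ((Set.ext_iff.1 (hreg hw hW) (gη hW r)).1 ⟨r, rfl⟩)
        refine ⟨n, ⟨_, hn⟩, gη_injective hW ?_⟩
        rw [map_mul, map_pow]
        show gη hW r * gη hW (θ _) ^ n = gη hW (θ _)
        rw [hθ, hθ, mul_comm]
        rfl
      · rw [show a = b from Subtype.ext (by rw [← hθ, ← hθ]; exact congrArg _ hab)]
    have e : toSpecMap W θ = hWa.isoSpec.hom ≫ Spec.map (CommRingCat.ofHom (algebraMap (G.chart w) Γ(C, W))) := rfl
    haveI := IsOpenImmersion.of_isLocalization (R := G.chart w) (S := Γ(C, W)) (algebraMap R (G.chart w) G.rpi)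
    refine ⟨e ▸ inferInstance, ?_⟩
    rw [e, Scheme.Hom.comp_base, TopCat.coe_comp, Set.range_comp,
      Set.range_eq_univ.2 (Scheme.Hom.surjective hWa.isoSpec.hom), Set.image_univ]
    exact PrimeSpectrum.localization_away_comap_range _ _
  obtain ⟨hoU, hrU⟩ := hopen hU hmU hη φ hφ
  obtain ⟨hoU', hrU'⟩ := hopen hU' hmU' hη' φ' hφ'
  -- preimages of the charts
  have hcross : ∀ {w w' : G.V} {W W' : C.Opens}, (w : F) * (w' : F) = 1 → (∀ z, z ∈ W ↔ InR z (w : F)) →
      (hW' : genericPoint C ∈ W') → ∀ θ' : G.chart w' →+* Γ(C, W'), (∀ a, gη hW' (θ' a) = (a : F)) →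
      ∀ x : W'.toScheme, toSpecMap W' θ' x ∈ PrimeSpectrum.basicOpen (⟨w', G.self_mem_chart w'⟩ : G.chart w') →
        x.1 ∈ W := by
    intro w w' W W' hww hw hW' θ' hθ' x hx
    set e : G.chart w' := ⟨w', G.self_mem_chart w'⟩
    have h1 : x ∈ W'.toSpecΓ ⁻¹ᵁ PrimeSpectrum.basicOpen (θ' e) := hx
    rw [Scheme.Opens.toSpecΓ_preimage_basicOpen] at h1
    have hxW : x.1 ∈ W' := x.2
    have hu : IsUnit (C.presheaf.germ W' x.1 hxW (θ' e)) := (C.mem_basicOpen (θ' e) x.1 hxW).1 h1
    obtain ⟨m, hm⟩ := hu.exists_left_inv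
    refine (hw x.1).2 ⟨m, ?_⟩
    have : Nonempty W' := ⟨⟨x.1, hxW⟩⟩
    have h2 : algebraMap (C.presheaf.stalk x.1) C.functionField (C.presheaf.germ W' x.1 hxW (θ' e)) = (w' : F) :=
      (C.algebraMap_germ_eq_germToFunctionField hxW _).trans (hθ' e)
    have h3 := congrArg (algebraMap (C.presheaf.stalk x.1) C.functionField) hm
    rw [map_mul, h2, map_one] at h3
    exact mul_right_cancel₀ (right_ne_zero_of_mul_eq_one hww) (h3.trans hww.symm)
  have hpre : g ⁻¹ᵁ (Glue.inl (G.chart f) (G.chart f') (G.overlap f)).opensRange = U := by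
    refine le_antisymm (fun z hz => ?_) fun z hz => ⟨toSpecMap U φ ⟨z, hz⟩, ?_⟩
    · by_contra hzU
      have hzU' : z ∈ U' := by
        obtain ⟨b, hb⟩ := hcov.exists_mem z
        cases b
        · exact hb
        · exact absurd hb hzU
      obtain ⟨a, ha⟩ := hz
      have ha' : Glue.inl (G.chart f) (G.chart f') (G.overlap f) a =
          Glue.inr _ _ _ (toSpecMap U' φ' ⟨z, hzU'⟩) := ha.trans congr($hgu' ⟨z, hzU'⟩)
      have h1 := (Glue.overlap _ _ _ _ _ ha').2
      rw [show Set.range (Glue.mapL (G.chart f') (G.overlap f)) =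
        SetLike.coe (PrimeSpectrum.basicOpen (⟨f', G.self_mem_chart f'⟩ : G.chart f')) from
        PrimeSpectrum.localization_away_comap_range _ _] at h1
      exact hzU (hcross (by rw [hff', mul_inv_cancel₀ hf0]) hmU hη' φ' hφ' ⟨z, hzU'⟩ h1)
    · exact congr($hgu ⟨z, hz⟩).symm
  have hpre' : g ⁻¹ᵁ (Glue.inr (G.chart f) (G.chart f') (G.overlap f)).opensRange = U' := by
    refine le_antisymm (fun z hz => ?_) fun z hz => ⟨toSpecMap U' φ' ⟨z, hz⟩, ?_⟩
    · by_contra hzU'
      have hzU : z ∈ U := by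
        obtain ⟨b, hb⟩ := hcov.exists_mem z
        cases b
        · exact absurd hb hzU'
        · exact hb
      obtain ⟨a, ha⟩ := hz
      have ha' : Glue.inl (G.chart f) (G.chart f') (G.overlap f) (toSpecMap U φ ⟨z, hzU⟩) =
          Glue.inr _ _ _ a := congr($hgu ⟨z, hzU⟩).symm.trans ha.symm
      have h1 := (Glue.overlap _ _ _ _ _ ha').1
      rw [show Set.range (Glue.mapL (G.chart f) (G.overlap f)) =
        SetLike.coe (PrimeSpectrum.basicOpen (⟨f, G.self_mem_chart f⟩ : G.chart f)) from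
        PrimeSpectrum.localization_away_comap_range _ _] at h1
      exact hzU' (hcross (by rw [hff', inv_mul_cancel₀ hf0]) hmU' hη φ hφ ⟨z, hzU⟩ h1)
    · exact congr($hgu' ⟨z, hz⟩).symm
  haveI : IsOpenImmersion g := by
    let V : Bool → Y.Opens := fun b => cond b (Glue.inl (G.chart f) (G.chart f') (G.overlap f)).opensRange
      (Glue.inr (G.chart f) (G.chart f') (G.overlap f)).opensRange
    refine (IsZariskiLocalAtTarget.iff_of_iSup_eq_top (P := @IsOpenImmersion) V ?_).2 fun b => ?_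
    · refine top_le_iff.1 fun z _ => Opens.mem_iSup.2 ?_
      rcases Glue.cover _ _ _ z with hz | hz
      · exact ⟨true, hz⟩
      · exact ⟨false, hz⟩
    · haveI : IsOpenImmersion ((g ∣_ V b) ≫ (V b).ι) := by
        rw [morphismRestrict_ι]
        cases b
        · rw [show (g ⁻¹ᵁ V false).ι = (C.isoOfEq hpre').hom ≫ U'.ι from (Scheme.isoOfEq_hom_ι _ _).symm,
            Category.assoc, hgu']
          haveI := hoU'
          infer_instance
        · rw [show (g ⁻¹ᵁ V true).ι = (C.isoOfEq hpre).hom ≫ U.ι from (Scheme.isoOfEq_hom_ι _ _).symm,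
            Category.assoc, hgu]
          haveI := hoU
          infer_instance
      exact IsOpenImmersion.of_comp _ (V b).ι
  haveI : IsLocalization.Away G.rpi 𝕂 := by
    refine IsLocalization.Away.mk _ (isUnit_iff_ne_zero.2 G.rpi_K_ne_zero) (fun z => ?_) fun a b hab => ⟨0, ?_⟩
    · obtain ⟨a, b, hb, rfl⟩ := IsFractionRing.div_surjective (A := R) z
      obtain ⟨n, v, hv⟩ := IsDiscreteValuationRing.eq_unit_mul_pow_irreducible (nonZeroDivisors.ne_zero hb)
        G.rpi_irreducible
      refine ⟨n, a * ↑v⁻¹, ?_⟩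
      have hv0 : algebraMap R 𝕂 (v : R) ≠ 0 := (v.isUnit.map _).ne_zero
      have hv1 : algebraMap R 𝕂 (v : R) * algebraMap R 𝕂 (↑v⁻¹ : R) = 1 := by rw [← map_mul, Units.mul_inv, map_one]
      rw [hv, map_mul, map_mul, map_pow, eq_inv_of_mul_eq_one_right hv1]
      field_simp [G.rpi_K_ne_zero]
    · rw [IsFractionRing.injective R 𝕂 hab]
  haveI : IsOpenImmersion σ := IsOpenImmersion.of_isLocalization (S := 𝕂) G.rpi
  have hσ : Set.range σ = SetLike.coe (PrimeSpectrum.basicOpen G.rpi) := PrimeSpectrum.localization_away_comap_range _ _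
  have hrange : pY ⁻¹ᵁ σ.opensRange = g.opensRange := by
    refine Opens.ext (Set.ext fun y => ?_)
    show pY y ∈ Set.range σ ↔ y ∈ Set.range g
    rw [hσ]
    constructor
    · intro hy
      rcases Glue.cover _ _ _ y with ⟨x, rfl⟩ | ⟨x, rfl⟩
      · rw [← Scheme.Hom.comp_apply, Glue.inl_toBase] at hy
        obtain ⟨z, hz⟩ : x ∈ Set.range (toSpecMap U φ) := by rw [hrU]; exact hy
        exact ⟨U.ι z, congr($hgu z).trans (congrArg _ hz)⟩
      · rw [← Scheme.Hom.comp_apply, Glue.inr_toBase] at hy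
        obtain ⟨z, hz⟩ : x ∈ Set.range (toSpecMap U' φ') := by rw [hrU']; exact hy
        exact ⟨U'.ι z, congr($hgu' z).trans (congrArg _ hz)⟩
    · rintro ⟨z, rfl⟩
      rw [← hσ, ← Scheme.Hom.comp_apply, hw]
      exact ⟨pC z, rfl⟩
  haveI := hsmY
  haveI := hprY
  exact ⟨Y, pY, ⟨inferInstance, inferInstance, inferInstance, g,
    (IsOpenImmersion.isPullback pC g σ pY hw hrange).flip⟩, hprY, hsmY⟩

end Model

end Groth.Agent.GRModel
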