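import Groth.Agent.RatSingReg.Step
import Mathlib.RingTheory.Valuation.ValuationSubring
import Mathlib.RingTheory.DiscreteValuationRing.Basic
import Mathlib.FieldTheory.IntermediateField.Adjoin.Basic

/-!
# Valuations centred at a closed point of a regular surface with transcendental residue field
-/

noncomputable section

set_option autoImplicit false
set_option linter.style.haveILetI false
set_option linter.unusedSectionVars false
set_option backward.isDefEq.respectTransparency false

universe u

open Polynomial IsLocalRing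

namespace Groth.Agent.GRModel

open Groth.Agent Groth.Agent.RatSingReg

variable {K : Type u} [Field K] {κ : Type u} [Field κ]
variable (V : ValuationSubring K) (red : V →+* κ)

/-- A local ring dominated by `V`, as a map to `V`. -/
def toV {A : Type u} [CommRing A] [Algebra A K] (hle : ∀ a, algebraMap A K a ∈ V) : A →+* V :=
  (algebraMap A K).codRestrict V.toSubring hle

/-- The residue field of a dominated local ring, inside the residue field of `V`. -/
def resField {A : Type u} [CommRing A] [IsLocalRing A] [Algebra A K] (hle : ∀ a, algebraMap A K a ∈ V)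
    (hdom : ∀ a ∈ maximalIdeal A, red (toV V hle a) = 0) : Subfield κ :=
  RingHom.fieldRange (K := ResidueField A) (Ideal.Quotient.lift (maximalIdeal A) (red.comp (toV V hle)) hdom)

theorem mem_resField {A : Type u} [CommRing A] [IsLocalRing A] [Algebra A K] (hle : ∀ a, algebraMap A K a ∈ V)
    (hdom : ∀ a ∈ maximalIdeal A, red (toV V hle a) = 0) {s : κ} :
    s ∈ resField V red hle hdom ↔ ∃ a, red (toV V hle a) = s := by
  refine RingHom.mem_fieldRange.trans ⟨?_, ?_⟩
  · rintro ⟨b, rfl⟩
    obtain ⟨a, rfl⟩ := Ideal.Quotient.mk_surjective b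
    exact ⟨a, rfl⟩
  · rintro ⟨a, rfl⟩
    exact ⟨Ideal.Quotient.mk _ a, rfl⟩

variable (red_eq : ∀ v, red v = 0 ↔ v ∈ maximalIdeal V)
include red_eq

theorem red_inv {v : V} (hv : red v ≠ 0) : ∃ w : V, (w : K) = (v : K)⁻¹ ∧ red w = (red v)⁻¹ := by
  have hu : IsUnit v := by
    by_contra h
    exact hv ((red_eq v).2 h)
  obtain ⟨u, rfl⟩ := hu
  refine ⟨(u⁻¹ : Vˣ), ?_, ?_⟩
  · refine eq_inv_of_mul_eq_one_left ?_
    rw [← MulMemClass.coe_mul, Units.inv_mul]
    rfl
  · refine eq_inv_of_mul_eq_one_left ?_
    rw [← map_mul, Units.inv_mul, map_one]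

/-- The residue field is purely transcendental over that of the centre. -/
theorem exists_rational [IsDiscreteValuationRing V] (red_surj : Function.Surjective red)
    (k₀ : Subfield κ) (hclosed : ∀ s : κ, IsAlgebraic k₀ s → s ∈ k₀)
    {t₀ : κ} (ht₀ : Transcendental k₀ t₀)
    (A : Type u) [CommRing A] [IsRegularLocalRing A] [Algebra A K] [IsFractionRing A K]
    (hA : ringKrullDim A = 2) (hle : ∀ a, algebraMap A K a ∈ V)
    (hdom : ∀ a ∈ maximalIdeal A, red (toV V hle a) = 0)
    (hk : resField V red hle hdom = k₀) :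
    ∃ t : κ, Transcendental k₀ t ∧ IntermediateField.adjoin k₀ ({t} : Set κ) = ⊤ := by
  classical
  obtain ⟨f, rfl⟩ := red_surj t₀
  suffices key : ∀ (b : V), ∀ (A : Type u) [CommRing A] [IsRegularLocalRing A] [Algebra A K] [IsFractionRing A K],
      ringKrullDim A = 2 → ∀ (hle : ∀ a, algebraMap A K a ∈ V)
        (hdom : ∀ a ∈ maximalIdeal A, red (toV V hle a) = 0), resField V red hle hdom = k₀ →
      ∀ a₁ b₁ : A, b₁ ≠ 0 → toV V hle b₁ = b → (f : K) * algebraMap A K b₁ = algebraMap A K a₁ →
      ∃ t : κ, Transcendental k₀ t ∧ IntermediateField.adjoin k₀ ({t} : Set κ) = ⊤ by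
    haveI := RegLoc6.isDomain_of_isRegularLocalRing A
    obtain ⟨⟨a₁, b₁⟩, hab⟩ := IsLocalization.surj (nonZeroDivisors A) (f : K)
    exact key _ A hA hle hdom hk a₁ b₁ (nonZeroDivisors.ne_zero b₁.2) rfl hab
  intro b
  induction b using (wellFounded_dvdNotUnit (α := V)).induction with
  | h b ih =>
  intro A _ _ _ _ hA hle hdom hk a₁ b₁ hb₁ hbb hab
  haveI := RegLoc6.isDomain_of_isRegularLocalRing A
  let ψ := toV V hle
  have hψinj : Function.Injective ψ := fun p q h => IsFractionRing.injective A K (congrArg Subtype.val h)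
  have hψm : ∀ p, red (ψ p) = 0 ↔ p ∈ maximalIdeal A := fun p => by
    refine ⟨fun h => ?_, hdom p⟩
    by_contra hp
    exact ((IsLocalRing.notMem_maximalIdeal.1 hp).map (red.comp ψ)).ne_zero h
  -- the denominator is in the maximal ideal
  have hbm : b₁ ∈ maximalIdeal A := by
    by_contra h
    obtain ⟨u, rfl⟩ := IsLocalRing.notMem_maximalIdeal.1 h
    refine ht₀ ?_
    have hmem : red f ∈ k₀ := hk ▸ (mem_resField V red hle hdom).2 ⟨a₁ * ↑u⁻¹, congrArg red (Subtype.ext (by
      show algebraMap A K (a₁ * ↑u⁻¹) = (f : K)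
      rw [map_mul, ← hab, mul_assoc, ← map_mul, Units.mul_inv, map_one, mul_one]))⟩
    exact isAlgebraic_algebraMap (R := k₀) (⟨red f, hmem⟩ : k₀)
  have ham : a₁ ∈ maximalIdeal A := by
    rw [← hψm, show ψ a₁ = f * ψ b₁ from Subtype.ext hab.symm, map_mul, hdom b₁ hbm, mul_zero]
  -- parameters with `y / x` in `V`
  obtain ⟨x, y, hP, hyx⟩ : ∃ x y : A, Params x y ∧ frac K x y ∈ V := by
    have h2 : (maximalIdeal A).spanFinrank = 2 := by
      have h := IsRegularLocalRing.spanFinrank_maximalIdeal (R := A)
      rw [hA] at h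
      exact_mod_cast h
    obtain ⟨s, hs, hspan⟩ := Submodule.FG.exists_span_set_encard_eq_spanFinrank (maximalIdeal A).fg_of_isNoetherianRing
    rw [h2] at hs
    obtain ⟨p, q, -, rfl⟩ := Set.encard_eq_two.1 hs
    have hP := params_of_span hA hspan
    rcases V.mem_or_inv_mem (frac K p q) with h | h
    · exact ⟨p, q, hP, h⟩
    · refine ⟨q, p, hP.symm hA, ?_⟩
      rwa [show frac K q p = (frac K p q)⁻¹ from (inv_div _ _).symm]
  let τ : V := ⟨frac K x y, hyx⟩
  have hchart : ∀ c ∈ chart K x y, c ∈ V := by
    rintro _ ⟨P, rfl⟩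
    show aeval (frac K x y) P ∈ V
    rw [aeval_def, eval₂_eq_sum_range]
    exact sum_mem fun i _ => mul_mem (hle _) (pow_mem hyx i)
  let χ : chart K x y →+* V := (chart K x y).subtype.codRestrict V.toSubring fun c => hchart c c.2
  have hχpres : ∀ P : A[X], red (χ (present K x y P)) = P.eval₂ (red.comp ψ) (red τ) := fun P => by
    rw [← Polynomial.hom_eval₂]
    refine congrArg red (Subtype.ext ?_)
    show aeval (frac K x y) P = _
    rw [aeval_def]
    exact (Polynomial.hom_eval₂ P ψ V.subtype τ).symm
  have hxm : red (ψ x) = 0 := hdom x hP.xmem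
  have hχx : red (χ (toChart K (x := x) (y := y) x)) = 0 := by
    rw [show χ (toChart K (x := x) (y := y) x) = ψ x from Subtype.ext (coe_toChart K x)]
    exact hxm
  -- polynomials over `k₀`
  let res₀ : A →+* k₀ := (red.comp ψ).codRestrict k₀.toSubring fun p => by
    show red (ψ p) ∈ k₀
    rw [← hk]; exact (mem_resField V red hle hdom).2 ⟨p, rfl⟩
  have hres₀ : Function.Surjective res₀ := fun s => by
    obtain ⟨p, hp⟩ := (mem_resField V red hle hdom (s := (s : κ))).1 (by rw [hk]; exact s.2)
    exact ⟨p, Subtype.ext hp⟩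
  have heval : ∀ P : A[X], red (χ (present K x y P)) = aeval (red τ) (P.map res₀) := fun P => by
    rw [hχpres, aeval_def, eval₂_map]
    rfl
  by_cases halg : IsAlgebraic k₀ (red τ)
  · -- move to the blown up point
    let q : Ideal (chart K x y) := RingHom.ker (red.comp χ)
    haveI : q.IsPrime := RingHom.ker_isPrime _
    have hxq : toChart K (x := x) (y := y) x ∈ q := hχx
    haveI := isRegularLocalRing_stalk' K hP q hxq
    haveI := isFractionRing_stalk K q
    have hle' : ∀ z : stalk K q, algebraMap (stalk K q) K z ∈ V := by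
      intro z
      refine stalk_le_of_le K hP (V := V) ?_ z.2
      rintro c (hc | ⟨s, hs, rfl⟩)
      · exact hchart c hc
      · obtain ⟨w, hw, -⟩ := red_inv V red red_eq (v := χ s) hs
        exact hw ▸ w.2
    have hfrac : ∀ z : stalk K q, ∃ c s : chart K x y, red (χ s) ≠ 0 ∧
        red (toV V hle' z) = red (χ c) / red (χ s) := by
      intro z
      obtain ⟨c, s, hs, hcs⟩ := exists_of_mem_stalk K z.2
      refine ⟨c, s, hs, eq_div_of_mul_eq hs ?_⟩
      rw [← map_mul]
      exact congrArg red (Subtype.ext hcs)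
    have hdom' : ∀ z ∈ maximalIdeal (stalk K q), red (toV V hle' z) = 0 := by
      intro z hz
      obtain ⟨⟨c, s⟩, hcs⟩ := IsLocalization.surj q.primeCompl z
      have hs : red (χ s) ≠ 0 := s.2
      have hc : c ∈ q := (IsLocalization.AtPrime.to_map_mem_maximal_iff (stalk K q) q c).1
        (hcs ▸ Ideal.mul_mem_right _ _ hz)
      have h1 : red (toV V hle' z) * red (χ s) = red (χ c) := by
        rw [← map_mul]
        exact congrArg red (Subtype.ext (congrArg (fun w : stalk K q => (w : K)) hcs))
      rw [show red (χ c) = 0 from hc] at h1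
      exact (mul_eq_zero.1 h1).resolve_right hs
    have hτ0 : red τ ∈ k₀ := hclosed _ halg
    have hev0 : ∀ c : chart K x y, red (χ c) ∈ k₀ := fun c => by
      obtain ⟨P, rfl⟩ := present_surjective K c
      rw [hχpres, eval₂_eq_sum_range]
      exact sum_mem fun i _ => mul_mem (res₀ _).2 (pow_mem hτ0 i)
    have hk' : resField V red hle' hdom' = k₀ := by
      refine le_antisymm (fun s hs => ?_) fun s hs => ?_
      · obtain ⟨z, rfl⟩ := (mem_resField V red hle' hdom').1 hs
        obtain ⟨c, d, -, e⟩ := hfrac z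
        rw [e]
        exact div_mem (hev0 c) (hev0 d)
      · obtain ⟨p, rfl⟩ := (mem_resField V red hle hdom (s := s)).1 (by rw [hk]; exact hs)
        exact (mem_resField V red hle' hdom').2 ⟨⟨_, range_le_stalk K q p⟩, rfl⟩
    have hA' : ringKrullDim (stalk K q) = 2 := by
      refine le_antisymm (ringKrullDim_stalk_le K hP q hxq) ?_
      haveI hpx := isPrime_span_chart K hP
      have hlt : Ideal.span {toChart K (x := x) (y := y) x} < q := by
        refine lt_of_le_not_ge ((Ideal.span_singleton_le_iff_mem _).2 hxq) fun hge => ?_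
        obtain ⟨c, hc⟩ := hres₀ ⟨red τ, hτ0⟩
        have hmem : present K x y (X - C c) ∈ q := by
          show red (χ (present K x y (X - C c))) = 0
          rw [hχpres, eval₂_sub, eval₂_X, eval₂_C, sub_eq_zero]
          exact (congrArg Subtype.val hc).symm
        have h1 := hge hmem
        rw [map_maximalIdeal_chart K hP, toChart, ← Ideal.map_map,
          Ideal.mem_map_iff_of_surjective _ (present_surjective K)] at h1
        obtain ⟨Q, hQ, hQe⟩ := h1
        have h2 : X - C c - Q ∈ (maximalIdeal A).map (C : A →+* A[X]) :=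
          ker_present_le K hP (by rw [RingHom.mem_ker, map_sub, hQe, sub_self])
        have h3 := Ideal.mem_map_C_iff.1 (add_mem h2 hQ) 1
        rw [sub_add_cancel] at h3
        simp at h3
      have hbot : (⊥ : Ideal (chart K x y)) < Ideal.span {toChart K (x := x) (y := y) x} := by
        refine bot_lt_iff_ne_bot.2 fun h => toChart_ne K hP ?_
        rwa [Ideal.span_singleton_eq_bot] at h
      rw [ringKrullDim_eq_of_ringEquiv (LocalSubring.ofPrimeEquiv (chart K x y) q).toRingEquiv.symm,
        IsLocalization.AtPrime.ringKrullDim_eq_height q (Localization.AtPrime q)]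
      have h4 : (2 : ℕ∞) ≤ q.height := by
        have e1 := Ideal.height_strict_mono_of_isPrime hbot
        have e2 := Ideal.height_strict_mono_of_isPrime hlt
        rw [Ideal.height_bot] at e1
        exact le_trans (by norm_num) (Order.add_one_le_of_lt (lt_of_le_of_lt (Order.add_one_le_of_lt e1) e2))
      exact WithBot.coe_le_coe.2 h4
    -- the smaller denominator
    obtain ⟨a', ha', hae⟩ := (mem_pow_iff K hP 1 a₁).1 (by rwa [pow_one])
    obtain ⟨b', hb', hbe⟩ := (mem_pow_iff K hP 1 b₁).1 (by rwa [pow_one])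
    rw [pow_one] at hae hbe
    let aS : stalk K q := ⟨a', LocalSubring.le_ofPrime _ _ ha'⟩
    let bS : stalk K q := ⟨b', LocalSubring.le_ofPrime _ _ hb'⟩
    have hb'0 : bS ≠ 0 := fun e => hb₁ (IsFractionRing.injective A K (by
      rw [hbe, show b' = 0 from congrArg Subtype.val e, mul_zero, map_zero]))
    refine ih (toV V hle' bS) ?_ (stalk K q) hA' hle' hdom' hk' aS bS hb'0 rfl ?_
    · refine ⟨fun e => hb'0 (Subtype.ext (congrArg (fun w : V => (w : K)) e)), ψ x, fun hu => ?_, ?_⟩
      · exact ((red_eq _).1 hxm) hu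
      · rw [← hbb]
        exact Subtype.ext (hbe.trans (mul_comm _ _))
    · have h1 : algebraMap A K x ≠ 0 := algebraMap_ne K hP.xne
      refine mul_left_cancel₀ h1 ?_
      show algebraMap A K x * ((f : K) * b') = algebraMap A K x * a'
      rw [← hae, ← hab, hbe]
      ring
  · -- `τ` generates
    refine ⟨red τ, halg, ?_⟩
    let L := IntermediateField.adjoin k₀ ({red τ} : Set κ)
    have hxnz : ∀ c : chart K x y, c ∉ Ideal.span {toChart K (x := x) (y := y) x} → red (χ c) ≠ 0 := by
      intro c hc h0
      obtain ⟨P, rfl⟩ := present_surjective K c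
      rw [heval] at h0
      have hP0 : P.map res₀ = 0 := by
        by_contra hne
        exact halg ⟨_, hne, h0⟩
      refine hc ?_
      rw [map_maximalIdeal_chart K hP, toChart, ← Ideal.map_map]
      refine Ideal.mem_map_of_mem _ (Ideal.mem_map_C_iff.2 fun i => ?_)
      rw [← hψm]
      have := congrArg (fun Q => (Q.coeff i : κ)) hP0
      simp only [coeff_map, Polynomial.coeff_zero, ZeroMemClass.coe_zero] at this
      exact this
    have hχinj : Function.Injective χ := fun p q h => Subtype.ext (congrArg (fun v : V => (v : K)) h)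
    have hχx0 : χ (toChart K (x := x) (y := y) x) ≠ 0 := fun e =>
      toChart_ne K hP (hχinj (e.trans (map_zero χ).symm))
    have hdecomp : ∀ v : V, v ≠ 0 → ∀ c : chart K x y, χ c = v → ∃ (i : ℕ) (c' : chart K x y),
        c' ∉ Ideal.span {toChart K (x := x) (y := y) x} ∧ c = toChart K (x := x) (y := y) x ^ i * c' := by
      intro v
      induction v using (wellFounded_dvdNotUnit (α := V)).induction with
      | h v ih' =>
        intro hv c hc
        by_cases hmem : c ∈ Ideal.span {toChart K (x := x) (y := y) x}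
        · obtain ⟨d, rfl⟩ := Ideal.mem_span_singleton'.1 hmem
          have hd : χ d ≠ 0 := fun e => hv (by rw [← hc, map_mul, e, zero_mul])
          obtain ⟨i, c', hc', rfl⟩ := ih' (χ d) ⟨hd, χ (toChart K (x := x) (y := y) x),
            (red_eq _).1 hχx, by rw [← hc, map_mul]⟩ hd d rfl
          exact ⟨i + 1, c', hc', by ring⟩
        · exact ⟨0, c, hmem, by rw [pow_zero, one_mul]⟩
    have hmemL : ∀ c : chart K x y, red (χ c) ∈ L := fun c => by
      obtain ⟨P, rfl⟩ := present_surjective K c
      rw [heval]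
      exact IntermediateField.algebra_adjoin_le_adjoin k₀ _ (aeval_mem_adjoin_singleton _ _)
    refine eq_top_iff.2 fun s _ => ?_
    obtain ⟨v, rfl⟩ := red_surj s
    by_cases hv0 : v = 0
    · rw [hv0, map_zero]; exact zero_mem _
    obtain ⟨⟨p, r⟩, hpr⟩ := IsLocalization.surj (nonZeroDivisors A) (v : K)
    have hr0 : ψ (r : A) ≠ 0 := fun e => nonZeroDivisors.ne_zero r.2 (hψinj (e.trans (map_zero ψ).symm))
    have hp0 : ψ p ≠ 0 := fun e => by
      have h1 : v * ψ r = 0 := (Subtype.ext hpr).trans e
      exact hr0 ((mul_eq_zero.1 h1).resolve_left hv0)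
    obtain ⟨i, c, hc, hpc⟩ := hdecomp (ψ p) hp0 (toChart K (x := x) (y := y) p) (Subtype.ext (coe_toChart K p))
    obtain ⟨j, d, hd, hrd⟩ := hdecomp (ψ r) hr0 (toChart K (x := x) (y := y) r) (Subtype.ext (coe_toChart K _))
    set ξ := χ (toChart K (x := x) (y := y) x)
    have e : v * (ξ ^ j * χ d) = ξ ^ i * χ c := by
      have h1 : v * χ (toChart K (x := x) (y := y) r) = χ (toChart K (x := x) (y := y) p) := Subtype.ext (by
        show (v : K) * _ = _
        rw [show ((χ (toChart K (x := x) (y := y) (r : A)) : V) : K) = algebraMap A K r from coe_toChart K _,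
          show ((χ (toChart K (x := x) (y := y) p) : V) : K) = algebraMap A K p from coe_toChart K _]
        exact hpr)
      rwa [hpc, hrd, map_mul, map_mul, map_pow, map_pow] at h1
    rcases le_or_gt j i with hji | hij
    · obtain ⟨l, rfl⟩ := Nat.exists_eq_add_of_le hji
      have e2 : v * χ d = ξ ^ l * χ c := mul_left_cancel₀ (pow_ne_zero j hχx0) (by rw [pow_add] at e; linear_combination e)
      have e3 := congrArg red e2
      rw [map_mul, map_mul, map_pow] at e3
      rw [eq_div_of_mul_eq (hxnz d hd) e3]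
      refine div_mem (mul_mem (pow_mem ?_ _) (hmemL c)) (hmemL d)
      rw [hχx]; exact zero_mem _
    · obtain ⟨l, rfl⟩ := Nat.exists_eq_add_of_le hij
      have e2 : v * (ξ ^ (l + 1) * χ d) = χ c := mul_left_cancel₀ (pow_ne_zero i hχx0) (by
        rw [show i + 1 + l = i + (l + 1) by ring, pow_add] at e; linear_combination e)
      have e3 := congrArg red e2
      rw [map_mul, map_mul, map_pow, hχx, zero_pow (Nat.succ_ne_zero l), zero_mul, mul_zero] at e3
      exact absurd e3.symm (hxnz c hc)

end Groth.Agent.GRModel
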