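import Groth.Agent.GRModel.Count
import Mathlib.RingTheory.Localization.Away.Basic
import Mathlib.RingTheory.FiniteType
import Mathlib.RingTheory.IntegralClosure.IsIntegral.Basic

/-!
# The affine charts of the smooth model
-/

noncomputable section

set_option autoImplicit false
set_option backward.isDefEq.respectTransparency false
set_option linter.unusedSectionVars false
set_option linter.style.haveILetI false

universe u

namespace Groth.Agent.GRModel

open IsLocalRing Polynomial WithZero Groth.Agent.FFLib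

variable {R : Type u} [CommRing R] [IsDomain R] [IsDiscreteValuationRing R]
variable {F : Type u} [Field F] [Algebra R F] [Algebra (FractionRing R) F] [IsScalarTower R (FractionRing R) F]
variable {κ : Type u} [Field κ] [Algebra (ResidueField R) κ]

namespace GData

variable (G : GData R F κ)

local notation "𝕜" => ResidueField R
local notation "𝕂" => FractionRing R

theorem reg_zero (f : F) : Reg (k := 𝕂) f (0 : F) := fun P _ => by simp

theorem reg_algebraMap (f : F) (r : R) : Reg (k := 𝕂) f (algebraMap R F r) := fun P _ => by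
  rw [IsScalarTower.algebraMap_apply R 𝕂 F]; exact P.2.1 _

/-- Integral at the valuation, regular outside the poles of `f`. -/
def chart (f : G.V) : Subalgebra R F where
  carrier := {a | a ∈ G.V ∧ Reg (k := 𝕂) (f : F) a}
  mul_mem' ha hb := ⟨mul_mem ha.1 hb.1, ha.2.mul hb.2⟩
  one_mem' := ⟨one_mem _, Reg.one _⟩
  add_mem' ha hb := ⟨add_mem ha.1 hb.1, ha.2.add hb.2⟩
  zero_mem' := ⟨zero_mem _, reg_zero _⟩
  algebraMap_mem' r := ⟨G.hR r, reg_algebraMap _ r⟩

theorem mem_chart {f : G.V} {a : F} : a ∈ G.chart f ↔ a ∈ G.V ∧ Reg (k := 𝕂) (f : F) a := Iff.rfl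

theorem self_mem_chart (f : G.V) : (f : F) ∈ G.chart f := ⟨f.2, Reg.self G.hK.1 _⟩

/-- Integral at the valuation, regular where `f` is a unit. -/
def overlap (f : G.V) : Subalgebra R F where
  carrier := {a | a ∈ G.V ∧ ∀ P : FunFld.Place 𝕂 F, P.1 (f : F) = 1 → P.1 a ≤ 1}
  mul_mem' ha hb := ⟨mul_mem ha.1 hb.1, fun P hP => by
    rw [map_mul]; exact mul_le_one' (ha.2 P hP) (hb.2 P hP)⟩
  one_mem' := ⟨one_mem _, fun P _ => by simp⟩
  add_mem' ha hb := ⟨add_mem ha.1 hb.1, fun P hP =>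
    (P.1.map_add _ _).trans (max_le (ha.2 P hP) (hb.2 P hP))⟩
  zero_mem' := ⟨zero_mem _, fun P _ => by simp⟩
  algebraMap_mem' r := ⟨G.hR r, fun P _ => by rw [IsScalarTower.algebraMap_apply R 𝕂 F]; exact P.2.1 _⟩

theorem poles_eq_zero_of_val_eq_one {f : F} {P : FunFld.Place 𝕂 F} (hF : IsFF 𝕂 F) (h : P.1 f = 1) :
    poles (k := 𝕂) f P = 0 := by
  have : P.ord f = 0 := ord_of_val_eq P (by simpa using h)
  simp [poles, div_apply hF, this]

theorem chart_le_overlap (f : G.V) : G.chart f ≤ G.overlap f := fun _ ha =>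
  ⟨ha.1, fun P hP => ha.2 P (poles_eq_zero_of_val_eq_one G.hK.1 hP)⟩

theorem exists_pow_mul_mem_chart (f : G.V) (hf0 : (f : F) ≠ 0) {a : F} (ha : a ∈ G.overlap f) :
    ∃ n : ℕ, (f : F) ^ n * a ∈ G.chart f := by
  classical
  rcases eq_or_ne a 0 with rfl | ha0
  · exact ⟨0, by simp⟩
  refine ⟨(poles a : FunFld.Divisor 𝕂 F).support.sup fun P => (poles (k := 𝕂) a P).toNat,
    mul_mem (pow_mem f.2 _) ha.1, fun P hP => ?_⟩
  simp only [poles, Finsupp.mapRange_apply, div_apply G.hK.1] at hP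
  rw [map_mul, map_pow, val_eq_exp P hf0, val_eq_exp P ha0, ← exp_nsmul, ← exp_add, ← exp_zero, exp_le_exp,
    nsmul_eq_mul]
  by_cases h1 : P.1 (f : F) = 1
  · have h2 := (val_le_one_iff P ha0).1 (ha.2 P h1)
    have h3 : P.ord (f : F) = 0 := ord_of_val_eq P (by simpa using h1)
    rw [h3]; simp; omega
  · have h3 : P.ord (f : F) ≠ 0 := fun e => h1 (by rw [val_eq_exp P hf0, e]; simp)
    have hle : -P.ord a ≤ ((poles (a : F) : FunFld.Divisor 𝕂 F).support.sup fun P => (poles (k := 𝕂) a P).toNat : ℕ) := by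
      by_cases hP' : P ∈ (poles a : FunFld.Divisor 𝕂 F).support
      · have := Finset.le_sup (f := fun P => (poles (k := 𝕂) a P).toNat) hP'
        simp only [poles, Finsupp.mapRange_apply, div_apply G.hK.1] at this ⊢
        omega
      · simp only [Finsupp.mem_support_iff, not_not, poles, Finsupp.mapRange_apply, div_apply G.hK.1] at hP'
        omega
    have h4 : 1 ≤ P.ord (f : F) := by omega
    nlinarith [Int.natCast_nonneg ((poles (a : F) : FunFld.Divisor 𝕂 F).support.sup fun P => (poles (k := 𝕂) a P).toNat)]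

theorem overlap_congr {f f' : G.V} (h : (f' : F) = (f : F)⁻¹) : G.overlap f' = G.overlap f := by
  ext a
  refine and_congr_right fun _ => forall_congr' fun P => ?_
  rw [h, map_inv₀, inv_eq_one]

theorem inv_mem_overlap {f f' : G.V} (h : (f' : F) = (f : F)⁻¹) : (f : F)⁻¹ ∈ G.overlap f :=
  ⟨h ▸ f'.2, fun P hP => by rw [map_inv₀, hP, inv_one]⟩

variable (he : G.e = 1) (hc : chi G.hκ = chi G.hK.1) {f : G.V} (hf : G.Good he f)
include he hc hf

theorem exists_rpi_mul_of_red {w : G.V} (hw : G.red w = 0) :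
    ∃ w' : G.V, w = inV G.V G.hR G.rpi * w' := by
  haveI := G.isDVR
  obtain ⟨t, ht⟩ : G.pi ∣ w := by
    rw [← Ideal.mem_span_singleton, ← G.irreducible_pi.maximalIdeal_eq, ← G.red_eq_zero]; exact hw
  refine ⟨(G.u⁻¹ : G.Vˣ) * t, ?_⟩
  rw [G.rpi_eq, he, pow_one, mul_mul_mul_comm, Units.mul_inv, one_mul, ht]

theorem lat_step {l : ℕ} (hl : 1 ≤ l) :
    G.lat ((l + 2) • poles (f : F)) ≤
      (G.lat ((l + 1) • poles (f : F))).map (LinearMap.mulLeft R (f : F)) ⊔ G.lat ((l + 1) • poles (f : F)) := by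
  classical
  refine Submodule.le_of_le_smul_of_le_jacobson_bot (I := maximalIdeal R) (G.lat_fg _)
    (maximalIdeal_le_jacobson _) fun x ⟨hxL, hxV⟩ => ?_
  have hx : G.red ⟨x, hxV⟩ ∈ G.red_j ((l + 2) • poles (f : F)) 0 :=
    ⟨⟨x, hxV⟩, rfl, by rw [pow_zero, one_mul]; exact hxL⟩
  have hd := hf.2.1
  have hp := pencil G.hκ hf.1 (l := l) (by
    rw [hd]
    refine hf.2.2.2.1.trans (le_mul_of_one_le_left (Divisor.deg_nonneg (poles_nonneg _)) (by exact_mod_cast hl)))
  rw [GData.Good.red_level G he hc hf (by omega), hp, Submodule.mem_sup] at hx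
  obtain ⟨_, ⟨a, ha, rfl⟩, b, hb, hab⟩ := hx
  rw [← GData.Good.red_level G he hc hf (by omega)] at hb
  have ha' : a ∈ G.red_j ((l + 1) • poles (f : F)) 0 := by
    rw [GData.Good.red_level G he hc hf (by omega)]; exact ha
  obtain ⟨y, rfl, hy⟩ := ha'
  obtain ⟨z, rfl, hz⟩ := hb
  rw [pow_zero, one_mul] at hy hz
  obtain ⟨w, hw⟩ := exists_rpi_mul_of_red G he hc hf (w := ⟨x, hxV⟩ - (f * y + z)) (by
    rw [map_sub, map_add, map_mul, ← hab]; simp)
  have hfy : (f : F) * (y : F) ∈ FunFld.L ((l + 2) • poles (f : F) : FunFld.Divisor 𝕂 F) := fun P => by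
    rw [succ_nsmul, Finsupp.add_apply, map_mul, exp_add, mul_comm]
    exact mul_le_mul' (hy P) (val_le_exp_poles G.hK.1 _ P)
  have hz' : (z : F) ∈ FunFld.L ((l + 2) • poles (f : F) : FunFld.Divisor 𝕂 F) :=
    mem_L_nsmul_poles_mono _ (by omega) hz
  have hwL : algebraMap R F G.rpi * (w : F) ∈ FunFld.L ((l + 2) • poles (f : F) : FunFld.Divisor 𝕂 F) := by
    have h1 := sub_mem hxL (add_mem hfy hz')
    have h2 : x - ((f : F) * y + z) = algebraMap R F G.rpi * (w : F) := congrArg Subtype.val hw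
    rwa [h2] at h1
  have hwL' : (w : F) ∈ FunFld.L ((l + 2) • poles (f : F) : FunFld.Divisor 𝕂 F) := by
    have h1 : algebraMap R 𝕂 G.rpi • (w : F) ∈ FunFld.L ((l + 2) • poles (f : F) : FunFld.Divisor 𝕂 F) := by
      rwa [algebraMap_smul, Algebra.smul_def]
    have h2 := Submodule.smul_mem _ (algebraMap R 𝕂 G.rpi)⁻¹ h1
    rwa [inv_smul_smul₀ G.rpi_K_ne_zero] at h2
  have e : x = ((f : F) * y + z) + G.rpi • (w : F) := by
    rw [Algebra.smul_def]
    have h2 : x - ((f : F) * y + z) = algebraMap R F G.rpi * (w : F) := congrArg Subtype.val hw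
    linear_combination h2
  rw [e]
  refine Submodule.add_mem_sup ?_ (Submodule.smul_mem_smul G.rpi_irreducible.not_isUnit ⟨hwL', w.2⟩)
  exact Submodule.add_mem_sup ⟨y, ⟨hy, y.2⟩, rfl⟩ ⟨hz, z.2⟩

theorem exists_gens : ∃ S : Finset F, (∀ s ∈ S, s ∈ G.chart f) ∧
    ∀ a ∈ G.chart f, a ∈ Submodule.span (Algebra.adjoin R {(f : F)}) (S : Set F) := by
  classical
  obtain ⟨S, hS⟩ := G.lat_fg (2 • poles (f : F))
  have hlat : ∀ {l : ℕ} {a : F}, a ∈ G.lat (l • poles (f : F)) → a ∈ G.chart f := fun {l} {a} ha =>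
    ⟨ha.2, reg_of_mem_L ha.1⟩
  refine ⟨S, fun s hs => hlat (hS ▸ Submodule.subset_span hs), fun a ha => ?_⟩
  obtain ⟨l, hl⟩ := exists_mem_L_of_reg G.hK.1 ha.2
  let M := Submodule.span (Algebra.adjoin R {(f : F)}) (S : Set F)
  suffices ∀ l : ℕ, G.lat ((l + 2) • poles (f : F)) ≤ M.restrictScalars R from
    this l ⟨mem_L_nsmul_poles_mono _ (by omega) hl, ha.1⟩
  intro l
  induction l with
  | zero =>
    rw [← hS, Submodule.span_le]
    exact fun s hs => Submodule.subset_span hs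
  | succ l ih =>
    refine (lat_step G he hc hf (show 1 ≤ l + 1 by omega)).trans (sup_le ?_ ih)
    rintro _ ⟨y, hy, rfl⟩
    exact M.smul_mem ⟨(f : F), Algebra.subset_adjoin rfl⟩ (ih hy)

theorem chart_fg : (G.chart f).FG := by
  classical
  obtain ⟨S, hS, hspan⟩ := exists_gens G he hc hf
  refine ⟨insert (f : F) S, le_antisymm (Algebra.adjoin_le ?_) fun a ha => ?_⟩
  · simp only [Finset.coe_insert, Set.insert_subset_iff]
    exact ⟨G.self_mem_chart f, hS⟩
  · have h := hspan a ha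
    induction h using Submodule.span_induction with
    | mem s hs => exact Algebra.subset_adjoin (by simp [Finset.mem_coe.1 hs])
    | zero => exact zero_mem _
    | add x y hx hy ihx ihy =>
      refine add_mem (ihx ?_) (ihy ?_) <;>
      · refine (Submodule.span_induction (p := fun z _ => z ∈ G.chart f) (fun s hs => hS s hs) (zero_mem _)
          (fun _ _ _ _ a b => add_mem a b) (fun r z _ hz => ?_) ‹_›)
        exact mul_mem (Algebra.adjoin_le (Set.singleton_subset_iff.2 (G.self_mem_chart f)) r.2) hz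
    | smul r x hx ihx =>
      refine mul_mem ((Algebra.adjoin_mono (by simp)) r.2) (ihx ?_)
      refine (Submodule.span_induction (p := fun z _ => z ∈ G.chart f) (fun s hs => hS s hs) (zero_mem _)
          (fun _ _ _ _ a b => add_mem a b) (fun r z _ hz => ?_) ‹_›)
      exact mul_mem (Algebra.adjoin_le (Set.singleton_subset_iff.2 (G.self_mem_chart f)) r.2) hz

theorem chart_integral {a : F} (ha : a ∈ G.chart f) : IsIntegral (Algebra.adjoin R {(f : F)}) a := by
  classical
  obtain ⟨S, hS, hspan⟩ := exists_gens G he hc hf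
  let A0 := Algebra.adjoin R {(f : F)}
  have hfA : A0 ≤ G.chart f := Algebra.adjoin_le (Set.singleton_subset_iff.2 (G.self_mem_chart f))
  let T : Subalgebra A0 F :=
    { (G.chart f).toSubsemiring with
      algebraMap_mem' := fun r => hfA r.2 }
  have hT : Subalgebra.toSubmodule T = Submodule.span A0 (S : Set F) :=
    le_antisymm (fun z hz => hspan z hz) (Submodule.span_le.2 fun s hs => hS s hs)
  exact IsIntegral.of_mem_of_fg T (hT ▸ Submodule.fg_span S.finite_toSet) a ha

/-- Functions of the chart vanishing on the special fibre are divisible by the uniformizer. -/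
theorem exists_eq_rpi_mul {a : F} (ha : a ∈ G.chart f) (h0 : G.red ⟨a, ha.1⟩ = 0) :
    ∃ a' ∈ G.chart f, a = algebraMap R F G.rpi * a' := by
  obtain ⟨w, hw⟩ := exists_rpi_mul_of_red G he hc hf h0
  have hw' : a = algebraMap R F G.rpi * (w : F) := congrArg Subtype.val hw
  refine ⟨w, ⟨w.2, fun P hP => ?_⟩, hw'⟩
  have h1 := ha.2 P hP
  rw [hw', map_mul, IsScalarTower.algebraMap_apply R 𝕂 F, val_algebraMap P G.rpi_K_ne_zero, one_mul] at h1
  exact h1

theorem red_chart_iff (s : κ) :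
    (∃ a, ∃ ha : a ∈ G.chart f, G.red ⟨a, ha.1⟩ = s) ↔ Reg (k := 𝕜) (G.red f) s := by
  constructor
  · rintro ⟨a, ha, rfl⟩
    obtain ⟨l, hl⟩ := exists_mem_L_of_reg G.hK.1 ha.2
    have h1 : G.red ⟨a, ha.1⟩ ∈ G.red_j ((l + 1) • poles (f : F)) 0 :=
      ⟨⟨a, ha.1⟩, rfl, by rw [pow_zero, one_mul]; exact mem_L_nsmul_poles_mono _ (by omega) hl⟩
    rw [GData.Good.red_level G he hc hf (by omega)] at h1
    exact reg_of_mem_L h1
  · intro hs
    obtain ⟨l, hl⟩ := exists_mem_L_of_reg G.hκ hs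
    have h1 : s ∈ G.red_j ((l + 1) • poles (f : F)) 0 := by
      rw [GData.Good.red_level G he hc hf (by omega)]
      exact mem_L_nsmul_poles_mono _ (by omega) hl
    obtain ⟨y, rfl, hy⟩ := h1
    rw [pow_zero, one_mul] at hy
    exact ⟨y, ⟨y.2, reg_of_mem_L hy⟩, rfl⟩

omit he hc hf in
theorem exists_pow_mem_chart {f : G.V} {a : F} (ha : Reg (k := 𝕂) (f : F) a) :
    ∃ n : ℕ, algebraMap R F G.rpi ^ n * a ∈ G.chart f := by
  obtain ⟨n, hn⟩ := G.exists_pow_mem a
  refine ⟨n, hn, ?_⟩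
  rw [← map_pow]
  exact (reg_algebraMap _ _).mul ha

end GData

end Groth.Agent.GRModel
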