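import Groth.Agent.MdlMap.Surf
import Groth.Agent.MdlHoriz.Pre
import Groth.Agent.MdlInter.Genus
import Groth.Agent.MdlInter.Exc
import Groth.Agent.ProperComp7.Main
import Groth.Agent.DimFormula.QuasiSection
import Groth.Agent.FibDim.Semicont
import Groth.Agent.RefX2.Normality

/-!
# The closed fibre of a proper flat model of a curve
-/

noncomputable section

set_option autoImplicit false
set_option linter.style.haveILetI false
set_option linter.unusedSectionVars false
set_option backward.isDefEq.respectTransparency false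
set_option backward.isDefEq.respectTransparency.types false

universe u

open CategoryTheory CategoryTheory.Limits AlgebraicGeometry TopologicalSpace

namespace Groth.Agent.GRModel

open Groth.Agent

variable {R : Type u} [CommRing R] [IsDomain R] [IsDiscreteValuationRing R]
  {C X : Scheme.{u}} [IsIntegral C] [IsIntegral X] {f : C ⟶ Spec (CommRingCat.of (FractionRing R))}
  {p : X ⟶ Spec (CommRingCat.of R)} [IsProper p] [Flat p] {g : C ⟶ X}
  (hg : IsPullback g f p (Spec.map (CommRingCat.ofHom (algebraMap R (FractionRing R)))))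
  (hdimC : topologicalKrullDim C = 1)

include hg hdimC

theorem not_isClosed_of_isMaxSpecial {y : X} (h : MdlMap.IsMaxSpecial p y) : ¬ IsClosed ({y} : Set X) := by
  intro hcl
  haveI : IsLocallyNoetherian X := LocallyOfFiniteType.isLocallyNoetherian p
  haveI := MdlMap.isOpenImmersion_iota hg
  have hη : p (genericPoint X) = (⟨⊥, Ideal.isPrime_bot⟩ : PrimeSpectrum R) := by
    have h0 : genericPoint X ∈ Set.range g := ⟨genericPoint C, genericPoint_eq_of_isOpenImmersion g⟩
    rw [MdlMap.range_iota hg] at h0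
    exact h0
  obtain ⟨z, -, hzy, hfz, hle⟩ := FibDim.exists_rd_ge p (genericPoint_specializes y : genericPoint X ⤳ y)
  have hz : z = y := h.2 z hzy (MdlRegPt.mem_F_iff.2 (hfz.trans (MdlRegPt.mem_F_iff.1 h.1)))
  have hy0 : FibDim.rd p y = 0 := DimFormula.rd_eq_zero_of_closed p fun x' _ hs => by
    have := hs.mem_closure
    rwa [hcl.closure_eq, Set.mem_singleton_iff] at this
  rw [hz, hy0] at hle
  have h3 := FibDim.dim_closure_inter p (genericPoint X)
  rw [(genericPoint_spec X).def, Set.univ_inter, hη] at h3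
  have h4 : topologicalKrullDim ↥(p ⁻¹' {(⟨⊥, Ideal.isPrime_bot⟩ : PrimeSpectrum R)}) = 1 := by
    rw [← MdlMap.range_iota hg, ← g.isEmbedding.toHomeomorph.isHomeomorph.topologicalKrullDim_eq]
    exact hdimC
  have h5 : topologicalKrullDim ↥(p ⁻¹' {(⟨⊥, Ideal.isPrime_bot⟩ : PrimeSpectrum R)}) =
      ((FibDim.rd p (genericPoint X) : ℕ∞) : WithBot ℕ∞) := h3
  rw [h4, Nat.le_zero.1 hle] at h5
  exact absurd h5 (by decide)

/-- A maximal point of the closed fibre carries a vertical curve. -/
theorem exists_vertComp_of_max {y : X} (h : MdlMap.IsMaxSpecial p y) :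
    ∃ G : ArSurf.VertComp R (Over.mk p), Set.range (MdlInter.iotaX G) = closure {y} := by
  obtain ⟨T, ι, hι, hT, hgen⟩ := MdlHoriz.exists_integral_closed y
  haveI := hι
  haveI := hT
  have hrange : Set.range ι = closure {y} := by rw [MdlInter.range_eq_closure_gen ι, hgen]
  have hfib : ∀ t, ι t ∈ Models.specialFibreSet R (Over.mk p) := fun t =>
    (Models.isClosed_specialFibreSet R (Over.mk p)).closure_subset_iff.2 (Set.singleton_subset_iff.2 h.1)
      (hrange ▸ Set.mem_range_self t)
  let φ : R →+* Γ(T, ⊤) := Coh.toGlobal (ι ≫ p)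
  have hker : ∀ a ∈ IsLocalRing.maximalIdeal R, φ a = 0 := fun a ha => by
    rw [← AlgebraicGeometry.basicOpen_eq_bot_iff]
    refine Opens.ext (Set.eq_empty_iff_forall_notMem.2 fun t ht => ?_)
    haveI : IsProper (ι ≫ p) := inferInstance
    have h2 := (ProperComp7.mem_basicOpen_toGlobal (f := ι ≫ p) a t).1 ht
    rw [show (ι ≫ p) t = IsLocalRing.closedPoint R from hfib t] at h2
    exact h2 ha
  let φ' : IsLocalRing.ResidueField R →+* Γ(T, ⊤) := Ideal.Quotient.lift (IsLocalRing.maximalIdeal R) φ hker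
  let hom' : T ⟶ Spec (CommRingCat.of (IsLocalRing.ResidueField R)) :=
    T.toSpecΓ ≫ Spec.map (CommRingCat.ofHom φ')
  have hw : ι ≫ p = hom' ≫ Spec.map (CommRingCat.ofHom (IsLocalRing.residue R)) :=
    MdlInter.ext_of_toGlobal fun a => by
      rw [MdlInter.toGlobal_comp, MdlInter.toGlobal_comp]
      exact (MdlInter.toGlobal_toSpecΓ T _).symm
  have hdim1 : topologicalKrullDim T = 1 := by
    refine le_antisymm ?_ ?_
    · rw [topologicalKrullDim, Order.krullDim_eq_of_orderIso (irreducibleSetEquivPoints (α := T)),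
        Order.krullDim_le_one_iff]
      intro b
      by_contra hcon
      push Not at hcon
      obtain ⟨hmin, hmax⟩ := hcon
      obtain ⟨c, hc⟩ := not_isMin_iff.1 hmin
      obtain ⟨a, ha⟩ := not_isMax_iff.1 hmax
      have mapι : ∀ {s t : T}, t < s → ι s ⤳ ι t ∧ ι s ≠ ι t := fun hlt =>
        ⟨(show _ ⤳ _ from hlt.le).map ι.continuous, fun e => hlt.ne (ι.isClosedEmbedding.injective e).symm⟩
      have e := MdlMap.eq_of_generalization hg hdimC.le (hfib c) (mapι hc).1 (mapι hc).2 (hfib b) (mapι ha).1 (hfib a)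
      exact (mapι ha).2 e
    · rw [topologicalKrullDim, Order.krullDim_eq_of_orderIso (irreducibleSetEquivPoints (α := T)),
        Order.one_le_krullDim_iff]
      obtain ⟨z, hz⟩ : ∃ z, z ≠ genericPoint T := by
        by_contra hcon
        push Not at hcon
        refine not_isClosed_of_isMaxSpecial hg hdimC h ?_
        have : Set.range ι = {y} := Set.eq_singleton_iff_unique_mem.2
          ⟨⟨_, hgen⟩, by rintro _ ⟨t, rfl⟩; rw [hcon t]; exact hgen⟩
        rw [← this]
        exact ι.isClosedEmbedding.isClosed_range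
      refine ⟨z, genericPoint T, lt_of_le_not_ge (genericPoint_specializes z) fun h => hz ?_⟩
      exact ((show z ⤳ genericPoint T from h).antisymm (genericPoint_specializes z)).eq
  exact ⟨⟨Over.mk hom', ι, hι, hT, hdim1, hw⟩, hrange⟩

/-- The components of the closed fibre are finitely many vertical curves. -/
theorem exists_componentList :
    ∃ (n : ℕ) (Γ : Fin n → ArSurf.VertComp R (Over.mk p)), Models.IsComponentList R (Over.mk p) Γ := by
  haveI : IsLocallyNoetherian X := LocallyOfFiniteType.isLocallyNoetherian p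
  haveI : CompactSpace X := QuasiCompact.compactSpace_of_compactSpace p
  haveI : IsNoetherian X := {}
  haveI : NoetherianSpace X := inferInstance
  let F : Set X := Models.specialFibreSet R (Over.mk p)
  have hFc : IsClosed F := Models.isClosed_specialFibreSet R (Over.mk p)
  have hcl : ∀ S ∈ Models.fibreComponents R (Over.mk p), IsClosed (S : Set X) := fun S hS =>
    closure_subset_iff_isClosed.1 (hS.2 ⟨hS.1.1.closure, hFc.closure_subset_iff.2 hS.1.2⟩ subset_closure)
  have hex : ∀ S : Models.fibreComponents R (Over.mk p), ∃ (y : X) (G : ArSurf.VertComp R (Over.mk p)),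
      IsGenericPoint y (S.1 : Set X) ∧ MdlMap.IsMaxSpecial p y ∧ Set.range (MdlInter.iotaX G) = S.1 := by
    rintro ⟨S, hS⟩
    obtain ⟨ξ, hξ⟩ := QuasiSober.sober hS.1.1 (hcl S hS)
    have hm : MdlMap.IsMaxSpecial p ξ := MdlMap.isMaxSpecial_of_mem (by rwa [hξ.def])
    obtain ⟨G, hG⟩ := exists_vertComp_of_max hg hdimC hm
    exact ⟨ξ, G, hξ, hm, hG.trans hξ.def⟩
  choose y G hy hmax hG using hex
  have hfin : (Models.fibreComponents R (Over.mk p)).Finite := by
    have h := NoetherianSpace.finite_irreducibleComponents (α := F)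
    refine (h.image (Set.image Subtype.val)).subset fun S hS => ⟨Subtype.val ⁻¹' S, ?_, ?_⟩
    · have hyF : y ⟨S, hS⟩ ∈ F := hS.1.2 (hy ⟨S, hS⟩).mem
      have hval : Subtype.val ⁻¹' S = closure ({⟨_, hyF⟩} : Set F) := by
        rw [Topology.IsInducing.subtypeVal.closure_eq_preimage_closure_image, Set.image_singleton, (hy ⟨S, hS⟩).def]
      refine ⟨hval ▸ isIrreducible_singleton.closure, fun T hT hle => ?_⟩
      have h1 : IsIrreducible (Subtype.val '' T : Set X) :=
        hT.image _ continuous_subtype_val.continuousOn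
      have h2 := hS.2 ⟨h1, fun _ ⟨w, _, hw⟩ => hw ▸ w.2⟩ (fun s hs => ⟨⟨s, hS.1.2 hs⟩, hle hs, rfl⟩)
      exact fun t ht => h2 ⟨t, ht, rfl⟩
    · rw [Subtype.image_preimage_coe, Set.inter_eq_right.2 hS.1.2]
  haveI := hfin.to_subtype
  let e := Finite.equivFin (Models.fibreComponents R (Over.mk p))
  refine ⟨Nat.card (Models.fibreComponents R (Over.mk p)), fun i => G (e.symm i),
    fun i j hij => e.symm.injective (Subtype.ext ((hG _).symm.trans (hij.trans (hG _)))), ?_⟩
  ext S
  refine ⟨fun ⟨i, hi⟩ => ?_, fun hS => ⟨e ⟨S, hS⟩, ?_⟩⟩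
  · rw [← hi]
    show Set.range (MdlInter.iotaX (G (e.symm i))) ∈ _
    rw [hG]
    exact (e.symm i).2
  · show Set.range (MdlInter.iotaX (G (e.symm (e ⟨S, hS⟩)))) = S
    rw [Equiv.symm_apply_apply]
    exact hG ⟨S, hS⟩

/-- A closed point of the closed fibre has a local ring of dimension two. -/
theorem ringKrullDim_stalk_closed {x : X} (hx : x ∈ Models.specialFibreSet R (Over.mk p))
    (hcl : IsClosed ({x} : Set X)) : ringKrullDim (X.presheaf.stalk x) = 2 := by
  haveI : IsLocallyNoetherian X := LocallyOfFiniteType.isLocallyNoetherian p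
  obtain ⟨Z, hZ, hxZ, hZc⟩ := MdlRegPt.exists_component hx
  obtain ⟨y, hy⟩ : ∃ y : X, IsGenericPoint y (Z : Set X) := QuasiSober.sober hZ.1.1 hZc
  have hm : MdlMap.IsMaxSpecial p y := MdlMap.isMaxSpecial_of_mem (by rwa [hy.def])
  have hyx : y ⤳ x := hy.specializes hxZ
  have hne : y ≠ x := fun e => not_isClosed_of_isMaxSpecial hg hdimC hm (e ▸ hcl)
  refine le_antisymm ?_ ?_
  · obtain ⟨ϖ, hϖ⟩ := IsDiscreteValuationRing.exists_irreducible R
    let π := MdlInter.pi p ϖ x
    have hπ : π ∈ IsLocalRing.maximalIdeal (X.presheaf.stalk x) :=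
      (MdlInter.isUnit_pi_iff p hϖ.maximalIdeal_eq x).2 hx
    refine le_trans (ringKrullDim_le_ringKrullDim_quotient_add_encard {π} (by
      simpa [IsLocalRing.ringJacobson_eq_maximalIdeal] using hπ)) ?_
    rw [Set.encard_singleton]
    refine le_trans (add_le_add_left (?_ : ringKrullDim (X.presheaf.stalk x ⧸ Ideal.span {π}) ≤ 1) 1) (by decide)
    rw [ringKrullDim, Order.krullDim_le_one_iff]
    intro Q
    by_contra hcon
    push Not at hcon
    obtain ⟨hmin, hmax⟩ := hcon
    obtain ⟨Q₀, hQ₀⟩ := not_isMin_iff.1 hmin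
    obtain ⟨Q₂, hQ₂⟩ := not_isMax_iff.1 hmax
    let pt : PrimeSpectrum (X.presheaf.stalk x ⧸ Ideal.span {π}) → X := fun Q =>
      X.fromSpecStalk x (⟨Q.asIdeal.comap (Ideal.Quotient.mk _), inferInstance⟩ : PrimeSpectrum (X.presheaf.stalk x))
    have hmem : ∀ Q, pt Q ∈ Models.specialFibreSet R (Over.mk p) := fun Q => by
      rw [MdlRegPt.mem_F_iff, ← Scheme.Hom.comp_apply, ← MdlMap.specMap_stalkHom]
      refine PrimeSpectrum.ext ?_
      refine ((IsLocalRing.maximalIdeal.isMaximal R).eq_of_le (Ideal.IsPrime.ne_top inferInstance) ?_).symm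
      rw [hϖ.maximalIdeal_eq, Ideal.span_le, Set.singleton_subset_iff]
      show Ideal.Quotient.mk _ π ∈ Q.asIdeal
      rw [Ideal.Quotient.eq_zero_iff_mem.2 (Ideal.mem_span_singleton_self π)]
      exact zero_mem _
    have hlt : ∀ {Q Q' : PrimeSpectrum (X.presheaf.stalk x ⧸ Ideal.span {π})}, Q < Q' →
        pt Q ⤳ pt Q' ∧ pt Q ≠ pt Q' := fun {Q Q'} h => by
      refine ⟨(((PrimeSpectrum.le_iff_specializes
        (⟨Q.asIdeal.comap (Ideal.Quotient.mk _), inferInstance⟩ : PrimeSpectrum (X.presheaf.stalk x))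
        ⟨Q'.asIdeal.comap (Ideal.Quotient.mk _), inferInstance⟩).1 (Ideal.comap_mono h.le)).map
        (X.fromSpecStalk x).continuous), fun e => h.ne ?_⟩
      refine PrimeSpectrum.ext (Ideal.comap_injective_of_surjective _ Ideal.Quotient.mk_surjective ?_)
      exact congrArg PrimeSpectrum.asIdeal ((X.fromSpecStalk x).isEmbedding.injective e)
    exact (hlt hQ₀).2 (MdlMap.eq_of_generalization hg hdimC.le (hmem Q₂) (hlt hQ₂).1 (hlt hQ₂).2 (hmem Q)
      (hlt hQ₀).1 (hmem Q₀))
  · rw [ringKrullDim_stalk_eq_coheight]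
    have h1 : x < y := lt_of_le_not_ge hyx fun h => hne (hyx.antisymm h).eq
    have hη : y < genericPoint X := lt_of_le_not_ge (genericPoint_specializes y) fun h => by
      have e : y = genericPoint X := ((show y ⤳ genericPoint X from h).antisymm (genericPoint_specializes y)).eq
      haveI := MdlMap.isOpenImmersion_iota hg
      have hb : y ∈ p ⁻¹' {(⟨⊥, Ideal.isPrime_bot⟩ : PrimeSpectrum R)} := by
        rw [← MdlMap.range_iota hg, e]
        exact ⟨genericPoint C, genericPoint_eq_of_isOpenImmersion g⟩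
      have h2 : IsLocalRing.maximalIdeal R = (⊥ : Ideal R) :=
        congrArg PrimeSpectrum.asIdeal ((MdlRegPt.mem_F_iff.1 hm.1).symm.trans hb)
      exact IsDiscreteValuationRing.not_a_field R h2
    have e2 := Order.coheight_add_one_le h1
    have e3 := Order.coheight_add_one_le hη
    have : (2 : ℕ∞) ≤ Order.coheight x := by
      refine le_trans ?_ e2
      refine le_trans ?_ (add_le_add_left e3 1)
      rw [show (2 : ℕ∞) = 0 + 1 + 1 by norm_num]
      exact add_le_add_left (add_le_add_left bot_le 1) 1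
    exact WithBot.coe_le_coe.2 this

end Groth.Agent.GRModel
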